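import Cfsg.Agent.Lib.U3Even.Sylow
import Cfsg.Agent.S0283

/-!
# Recognition of `PSU(3, q)` on its unital, `q` even

A faithful permutation group on a copy of the unital generated by the translations and the standard
involution is isomorphic to `PSU(3, q)`.
-/

set_option autoImplicit false
set_option linter.style.haveILetI false
set_option linter.unusedSectionVars false

namespace Cfsg.Lib.RankOneSuzuki

open Matrix Cfsg.Lib.Spec.UThree Cfsg.Lib.U3Even

/-- The points of the unital. -/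
def UPt (F : Type*) [Field F] (q : ℕ) : Type _ :=
  Option {p : F × F // p.2 ^ q + p.2 = p.1 ^ (q + 1)}

variable {F : Type*} [Field F] [Fintype F] {n : ℕ}

namespace UPt

/-- An affine point of the unital. -/
def mk (a Z : F) (h : Z ^ (2 ^ n) + Z = a ^ (2 ^ n + 1)) : UPt F (2 ^ n) := some ⟨(a, Z), h⟩

/-- The point at infinity. -/
def inf : UPt F (2 ^ n) := none

theorem cases (x : UPt F (2 ^ n)) : x = inf ∨ ∃ a Z h, x = mk a Z h := by
  rcases x with _ | ⟨⟨a, Z⟩, h⟩
  · exact .inl rfl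
  · exact .inr ⟨a, Z, h, rfl⟩

theorem mk_congr {a Z a' Z' : F} {h h'} (e1 : a = a') (e2 : Z = Z') :
    (mk a Z h : UPt F (2 ^ n)) = mk a' Z' h' := by subst e1 e2; rfl

/-- The vector of a point. -/
def vec : UPt F (2 ^ n) → Fin 3 → F
  | none => ![1, 0, 0]
  | some p => ![p.1.2, p.1.1 ^ (2 ^ n), 1]

theorem vec_inf : vec (inf : UPt F (2 ^ n)) = ![1, 0, 0] := rfl

theorem vec_mk {a Z : F} {h} : vec (mk a Z h : UPt F (2 ^ n)) = ![Z, a ^ (2 ^ n), 1] := rfl

theorem vec_inj (hF : Fintype.card F = (2 ^ n) ^ 2) {x y : UPt F (2 ^ n)} {c : F} (hc : c ≠ 0)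
    (h : vec x = c • vec y) : x = y := by
  rcases x.cases with rfl | ⟨a, Z, hx, rfl⟩ <;> rcases y.cases with rfl | ⟨a', Z', hy, rfl⟩
  · rfl
  · have := congrFun h 2
    simp [vec_inf, vec_mk] at this
    exact absurd this.symm hc
  · have := congrFun h 2
    simp [vec_inf, vec_mk] at this
  · have e2 : c = 1 := by
      have := congrFun h 2
      simpa [vec_mk] using this.symm
    subst e2
    rw [one_smul] at h
    refine mk_congr ?_ (by simpa [vec_mk] using congrFun h 0)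
    have e1 : a ^ (2 ^ n) = a' ^ (2 ^ n) := by simpa [vec_mk] using congrFun h 1
    rw [← frob_frob hF a, e1, frob_frob hF]

/-- An isotropic vector is the vector of a point up to a scalar. -/
theorem exists_vec (hn : 1 ≤ n) (hF : Fintype.card F = (2 ^ n) ^ 2) (v : Fin 3 → F) (hv : v ≠ 0)
    (h : v 0 * v 2 ^ (2 ^ n) + v 1 * v 1 ^ (2 ^ n) + v 2 * v 0 ^ (2 ^ n) = 0) :
    ∃ (x : UPt F (2 ^ n)) (c : F), c ≠ 0 ∧ v = c • vec x := by
  have hq : 2 ^ n ≠ 0 := by positivity
  by_cases h2 : v 2 = 0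
  · rw [h2, zero_pow hq] at h
    have h1 : v 1 = 0 := by
      simp only [mul_zero, zero_add, zero_mul, add_zero] at h
      rcases mul_eq_zero.1 h with e | e
      · exact e
      · exact eq_zero_of_pow_eq_zero e
    refine ⟨inf, v 0, fun h0 => hv ?_, ?_⟩
    · funext i; fin_cases i <;> simp [h0, h1, h2]
    · funext i; fin_cases i <;> simp [vec_inf, h1, h2]
  · obtain ⟨A, hA⟩ : ∃ A, A = (v 1 / v 2) ^ (2 ^ n) := ⟨_, rfl⟩
    have hA' : A ^ (2 ^ n) = v 1 / v 2 := by rw [hA, frob_frob hF]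
    refine ⟨mk A (v 0 / v 2) ?_, v 2, h2, ?_⟩
    · rw [pow_succ A, hA', hA, div_pow, div_pow]
      have hd : v 2 ^ (2 ^ n) ≠ 0 := pow_ne_zero _ h2
      field_simp
      linear_combination h - v 1 * v 1 ^ (2 ^ n) * two_eq_zero hn hF
    · funext i
      fin_cases i <;> simp [vec_mk, hA', mul_div_cancel₀, h2]

end UPt

/-- The group `SU(3, q)` in the coordinates of the anti-diagonal form. -/
theorem exists_chart (hn : 1 ≤ n) (hF : Fintype.card F = (2 ^ n) ^ 2) :
    ∃ c : Cfsg.SU 3 F (2 ^ n) →* Matrix (Fin 3) (Fin 3) F, Function.Injective c ∧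
      (∀ g, (c g)ᵀ * antiDiag F * (c g).map (· ^ (2 ^ n)) = antiDiag F) ∧
      (∀ g, (c g).det = 1) ∧
      (∀ M : Matrix (Fin 3) (Fin 3) F, M.det = 1 →
        Mᵀ * antiDiag F * M.map (· ^ (2 ^ n)) = antiDiag F → ∃ g, c g = M) ∧
      ∀ g, g ∈ Subgroup.center (Cfsg.SU 3 F (2 ^ n)) → ∃ k : F, c g = Matrix.scalar (Fin 3) k := by
  classical
  have hq0 : 2 ^ n ≠ 0 := by positivity
  have t2 := two_eq_zero hn hF
  obtain ⟨θ, hθ⟩ := exists_tr hn hF (show (1 : F) ^ (2 ^ n) = 1 from one_pow _)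
  let P : Matrix (Fin 3) (Fin 3) F := !![1, 0, θ; 1, 0, θ + 1; 0, 1, 0]
  let P' : Matrix (Fin 3) (Fin 3) F := !![1 + θ, θ, 0; 0, 0, 1; 1, 1, 0]
  have h1 : P * P' = 1 := by
    ext i j
    fin_cases i <;> fin_cases j <;> simp [P, P', Matrix.mul_apply, Fin.sum_univ_three] <;> grind
  have h1' : P' * P = 1 := mul_eq_one_comm.1 h1
  have hθ1 : (θ + 1) ^ (2 ^ n) = θ ^ (2 ^ n) + 1 := by rw [frob_add hn hF, one_pow]
  have hform : Pᵀ * P.map (· ^ (2 ^ n)) = antiDiag F := by
    ext i j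
    fin_cases i <;> fin_cases j <;>
      simp [P, antiDiag, Matrix.mul_apply, Fin.sum_univ_three, hθ1, zero_pow hq0] <;> grind
  have hmap1 : (1 : Matrix (Fin 3) (Fin 3) F).map (· ^ (2 ^ n)) = 1 := by
    ext i j
    simp only [Matrix.map_apply, Matrix.one_apply]
    split_ifs <;> simp [zero_pow hq0]
  have e4 : P'ᵀ * antiDiag F * P'.map (· ^ (2 ^ n)) = 1 := by
    rw [← hform, ← Matrix.mul_assoc, ← Matrix.transpose_mul, h1, Matrix.transpose_one, Matrix.one_mul,
      ← map_pow_mul hF, h1, hmap1]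
  have hsmul : ∀ g h : Cfsg.SU 3 F (2 ^ n), smat (g * h) = smat g * smat h := fun _ _ => rfl
  let c : Cfsg.SU 3 F (2 ^ n) →* Matrix (Fin 3) (Fin 3) F :=
    { toFun := fun g => P' * smat g * P
      map_one' := by rw [show smat (1 : Cfsg.SU 3 F (2 ^ n)) = 1 from rfl, Matrix.mul_one, h1']
      map_mul' := fun g h => by
        rw [hsmul]
        calc P' * (smat g * smat h) * P = P' * smat g * 1 * smat h * P := by
              simp only [Matrix.mul_one, Matrix.mul_assoc]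
          _ = _ := by rw [← h1]; simp only [Matrix.mul_assoc] }
  have hback : ∀ M : Matrix (Fin 3) (Fin 3) F, P * (P' * M * P) * P' = M := fun M => by
    calc P * (P' * M * P) * P' = (P * P') * M * (P * P') := by simp only [Matrix.mul_assoc]
      _ = M := by rw [h1, Matrix.one_mul, Matrix.mul_one]
  refine ⟨c, fun g h e => ?_, fun g => ?_, fun g => ?_, fun M hdet hM => ?_, fun g hg => ?_⟩
  · have e' : smat g = smat h := by
      rw [← hback (smat g), ← hback (smat h)]; exact congrArg (fun M => P * M * P') e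
    exact Subtype.ext (Subtype.ext e')
  · have hg : (smat g)ᵀ * (smat g).map (· ^ (2 ^ n)) = 1 := by
      have h := congrArg Matrix.transpose (smat_form hF g)
      rwa [Matrix.transpose_mul, Matrix.transpose_one, Matrix.transpose_transpose] at h
    show (P' * smat g * P)ᵀ * antiDiag F * (P' * smat g * P).map (· ^ (2 ^ n)) = antiDiag F
    calc (P' * smat g * P)ᵀ * antiDiag F * (P' * smat g * P).map (· ^ (2 ^ n))
        = Pᵀ * ((smat g)ᵀ * (P'ᵀ * antiDiag F * P'.map (· ^ (2 ^ n))) *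
            (smat g).map (· ^ (2 ^ n))) * P.map (· ^ (2 ^ n)) := by
          simp only [Matrix.transpose_mul, map_pow_mul hF, Matrix.mul_assoc]
      _ = antiDiag F := by rw [e4, Matrix.mul_one, hg, Matrix.mul_one, hform]
  · show (P' * smat g * P).det = 1
    rw [Matrix.det_mul, Matrix.det_mul, smat_det, mul_one, ← Matrix.det_mul, h1', Matrix.det_one]
  · obtain ⟨g, hg⟩ := exists_of_form hF (P * M * P') (by
      rw [Matrix.det_mul, Matrix.det_mul, hdet, mul_one, ← Matrix.det_mul, h1, Matrix.det_one]) (by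
      calc (P * M * P')ᵀ * (P * M * P').map (· ^ (2 ^ n))
          = P'ᵀ * (Mᵀ * (Pᵀ * P.map (· ^ (2 ^ n))) * M.map (· ^ (2 ^ n))) * P'.map (· ^ (2 ^ n)) := by
            simp only [Matrix.transpose_mul, map_pow_mul hF, Matrix.mul_assoc]
        _ = 1 := by rw [hform, hM, e4])
    refine ⟨g, ?_⟩
    show P' * smat g * P = M
    rw [hg]
    calc P' * (P * M * P') * P = (P' * P) * M * (P' * P) := by simp only [Matrix.mul_assoc]
      _ = M := by rw [h1', Matrix.one_mul, Matrix.mul_one]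
  · obtain ⟨k, hk⟩ := Cfsg.Lib.Linear.Herm.exists_scalar hF (by norm_num) (smat g) fun B hB => by
      have h := Subgroup.mem_center_iff.1 hg ⟨B, hB⟩
      exact congrArg smat h
    refine ⟨k, ?_⟩
    show P' * smat g * P = _
    rw [hk, Matrix.mul_assoc, (Matrix.scalar_commute k (Commute.all k) P).eq, ← Matrix.mul_assoc, h1',
      Matrix.one_mul]

set_option maxHeartbeats 1000000 in
/-- Recognition of `PSU(3, q)` on its unital. -/
theorem iso_psu (hn : 2 ≤ n) (hF : Fintype.card F = (2 ^ n) ^ 2) {L X : Type*} [Group L] [MulAction L X]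
    [FaithfulSMul L X] (θ : UPt F (2 ^ n) ≃ X) (u : ∀ c Y : F, Y ^ (2 ^ n) + Y = c ^ (2 ^ n + 1) → L)
    (τ : L)
    (hu0 : ∀ c Y h, u c Y h • θ .inf = θ .inf)
    (hu : ∀ c Y h a Z (hZ : Z ^ (2 ^ n) + Z = a ^ (2 ^ n + 1)) (a' Z' : F) (h'),
      a' = a + c → Z' = Z + Y + c * a ^ (2 ^ n) → u c Y h • θ (.mk a Z hZ) = θ (.mk a' Z' h'))
    (hτ0 : ∀ h, τ • θ .inf = θ (.mk 0 0 h))
    (hτ1 : ∀ h, τ • θ (.mk 0 0 h) = θ .inf)
    (hτ : ∀ a Z h (a' Z' : F) h', Z ≠ 0 → a' = a / Z ^ (2 ^ n) → Z' = 1 / Z →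
      τ • θ (.mk a Z h) = θ (.mk a' Z' h'))
    (hgen : Subgroup.closure ({g | ∃ c Y h, u c Y h = g} ∪ {τ}) = ⊤) :
    Nonempty (L ≃* Cfsg.PSU 3 F (2 ^ n)) := by
  classical
  have hn1 : 1 ≤ n := by omega
  have hq0 : 2 ^ n ≠ 0 := by positivity
  have t2 := two_eq_zero hn1 hF
  have hff := frob_frob (n := n) hF
  have hfa := frob_add (n := n) hn1 hF
  have h00 : (0 : F) ^ (2 ^ n) + 0 = 0 ^ (2 ^ n + 1) := by simp [zero_pow hq0]
  obtain ⟨c, cinj, cform, cdet, cex, ccen⟩ := exists_chart hn1 hF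
  let R : Subgroup (Cfsg.SU 3 F (2 ^ n) × L) :=
    { carrier := {p | ∀ x, ∃ k : F, k ≠ 0 ∧ c p.1 *ᵥ UPt.vec x = k • UPt.vec (θ.symm (p.2 • θ x))}
      one_mem' := fun x => ⟨1, one_ne_zero, by simp⟩
      mul_mem' := by
        intro p p' hp hp' x
        obtain ⟨k, hk, e⟩ := hp' x
        obtain ⟨k', hk', e'⟩ := hp (θ.symm (p'.2 • θ x))
        refine ⟨k * k', mul_ne_zero hk hk', ?_⟩
        rw [θ.apply_symm_apply] at e'
        rw [Prod.fst_mul, map_mul, ← Matrix.mulVec_mulVec, e, Matrix.mulVec_smul, e',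
          Prod.snd_mul, mul_smul p.2]
        exact smul_smul _ _ _
      inv_mem' := by
        intro p hp x
        obtain ⟨k, hk, e⟩ := hp (θ.symm (p.2⁻¹ • θ x))
        refine ⟨k⁻¹, inv_ne_zero hk, ?_⟩
        rw [θ.apply_symm_apply, smul_inv_smul, θ.symm_apply_apply] at e
        have e' := congrArg (c p.1⁻¹ *ᵥ ·) e
        simp only [Matrix.mulVec_mulVec, ← map_mul, inv_mul_cancel, map_one, Matrix.one_mulVec,
          Matrix.mulVec_smul] at e'
        rw [Prod.fst_inv, Prod.snd_inv, e', smul_smul, inv_mul_cancel₀ hk, one_smul] }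
  have mkR : ∀ g l, (∀ x, ∃ k : F, k ≠ 0 ∧ ∃ y, l • θ x = θ y ∧ c g *ᵥ UPt.vec x = k • UPt.vec y) →
      (g, l) ∈ R := by
    intro g l h x
    obtain ⟨k, hk, y, hy, e⟩ := h x
    exact ⟨k, hk, by show _ = k • UPt.vec (θ.symm (l • θ x)); rw [hy, θ.symm_apply_apply, e]⟩
  -- translations
  have huR : ∀ a b h, ∃ g, c g = um (2 ^ n) a b ∧ (g, u a b h) ∈ R := by
    intro a b h
    have hqq := hff a
    obtain ⟨g, hg⟩ := cex (um (2 ^ n) a b) (by simp [um, Matrix.det_fin_three]) (by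
      have h' := h
      rw [pow_succ] at h'
      ext i j
      fin_cases i <;> fin_cases j <;>
        simp [um, antiDiag, Matrix.mul_apply, Fin.sum_univ_three, zero_pow hq0, hqq] <;> grind)
    refine ⟨g, hg, mkR _ _ fun x => ?_⟩
    rcases x.cases with rfl | ⟨A, Z, hZ, rfl⟩
    · refine ⟨1, one_ne_zero, _, hu0 a b h, ?_⟩
      rw [hg]; ext i; fin_cases i <;> simp [UPt.vec_inf, um, Matrix.vecHead, Matrix.vecTail]
    · have h' : (Z + b + a * A ^ (2 ^ n)) ^ (2 ^ n) + (Z + b + a * A ^ (2 ^ n)) = (A + a) ^ (2 ^ n + 1) := by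
        rw [hfa, hfa, mul_pow, hff, pow_succ, hfa]
        rw [pow_succ] at h hZ
        linear_combination h + hZ
      refine ⟨1, one_ne_zero, _, hu a b h A Z hZ _ _ h' rfl rfl, ?_⟩
      rw [hg]; ext i; fin_cases i <;>
        simp [UPt.vec_mk, um, Matrix.vecHead, Matrix.vecTail, hfa] <;> ring
  -- the involution
  have hwR : ∃ g, c g = antiDiag F ∧ (g, τ) ∈ R := by
    obtain ⟨g, hg⟩ := cex (antiDiag F) (by
      simp [antiDiag, Matrix.det_fin_three]; linear_combination -t2) (by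
      ext i j
      fin_cases i <;> fin_cases j <;>
        simp [antiDiag, Matrix.mul_apply, Fin.sum_univ_three, zero_pow hq0])
    refine ⟨g, hg, mkR _ _ fun x => ?_⟩
    rcases x.cases with rfl | ⟨A, Z, hZ, rfl⟩
    · refine ⟨1, one_ne_zero, _, hτ0 h00, ?_⟩
      rw [hg]; ext i; fin_cases i <;>
        simp [UPt.vec_inf, UPt.vec_mk, antiDiag, zero_pow hq0, Matrix.vecHead, Matrix.vecTail]
    · by_cases hZ0 : Z = 0
      · subst hZ0
        have hA : A = 0 := eq_zero_of_pow_eq_zero (hZ.symm.trans (by simp [zero_pow hq0]))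
        subst hA
        refine ⟨1, one_ne_zero, _, hτ1 hZ, ?_⟩
        rw [hg]; ext i; fin_cases i <;>
          simp [UPt.vec_inf, UPt.vec_mk, antiDiag, zero_pow hq0, Matrix.vecHead, Matrix.vecTail]
      · have hZq : Z ^ (2 ^ n) ≠ 0 := pow_ne_zero _ hZ0
        have h' : (1 / Z) ^ (2 ^ n) + 1 / Z = (A / Z ^ (2 ^ n)) ^ (2 ^ n + 1) := by
          rw [pow_succ, div_pow, div_pow, hff, one_pow]
          rw [pow_succ] at hZ
          field_simp
          linear_combination hZ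
        refine ⟨Z, hZ0, _, hτ A Z hZ _ _ h' hZ0 rfl rfl, ?_⟩
        rw [hg]; ext i; fin_cases i <;>
          simp [UPt.vec_mk, antiDiag, Matrix.vecHead, Matrix.vecTail, div_pow, hff, mul_div_cancel₀, hZ0]
  let pr : Cfsg.SU 3 F (2 ^ n) × L →* Cfsg.SU 3 F (2 ^ n) := MonoidHom.fst _ _
  -- every element of `L` has a matrix
  have hsurjL : ∀ l : L, ∃ g, (g, l) ∈ R := by
    intro l
    have hl : l ∈ R.map (MonoidHom.snd _ _) := by
      have hle : Subgroup.closure ({g | ∃ c Y h, u c Y h = g} ∪ {τ}) ≤ R.map (MonoidHom.snd _ _) := by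
        rw [Subgroup.closure_le]
        rintro _ (⟨a, b, h, rfl⟩ | e)
        · obtain ⟨g, -, hg⟩ := huR a b h; exact ⟨_, hg, rfl⟩
        · obtain ⟨g, -, hg⟩ := hwR
          exact ⟨_, hg, (Set.mem_singleton_iff.1 e).symm⟩
      exact hle (hgen ▸ Subgroup.mem_top l)
    obtain ⟨p, hp, rfl⟩ := hl
    exact ⟨p.1, hp⟩
  -- every point is the image of the point at infinity
  have htrans : ∀ x, ∃ g l, (g, l) ∈ R ∧ l • θ .inf = θ x := by
    intro x
    rcases x.cases with rfl | ⟨A, Z, hZ, rfl⟩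
    · exact ⟨1, 1, one_mem R, one_smul _ _⟩
    · obtain ⟨g₁, -, h1⟩ := huR A Z hZ
      obtain ⟨g₂, -, h2⟩ := hwR
      refine ⟨g₁ * g₂, u A Z hZ * τ, mul_mem h1 h2, ?_⟩
      rw [mul_smul, hτ0 h00]
      exact hu A Z hZ 0 0 h00 A Z hZ (by rw [zero_add]) (by rw [zero_pow hq0]; ring)
  -- a central element of the translations
  obtain ⟨g₀, hg₀, hg₀R⟩ := huR 0 1 (by simp [zero_pow hq0]; linear_combination t2)
  let H := R.map pr
  let T : Set (Cfsg.SU 3 F (2 ^ n)) := {g | ∃ Y : F, c g = um (2 ^ n) 0 Y}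
  have hTH : T ⊆ H := by
    rintro g ⟨Y, hY⟩
    have hY' : Y ^ (2 ^ n) + Y = (0 : F) ^ (2 ^ n + 1) := by
      have := congrFun (congrFun (cform g) 2) 2
      rw [hY] at this
      simpa [um, antiDiag, Matrix.mul_apply, Fin.sum_univ_three, zero_pow hq0, add_comm] using this
    obtain ⟨g', hg', hR⟩ := huR 0 Y hY'
    exact ⟨_, hR, cinj (hg'.trans hY.symm)⟩
  have hnc : Subgroup.normalClosure T ≤ H := by
    refine (Subgroup.closure_le _).2 fun x hx => ?_
    rw [Group.mem_conjugatesOfSet_iff] at hx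
    obtain ⟨g₁, hg₁, hc⟩ := hx
    obtain ⟨g, rfl⟩ := isConj_iff.1 hc
    obtain ⟨Y, hY⟩ := hg₁
    -- the image of the point at infinity under `g`
    set v : Fin 3 → F := fun i => c g i 0 with hv
    have hv0 : v ≠ 0 := by
      intro e
      have : (c g).det = 0 := Matrix.det_eq_zero_of_column_eq_zero 0 fun i => congrFun e i
      rw [cdet] at this; exact one_ne_zero this
    obtain ⟨x, k, hk, hvx⟩ := UPt.exists_vec hn1 hF v hv0 (by
      have := congrFun (congrFun (cform g) 0) 0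
      simp [antiDiag, Matrix.mul_apply, Fin.sum_univ_three] at this
      linear_combination this)
    obtain ⟨h, l, hR, hl⟩ := htrans x
    obtain ⟨k', hk', hh⟩ := hR .inf
    rw [show (h, l).2 • θ .inf = θ x from hl, θ.symm_apply_apply] at hh
    obtain ⟨b, hb⟩ : ∃ b, b = h⁻¹ * g := ⟨_, rfl⟩
    have hb0 : ∀ i, c b i 0 = (k / k') * (![1, 0, 0] : Fin 3 → F) i := by
      intro i
      have e1 : c g *ᵥ ![1, 0, 0] = v := by
        funext j; simp [v, Matrix.mulVec, dotProduct, Fin.sum_univ_three]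
      have e2 : c b *ᵥ ![1, 0, 0] = (k / k') • (![1, 0, 0] : Fin 3 → F) := by
        have e3 := congrArg (c h⁻¹ *ᵥ ·) hh
        simp only [Matrix.mulVec_mulVec, ← map_mul, inv_mul_cancel, map_one, Matrix.one_mulVec,
          Matrix.mulVec_smul, UPt.vec_inf] at e3
        rw [hb, map_mul, ← Matrix.mulVec_mulVec, e1, hvx, Matrix.mulVec_smul, e3, smul_smul,
          div_mul_cancel₀ k hk']
      simpa [Matrix.mulVec, dotProduct, Fin.sum_univ_three] using congrFun e2 i
    obtain ⟨α, hα⟩ : ∃ α, α = k / k' := ⟨_, rfl⟩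
    have hα0 : α ≠ 0 := hα ▸ div_ne_zero hk hk'
    have b00 : c b 0 0 = α := by simpa [hα] using hb0 0
    have b10 : c b 1 0 = 0 := by simpa using hb0 1
    have b20 : c b 2 0 = 0 := by simpa using hb0 2
    have hrow : ∀ j, α * c b 2 j ^ (2 ^ n) = antiDiag F 0 j := fun j => by
      have := congrFun (congrFun (cform b) 0) j
      simpa [antiDiag, Matrix.mul_apply, Fin.sum_univ_three, b00, b10, b20] using this
    have b21 : c b 2 1 = 0 := by simpa [antiDiag, hα0] using hrow 1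
    have b22 : α * c b 2 2 ^ (2 ^ n) = 1 := by simpa [antiDiag] using hrow 2
    have b22' : c b 2 2 * α ^ (2 ^ n) = 1 := by
      have := congrArg (· ^ (2 ^ n)) b22
      simp only [mul_pow, hff, one_pow] at this
      linear_combination this
    -- conjugation by `b` preserves the set `T`
    have hconj : c (b * g₁ * b⁻¹) = um (2 ^ n) 0 (α * α ^ (2 ^ n) * Y) := by
      have e : c b * um (2 ^ n) 0 Y = um (2 ^ n) 0 (α * α ^ (2 ^ n) * Y) * c b := by
        ext i j
        fin_cases i <;> fin_cases j <;>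
          simp [um, Matrix.mul_apply, Fin.sum_univ_three, b00, b10, b20, b21, zero_pow hq0]
        linear_combination (-(α * Y)) * b22'
      rw [map_mul, map_mul, hY, e, Matrix.mul_assoc, ← map_mul, mul_inv_cancel, map_one, Matrix.mul_one]
    have hhH : h ∈ H := ⟨_, hR, rfl⟩
    have := mul_mem (mul_mem hhH (hTH ⟨_, hconj⟩)) (inv_mem hhH)
    rw [SetLike.mem_coe]
    rwa [show h * (b * g₁ * b⁻¹) * h⁻¹ = g * g₁ * g⁻¹ by rw [hb]; group] at this
  -- the kernel
  have hscal : ∀ g, (g, 1) ∈ R → g ∈ Subgroup.center (Cfsg.SU 3 F (2 ^ n)) := by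
    intro g hg
    have hfix : ∀ x, ∃ k : F, k ≠ 0 ∧ c g *ᵥ UPt.vec x = k • UPt.vec x := fun x => by
      simpa using hg x
    obtain ⟨α, -, h0⟩ := hfix .inf
    obtain ⟨γ, -, h2⟩ := hfix (.mk 0 0 h00)
    obtain ⟨Z₁, hZ₁⟩ := exists_point hn1 hF (1 : F)
    obtain ⟨y, -, h3⟩ := hfix (.mk 1 Z₁ hZ₁)
    have hZ₂ : (Z₁ + 1) ^ (2 ^ n) + (Z₁ + 1) = (1 : F) ^ (2 ^ n + 1) := by
      rw [hfa, one_pow]; rw [one_pow] at hZ₁ ⊢; linear_combination hZ₁ + t2
    obtain ⟨y', -, h4⟩ := hfix (.mk 1 (Z₁ + 1) hZ₂)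
    obtain ⟨z, hz, hzz⟩ := Cfsg.Lib.Linear.Herm.exists_norm_one_sq_ne hF
    obtain ⟨Z₃, hZ₃⟩ := exists_point hn1 hF z
    obtain ⟨y'', -, h5⟩ := hfix (.mk z Z₃ hZ₃)
    have E : ∀ {v : Fin 3 → F} {r : F}, c g *ᵥ v = r • v →
        ∀ i, c g i 0 * v 0 + c g i 1 * v 1 + c g i 2 * v 2 = r * v i := fun e i => by
      simpa [Matrix.mulVec, dotProduct, Fin.sum_univ_three] using congrFun e i
    have a0 := E h0; have a2 := E h2; have a3 := E h3; have a4 := E h4; have a5 := E h5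
    simp [UPt.vec_inf, UPt.vec_mk, zero_pow hq0, Fin.forall_fin_succ] at a0 a2 a3 a4 a5
    obtain ⟨c00, c10, c20⟩ := a0
    obtain ⟨c02, c12, c22⟩ := a2
    obtain ⟨r30, r31, r32⟩ := a3
    obtain ⟨r40, r41, r42⟩ := a4
    obtain ⟨r50, r51, r52⟩ := a5
    rw [c00, c02] at r30 r40 r50
    rw [c10, c12] at r31 r41 r51
    rw [c20, c22] at r32 r42 r52
    simp only [zero_mul, zero_add, add_zero] at r30 r40 r31 r41 r32 r42 r51 r52
    have hyy : y' = y := r41.symm.trans r31
    rw [hyy] at r40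
    have hαy : α = y := by linear_combination r40 - r30
    have hc01 : c g 0 1 = 0 := by rw [hαy] at r30; linear_combination r30
    have hz0 : z ^ (2 ^ n) ≠ 0 := pow_ne_zero _ fun e => by simp [e] at hz
    have hz1 : z ^ (2 ^ n) ≠ 1 := fun e => by
      have := hff z; rw [e, one_pow] at this; subst this; simp at hzz
    have hy'' : y'' = y := by
      refine mul_right_cancel₀ hz0 ?_
      rw [← r31]; linear_combination -r51
    rw [hy''] at r52
    have hc21 : c g 2 1 = 0 := by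
      refine (mul_eq_zero.1 (?_ : c g 2 1 * (z ^ (2 ^ n) - 1) = 0)).resolve_right (sub_ne_zero.2 hz1)
      linear_combination r52 - r32
    have hγy : γ = y := by rw [hc21] at r32; linear_combination r32
    have hcg : c g = Matrix.scalar (Fin 3) y := by
      ext i j
      fin_cases i <;> fin_cases j <;>
        simp [c00, c10, c20, c02, c12, c22, hc01, hc21, hαy, hγy, r31]
    exact Subgroup.mem_center_iff.2 fun h => cinj (by
      rw [map_mul, map_mul, hcg, (Matrix.scalar_commute y (Commute.all y) (c h)).eq])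
  -- surjectivity on `SU`
  have hsurjS : ∀ g, g ∈ Subgroup.center (Cfsg.SU 3 F (2 ^ n)) → (g, (1 : L)) ∈ R := by
    intro g hg
    obtain ⟨k, hk⟩ := ccen g hg
    have hk0 : k ≠ 0 := fun e => one_ne_zero (α := F) (by
      rw [← cdet g, hk, e]; simp)
    refine mkR _ _ fun x => ⟨k, hk0, x, one_smul _ _, ?_⟩
    rw [hk]; ext i; simp [Matrix.scalar_apply, Matrix.mulVec_diagonal]
  haveI := Cfsg.Agent.S0283.result hF 3 le_rfl (fun e => by
    have : 2 ^ 2 ≤ 2 ^ n := Nat.pow_le_pow_right (by norm_num) hn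
    omega)
  have hH : H = ⊤ := by
    set Z := Subgroup.center (Cfsg.SU 3 F (2 ^ n))
    have hZH : Z ≤ H := fun g hg => ⟨_, hsurjS g hg, rfl⟩
    have hM : (Subgroup.normalClosure T).map (QuotientGroup.mk' Z) = ⊤ := by
      refine (Subgroup.Normal.eq_bot_or_eq_top
        (Subgroup.Normal.map inferInstance _ (QuotientGroup.mk'_surjective Z))).resolve_left fun hbot => ?_
      have h0 : g₀ ∈ Z := by
        rw [← QuotientGroup.ker_mk' Z, MonoidHom.mem_ker, ← Subgroup.mem_bot, ← hbot]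
        exact ⟨g₀, Subgroup.subset_normalClosure ⟨1, hg₀⟩, rfl⟩
      obtain ⟨k, hk⟩ := ccen g₀ h0
      have := congrFun (congrFun (hg₀.symm.trans hk) 0) 2
      simp [um] at this
    refine eq_top_iff.2 fun g _ => ?_
    obtain ⟨g', hg', e⟩ : (QuotientGroup.mk' Z g) ∈ (Subgroup.normalClosure T).map (QuotientGroup.mk' Z) :=
      hM ▸ Subgroup.mem_top _
    obtain ⟨z, hz, rfl⟩ := (QuotientGroup.mk'_eq_mk' Z).1 e
    exact mul_mem (hnc hg') (hZH hz)
  -- `L` is determined by the matrix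
  have huniq : ∀ g l, (g, l) ∈ R → g = 1 → l = 1 := by
    rintro g l hR rfl
    refine FaithfulSMul.eq_of_smul_eq_smul (α := X) fun x => ?_
    obtain ⟨k, hk, e⟩ := hR (θ.symm x)
    simp only [map_one, Matrix.one_mulVec, θ.apply_symm_apply] at e
    rw [one_smul]
    exact (θ.symm.injective (UPt.vec_inj hF hk e)).symm
  have hex : ∀ g, ∃ l, (g, l) ∈ R := fun g => by
    obtain ⟨p, hp, rfl⟩ : g ∈ H := hH ▸ Subgroup.mem_top g
    exact ⟨p.2, hp⟩
  choose φ hφ using hex
  have huniq' : ∀ g l, (g, l) ∈ R → φ g = l := by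
    intro g l hR
    have h := huniq _ _ (mul_mem (hφ g) (inv_mem hR)) (mul_inv_cancel g)
    exact mul_inv_eq_one.1 h
  let Φ : Cfsg.SU 3 F (2 ^ n) →* L :=
    { toFun := φ
      map_one' := huniq' 1 1 (one_mem R)
      map_mul' := fun g g' => huniq' _ _ (mul_mem (hφ g) (hφ g')) }
  have hker : Φ.ker = Subgroup.center (Cfsg.SU 3 F (2 ^ n)) := by
    ext g
    rw [MonoidHom.mem_ker]
    refine ⟨fun e => hscal g ?_, fun hg => huniq' g 1 (hsurjS g hg)⟩
    have := hφ g
    rwa [show φ g = 1 from e] at this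
  have hsurj : Function.Surjective Φ := fun l => (hsurjL l).imp fun g hg => huniq' g l hg
  exact ⟨((QuotientGroup.quotientMulEquivOfEq hker.symm).trans
    (QuotientGroup.quotientKerEquivOfSurjective Φ hsurj)).symm⟩

end Cfsg.Lib.RankOneSuzuki
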