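import Cfsg.Agent.Lib.OddTrans.RankOneK
import Cfsg.Agent.Lib.Linear.RankOneInverted

/-!
# Suzuki's rank-one theorem: the common set-up

`Dd` is the two-point stabiliser, `Kk` the group of its elements inverted by `t`, `Vv` the centraliser of
`t` in `Dd`, `Ww` the centraliser of `Kk` in `Vv`, `Zz` the group of involutions of the point stabiliser.
-/

set_option autoImplicit false
set_option linter.unusedSectionVars false

namespace Cfsg.Lib.RankOneSuzuki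

open Cfsg Cfsg.Lib.Linear.RankOne

universe u v

variable {G : Type u} {Ω : Type v} [Group G] [MulAction G Ω]

/-- The hypotheses of Suzuki's theorem, faithfulness aside. -/
structure Hyp (G : Type u) (Ω : Type v) [Group G] [MulAction G Ω] (a : Ω) (t : G) (Q : Subgroup G) :
    Prop where
  setup : Cfsg.IsRankOneSetup G Ω a t Q
  two : ∃ x y : G, x ≠ 1 ∧ y ≠ 1 ∧ x ≠ y ∧ x * x = 1 ∧ y * y = 1 ∧ x * y = y * x

/-- The two-point stabiliser. -/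
abbrev Dd (a : Ω) (t : G) : Subgroup G := MulAction.stabilizer G a ⊓ MulAction.stabilizer G (t • a)

/-- The centraliser of `t` in the two-point stabiliser. -/
abbrev Vv (a : Ω) (t : G) : Subgroup G := Dd a t ⊓ Subgroup.centralizer {t}

/-- The centraliser in `Vv` of the inverted elements. -/
abbrev Ww (a : Ω) (t : G) : Subgroup G :=
  Vv a t ⊓ Subgroup.centralizer (Cfsg.invertedBy (Dd a t) t)

/-- The subgroup of the inverted elements. -/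
def Kk (a : Ω) (t : G) : Subgroup G := Subgroup.closure (Cfsg.invertedBy (Dd a t) t)

variable (G) in
/-- The group of involutions of the point stabiliser. -/
def Zz (a : Ω) : Subgroup G := Subgroup.closure (Cfsg.involutionsIn (MulAction.stabilizer G a : Set G))

variable [Finite G] [FaithfulSMul G Ω] {a : Ω} {t : G} {Q : Subgroup G}

theorem Hyp.gen (h : Hyp G Ω a t Q) :
    ∃ k₀ ∈ Cfsg.invertedBy (Dd a t) t, Kk a t = Subgroup.zpowers k₀ ∧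
      (Subgroup.zpowers k₀ : Set G) = Cfsg.invertedBy (Dd a t) t := by
  obtain ⟨k₀, hk₀, hK, -, -⟩ := Cfsg.Lib.OddTrans.inverted_structure h.setup h.two
  exact ⟨k₀, hk₀, by rw [Kk, ← hK, Subgroup.closure_eq], hK⟩

theorem Hyp.coe_Kk (h : Hyp G Ω a t Q) : (Kk a t : Set G) = Cfsg.invertedBy (Dd a t) t := by
  obtain ⟨k₀, -, h1, h2⟩ := h.gen
  rw [h1, h2]

theorem Hyp.mem_Kk (h : Hyp G Ω a t Q) {x : G} :
    x ∈ Kk a t ↔ x ∈ Dd a t ∧ t * x * t⁻¹ = x⁻¹ := by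
  rw [← SetLike.mem_coe, h.coe_Kk]; rfl

theorem Hyp.Kk_le (h : Hyp G Ω a t Q) : Kk a t ≤ Dd a t := fun _ hx => (h.mem_Kk.1 hx).1

theorem Hyp.isCyclic_Kk (h : Hyp G Ω a t Q) : IsCyclic (Kk a t) := by
  obtain ⟨k₀, -, h1, -⟩ := h.gen
  rw [h1]; infer_instance

theorem Hyp.comm_Kk (h : Hyp G Ω a t Q) {x y : G} (hx : x ∈ Kk a t) (hy : y ∈ Kk a t) :
    x * y = y * x := by
  obtain ⟨k₀, -, h1, -⟩ := h.gen
  rw [h1] at hx hy
  obtain ⟨i, rfl⟩ := hx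
  obtain ⟨j, rfl⟩ := hy
  exact (Commute.zpow_zpow (Commute.refl k₀) i j).eq

theorem Hyp.Kk_conj (h : Hyp G Ω a t Q) {d x : G} (hd : d ∈ Dd a t) (hx : x ∈ Kk a t) :
    d * x * d⁻¹ ∈ Kk a t := by
  obtain ⟨k₀, -, hK, hn, -⟩ := Cfsg.Lib.OddTrans.inverted_structure h.setup h.two
  have e : Kk a t = Subgroup.zpowers k₀ := by rw [Kk, ← hK, Subgroup.closure_eq]
  rw [e] at hx ⊢
  exact hn d hd x hx

theorem Hyp.mem_Zz (h : Hyp G Ω a t Q) {x : G} :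
    x ∈ Zz G a ↔ x ∈ MulAction.stabilizer G a ∧ x * x = 1 := by
  constructor
  · intro hx
    induction hx using Subgroup.closure_induction with
    | mem z hz => exact ⟨hz.1, hz.2.2⟩
    | one => exact ⟨one_mem _, one_mul 1⟩
    | mul y z _ _ hy hz =>
      refine ⟨mul_mem hy.1 hz.1, ?_⟩
      by_cases hy1 : y = 1
      · rw [hy1, one_mul]; exact hz.2
      by_cases hz1 : z = 1
      · rw [hz1, mul_one]; exact hy.2
      rcases invol_mul_mem h.setup h.two ⟨hy.1, hy1, hy.2⟩ ⟨hz.1, hz1, hz.2⟩ with e | e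
      · rw [e, one_mul]
      · exact e.2.2
    | inv y _ hy => exact ⟨inv_mem hy.1, by rw [← mul_inv_rev, hy.2, inv_one]⟩
  · rintro ⟨hx, hx2⟩
    by_cases hx1 : x = 1
    · rw [hx1]; exact one_mem _
    exact Subgroup.subset_closure ⟨hx, hx1, hx2⟩

theorem Hyp.invol_iff (h : Hyp G Ω a t Q) {x : G} :
    x ∈ Cfsg.involutionsIn (MulAction.stabilizer G a : Set G) ↔ x ∈ Zz G a ∧ x ≠ 1 := by
  rw [h.mem_Zz]
  exact ⟨fun hx => ⟨⟨hx.1, hx.2.2⟩, hx.2.1⟩, fun hx => ⟨hx.1.1, hx.2, hx.1.2⟩⟩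

theorem Hyp.Zz_le (h : Hyp G Ω a t Q) : Zz G a ≤ Q := fun _ hx =>
  invol_mem h.setup (h.mem_Zz.1 hx).1 (h.mem_Zz.1 hx).2

theorem Hyp.Zz_central (h : Hyp G Ω a t Q) {z x : G} (hz : z ∈ Zz G a) (hx : x ∈ Q) :
    z * x = x * z := by
  by_cases hz1 : z = 1
  · rw [hz1, one_mul, mul_one]
  exact invol_central h.setup h.two (h.invol_iff.2 ⟨hz, hz1⟩) hx

theorem Hyp.Zz_conj (h : Hyp G Ω a t Q) {d z : G} (hd : d ∈ MulAction.stabilizer G a)
    (hz : z ∈ Zz G a) : d * z * d⁻¹ ∈ Zz G a := by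
  rw [h.mem_Zz] at hz ⊢
  exact ⟨mul_mem (mul_mem hd hz.1) (inv_mem hd),
    by rw [show d * z * d⁻¹ * (d * z * d⁻¹) = d * (z * z) * d⁻¹ by group, hz.2]; group⟩

/-- The involution of the point stabiliser attached to `t`. -/
theorem Hyp.exists_s (h : Hyp G Ω a t Q) :
    ∃ s r : G, s ∈ Zz G a ∧ s ≠ 1 ∧ r ∈ Q ∧ t * s * t = r⁻¹ * t * r ∧
      Vv a t = Dd a t ⊓ Subgroup.centralizer {s} := by
  obtain ⟨⟨s, r⟩, ⟨hs, hr, heq⟩, -⟩ := exists_unique_equation h.setup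
  exact ⟨s, r, (h.invol_iff.1 hs).1, hs.2.1, hr, heq, centralizer_eq h.setup hs hr heq⟩

theorem Hyp.Kk_trans (h : Hyp G Ω a t Q) {x y : G} (hx : x ∈ Zz G a) (hx1 : x ≠ 1) (hy : y ∈ Zz G a)
    (hy1 : y ≠ 1) : ∃ k ∈ Kk a t, k * x * k⁻¹ = y := by
  obtain ⟨k, hk, he⟩ := inverted_transitive h.setup (h.invol_iff.2 ⟨hx, hx1⟩) (h.invol_iff.2 ⟨hy, hy1⟩)
  refine ⟨k⁻¹, inv_mem (by rwa [← SetLike.mem_coe, h.coe_Kk]), ?_⟩
  rw [inv_inv]; exact he

theorem Hyp.Kk_free (h : Hyp G Ω a t Q) {k x : G} (hk : k ∈ Kk a t) (hx : x ∈ Q) (hx1 : x ≠ 1)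
    (hc : k * x = x * k) : k = 1 := by
  by_contra hk1
  have hk' : k ∈ Cfsg.invertedBy (Dd a t) t := by rw [← h.coe_Kk]; exact hk
  have := inverted_fpf h.setup hk' hk1
  exact hx1 ((Subgroup.eq_bot_iff_forall _).1 this x
    ⟨hx, Subgroup.mem_centralizer_singleton_iff.2 hc.symm⟩)

theorem Hyp.Vv_le (_h : Hyp G Ω a t Q) : Vv a t ≤ Dd a t := inf_le_left

theorem Hyp.conj_t_Vv (h : Hyp G Ω a t Q) {x : G} (hx : x ∈ Vv a t) : t * x * t⁻¹ = x :=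
  conj_t_eq h.setup hx

theorem Hyp.mem_Vv (h : Hyp G Ω a t Q) {x : G} : x ∈ Vv a t ↔ x ∈ Dd a t ∧ t * x * t⁻¹ = x := by
  refine ⟨fun hx => ⟨hx.1, h.conj_t_Vv hx⟩, fun hx => ⟨hx.1, ?_⟩⟩
  exact Subgroup.mem_centralizer_singleton_iff.2 (mul_inv_eq_iff_eq_mul.1 hx.2).symm

theorem Hyp.Kk_inf_Vv (h : Hyp G Ω a t Q) {x : G} (hx : x ∈ Kk a t) (hv : x ∈ Vv a t) : x = 1 := by
  have h1 : x = x⁻¹ := (h.conj_t_Vv hv).symm.trans (h.mem_Kk.1 hx).2
  refine eq_one_of_sq_of_odd h.setup.odd_card hv.1 ?_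
  nth_rewrite 2 [h1]
  exact mul_inv_cancel x

theorem Hyp.exists_mul (h : Hyp G Ω a t Q) {d : G} (hd : d ∈ Dd a t) :
    ∃ v ∈ Vv a t, ∃ k ∈ Kk a t, d = v * k := by
  obtain ⟨⟨v, k⟩, ⟨hv, hk, he⟩, -⟩ := odd_factorization h.setup.mul_self h.setup.odd_card
    (fun x hx => conj_inv_mem_D h.setup hx) hd
  exact ⟨v, hv, k, by rw [← SetLike.mem_coe, h.coe_Kk]; exact hk, he⟩

theorem Hyp.Kk_conj_Vv (h : Hyp G Ω a t Q) {v x : G} (hv : v ∈ Vv a t) (hx : x ∈ Kk a t) :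
    v * x * v⁻¹ ∈ Kk a t := h.Kk_conj hv.1 hx

theorem Hyp.Ww_comm (h : Hyp G Ω a t Q) {w k : G} (hw : w ∈ Ww a t) (hk : k ∈ Kk a t) :
    k * w = w * k :=
  Subgroup.mem_centralizer_iff.1 hw.2 k (by rw [← h.coe_Kk]; exact hk)

/-- `Ww` is the centraliser in `Dd` of the involutions of the point stabiliser. -/
theorem Hyp.mem_Ww (h : Hyp G Ω a t Q) {x : G} :
    x ∈ Ww a t ↔ x ∈ Dd a t ∧ ∀ z ∈ Zz G a, z * x = x * z := by
  obtain ⟨s, r, hs, hs1, -, -, hV⟩ := h.exists_s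
  constructor
  · intro hx
    have hxs : x * s = s * x := by
      have h1 : x ∈ Dd a t ⊓ Subgroup.centralizer {s} := hV ▸ hx.1
      exact Subgroup.mem_centralizer_singleton_iff.1 h1.2
    refine ⟨hx.1.1, fun z hz => ?_⟩
    by_cases hz1 : z = 1
    · rw [hz1, one_mul, mul_one]
    obtain ⟨k, hk, rfl⟩ := h.Kk_trans hs hs1 hz hz1
    have e := h.Ww_comm hx hk
    have e' : k⁻¹ * x = x * k⁻¹ := h.Ww_comm hx (inv_mem hk)
    calc k * s * k⁻¹ * x = k * s * (k⁻¹ * x) := by group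
      _ = k * (s * x) * k⁻¹ := by rw [e']; group
      _ = (k * x) * s * k⁻¹ := by rw [← hxs]; group
      _ = x * (k * s * k⁻¹) := by rw [e]; group
  · rintro ⟨hx, hxz⟩
    have hxV : x ∈ Vv a t := by
      rw [hV]; exact ⟨hx, Subgroup.mem_centralizer_singleton_iff.2 (hxz s hs).symm⟩
    refine ⟨hxV, Subgroup.mem_centralizer_iff.2 fun k hk => ?_⟩
    rw [← h.coe_Kk] at hk
    have hk' : x * k * x⁻¹ ∈ Kk a t := h.Kk_conj hx hk
    have hsk : k * s * k⁻¹ ∈ Zz G a := h.Zz_conj (h.Kk_le hk).1 hs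
    have hc : (k⁻¹ * (x * k * x⁻¹)) * s = s * (k⁻¹ * (x * k * x⁻¹)) := by
      have e1 : x⁻¹ * s * x = s := by
        rw [mul_assoc, hxz s hs]; group
      have e2 : x * (k * s * k⁻¹) * x⁻¹ = k * s * k⁻¹ := by
        rw [← hxz _ hsk]; group
      calc (k⁻¹ * (x * k * x⁻¹)) * s = k⁻¹ * (x * k * (x⁻¹ * s * x) * k⁻¹ * x⁻¹) * (x * k * x⁻¹) := by
            group
        _ = k⁻¹ * (x * (k * s * k⁻¹) * x⁻¹) * (x * k * x⁻¹) := by rw [e1]; group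
        _ = s * (k⁻¹ * (x * k * x⁻¹)) := by rw [e2]; group
    have h1 := h.Kk_free (mul_mem (inv_mem hk) hk') (h.Zz_le hs) hs1 hc
    have h2 : x * k * x⁻¹ = k := (inv_mul_eq_one.1 h1).symm
    exact (mul_inv_eq_iff_eq_mul.1 h2).symm

theorem Hyp.Ww_conj (h : Hyp G Ω a t Q) {d x : G} (hd : d ∈ Dd a t) (hx : x ∈ Ww a t) :
    d * x * d⁻¹ ∈ Ww a t := by
  rw [h.mem_Ww] at hx ⊢
  refine ⟨mul_mem (mul_mem hd hx.1) (inv_mem hd), fun z hz => ?_⟩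
  have hz' : d⁻¹ * z * d ∈ Zz G a := by
    have := h.Zz_conj (inv_mem hd).1 hz
    rwa [inv_inv] at this
  calc z * (d * x * d⁻¹) = d * ((d⁻¹ * z * d) * x) * d⁻¹ := by group
    _ = d * (x * (d⁻¹ * z * d)) * d⁻¹ := by rw [hx.2 _ hz']
    _ = d * x * d⁻¹ * z := by group

/-- An element of `Kk * Ww` fixing a third point lies in `Ww`. -/
theorem Hyp.eq_one_of_fix (h : Hyp G Ω a t Q) {k w : G} (hk : k ∈ Kk a t) (hw : w ∈ Ww a t) {b : Ω}
    (hba : b ≠ a) (hbt : b ≠ t • a) (hb : (k * w) • b = b) : k = 1 := by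
  obtain ⟨d, hd, hdV⟩ := conj_into_V h.setup (mul_mem (h.Kk_le hk) hw.1.1) hba hbt hb
  have hk' := h.Kk_conj hd hk
  have hw' := h.Ww_conj hd hw
  have hkV : d * k * d⁻¹ ∈ Vv a t := by
    have e : d * k * d⁻¹ = (d * (k * w) * d⁻¹) * (d * w * d⁻¹)⁻¹ := by group
    rw [e]
    exact mul_mem hdV (inv_mem hw'.1)
  have h1 := h.Kk_inf_Vv hk' hkV
  exact conj_eq_one_iff.1 h1

/-- An element of `Kk * Ww` centralising a non-identity element of `Q` lies in `Ww`. -/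
theorem Hyp.eq_one_of_commute (h : Hyp G Ω a t Q) {k w x : G} (hk : k ∈ Kk a t) (hw : w ∈ Ww a t)
    (hx : x ∈ Q) (hx1 : x ≠ 1) (hc : k * w * x = x * (k * w)) : k = 1 := by
  have hkw : k * w ∈ Dd a t := mul_mem (h.Kk_le hk) hw.1.1
  refine h.eq_one_of_fix hk hw (b := x • t • a) (smul_ne_of_ne h.setup hx (smul_ne h.setup))
    (fun e => hx1 (eq_one_of_fix_ta h.setup hx e)) ?_
  rw [smul_smul, hc, mul_smul]
  exact congrArg (x • ·) hkw.2

theorem Hyp.two_pow (h : Hyp G Ω a t Q) : ∃ n : ℕ, 2 ≤ n ∧ Nat.card (Zz G a) = 2 ^ n := by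
  haveI : Fact (Nat.Prime 2) := ⟨Nat.prime_two⟩
  have hp : IsPGroup 2 (Zz G a) := fun g => ⟨1, Subtype.ext (by
    rw [SubmonoidClass.coe_pow, pow_one, pow_two]; exact (h.mem_Zz.1 g.2).2)⟩
  obtain ⟨n, hn⟩ := hp.exists_card_eq
  refine ⟨n, ?_, hn⟩
  obtain ⟨s, hs, s', hs', hne⟩ := exists_two_invol h.setup h.two
  have h3 : 2 < Nat.card (Zz G a) := by
    haveI := Fintype.ofFinite (Zz G a)
    rw [Nat.card_eq_fintype_card]
    exact Fintype.two_lt_card_iff.2 ⟨1, ⟨s, (h.invol_iff.1 hs).1⟩, ⟨s', (h.invol_iff.1 hs').1⟩,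
      fun e => hs.2.1 (congrArg Subtype.val e).symm, fun e => hs'.2.1 (congrArg Subtype.val e).symm,
      fun e => hne (congrArg Subtype.val e)⟩
  rw [hn] at h3
  by_contra hlt
  interval_cases n <;> omega

theorem Hyp.card_Kk (h : Hyp G Ω a t Q) : Nat.card (Kk a t) + 1 = Nat.card (Zz G a) := by
  classical
  haveI := Fintype.ofFinite (Zz G a)
  have e1 : Nat.card (Kk a t) = Nat.card (Cfsg.involutionsIn (MulAction.stabilizer G a : Set G)) := by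
    rw [← card_inverted h.setup]
    exact Nat.card_congr (Equiv.setCongr h.coe_Kk)
  have e2 : Nat.card (Cfsg.involutionsIn (MulAction.stabilizer G a : Set G)) =
      Fintype.card {z : Zz G a // z ≠ 1} := by
    rw [← Nat.card_eq_fintype_card]
    exact Nat.card_congr
      ⟨fun x => ⟨⟨x.1, (h.invol_iff.1 x.2).1⟩, fun e => (h.invol_iff.1 x.2).2 (congrArg Subtype.val e)⟩,
        fun z => ⟨z.1.1, h.invol_iff.2 ⟨z.1.2, fun e => z.2 (Subtype.ext e)⟩⟩,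
        fun _ => rfl, fun _ => rfl⟩
  rw [e1, e2, Fintype.card_subtype_compl, Fintype.card_subtype_eq, Nat.card_eq_fintype_card]
  have : 0 < Fintype.card (Zz G a) := Fintype.card_pos
  omega

theorem Hyp.card_Dd (h : Hyp G Ω a t Q) :
    Nat.card (Dd a t) = Nat.card (Vv a t) * Nat.card (Kk a t) := by
  rw [← Nat.card_prod]
  refine (Nat.card_congr (Equiv.ofBijective
    (fun p : Vv a t × Kk a t => (⟨(p.1 : G) * p.2, mul_mem p.1.2.1 (h.Kk_le p.2.2)⟩ : Dd a t))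
    ⟨fun p p' e => ?_, fun d => ?_⟩)).symm
  · have e' : (p.1 : G) * p.2 = p'.1 * p'.2 := congrArg Subtype.val e
    have h1 : (p'.1 : G)⁻¹ * p.1 = (p'.2 : G) * (p.2 : G)⁻¹ := by
      rw [eq_mul_inv_iff_mul_eq, mul_assoc, e', inv_mul_cancel_left]
    have h2 : (p'.1 : G)⁻¹ * p.1 = 1 := h.Kk_inf_Vv (h1 ▸ mul_mem p'.2.2 (inv_mem p.2.2))
      (mul_mem (inv_mem p'.1.2) p.1.2)
    have h3 : (p.1 : G) = p'.1 := (inv_mul_eq_one.1 h2).symm
    exact Prod.ext (Subtype.ext h3) (Subtype.ext (mul_left_cancel (h3 ▸ e')))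
  · obtain ⟨v, hv, k, hk, he⟩ := h.exists_mul d.2
    exact ⟨(⟨v, hv⟩, ⟨k, hk⟩), Subtype.ext he.symm⟩

theorem Hyp.exists_gen_Vv (h : Hyp G Ω a t Q) :
    ∃ v ∈ Vv a t, ∀ x ∈ Vv a t, ∃ j : ℕ, x * (v ^ j)⁻¹ ∈ Ww a t := by
  obtain ⟨k₀, -, -, -, hv⟩ := Cfsg.Lib.OddTrans.inverted_structure h.setup h.two
  exact hv

end Cfsg.Lib.RankOneSuzuki
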