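import Mathlib
import Cfsg.Prelude.Def_LieRecognition
import Cfsg.Prelude.Def_Classical
import Cfsg.Prelude.Def_Sz

/-!
# Suzuki's rank-one theorem: the conclusion
-/

set_option autoImplicit false

namespace Cfsg.Lib.RankOneSuzuki

universe u

/-- A normal subgroup of odd index isomorphic to `PSL₂(q)`, `Sz(q)` or `PSU₃(q)`, `q > 2` a power of two. -/
def Concl (G : Type u) [Group G] : Prop :=
  ∃ L : Subgroup G, L.Normal ∧ Odd L.index ∧
    ((∃ (F : Type) (_ : Field F) (_ : Fintype F), (∃ n : ℕ, 2 ≤ n ∧ Fintype.card F = 2 ^ n) ∧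
        Nonempty (L ≃* Matrix.ProjectiveSpecialLinearGroup (Fin 2) F)) ∨
      Cfsg.Lie.IsoSuzuki L ∨
      (∃ (F : Type) (_ : Field F) (_ : Fintype F) (n : ℕ), 2 ≤ n ∧ Fintype.card F = (2 ^ n) ^ 2 ∧
        Nonempty (L ≃* Cfsg.PSU 3 F (2 ^ n))))

end Cfsg.Lib.RankOneSuzuki
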