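import Cfsg.Agent.Lib.RankOneSuzuki.UnitaryFrame

/-!
# Suzuki's rank-one theorem, `Ww ≠ ⊥`: conclusion

`L = ⟨Q, t⟩` is normal of odd index and acts on the points as `PSU(3, q)` on its unital.
-/

set_option autoImplicit false
set_option linter.unusedSectionVars false
set_option linter.style.haveILetI false

namespace Cfsg.Lib.RankOneSuzuki

open Cfsg Cfsg.Lib.Linear.RankOne

universe u v

variable {G : Type u} {Ω : Type v} [Group G] [MulAction G Ω] [Finite G] [FaithfulSMul G Ω] {a : Ω} {t : G}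
  {Q : Subgroup G}

theorem Hyp.closure_normal (h : Hyp G Ω a t Q) (hQ : IsPGroup 2 Q) (hW : Ww a t ≠ ⊥) :
    (Subgroup.closure ((Q : Set G) ∪ {t})).Normal ∧ Odd (Subgroup.closure ((Q : Set G) ∪ {t})).index := by
  obtain ⟨s, hs, -, hbr, -⟩ := h.exists_braid hQ hW
  have hS := h.setup
  obtain ⟨L, hL⟩ : ∃ L, L = Subgroup.closure ((Q : Set G) ∪ {t}) := ⟨_, rfl⟩
  rw [← hL]
  have hQL : Q ≤ L := fun x hx => hL ▸ Subgroup.subset_closure (.inl hx)
  have htL : t ∈ L := hL ▸ Subgroup.subset_closure (.inr rfl)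
  have htt : t * t = 1 := hS.mul_self
  have htst : t = s * (t * s * t) * s := by
    calc t = (s * s) * t * (s * s) := by rw [(h.mem_Zz.1 hs).2, one_mul, mul_one]
      _ = _ := by rw [hbr]; group
  have hDL : ∀ d ∈ Dd a t, ∀ x ∈ L, d * x * d⁻¹ ∈ L := by
    intro d hd x hx
    rw [hL] at hx
    induction hx using Subgroup.closure_induction with
    | mem y hy =>
      rcases hy with hy | hy
      · exact hQL (hS.conj_mem d hd.1 y hy)
      · rw [Set.mem_singleton_iff.1 hy]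
        have e : d * t * d⁻¹ = (d * s * d⁻¹) * (t * ((t * d * t) * s * (t * d * t)⁻¹) * t) * (d * s * d⁻¹) := by
          conv_lhs => rw [htst]
          have hti : t⁻¹ = t := t_inv hS
          have htt' : ∀ g : G, t * (t * g) = g := fun g => by rw [← mul_assoc, htt, one_mul]
          simp only [_root_.mul_inv_rev, hti, mul_assoc, htt', inv_mul_cancel_left]
        rw [e]
        have h1 : d * s * d⁻¹ ∈ L := hQL (hS.conj_mem d hd.1 s (h.Zz_le hs))
        exact mul_mem (mul_mem h1 (mul_mem (mul_mem htL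
          (hQL (hS.conj_mem _ (conj_mem_D hS hd).1 s (h.Zz_le hs)))) htL)) h1
    | one => simp
    | mul y z _ _ hy hz =>
      rw [show d * (y * z) * d⁻¹ = (d * y * d⁻¹) * (d * z * d⁻¹) by group]; exact mul_mem hy hz
    | inv y _ hy => rw [show d * y⁻¹ * d⁻¹ = (d * y * d⁻¹)⁻¹ by group]; exact inv_mem hy
  have hdec : ∀ g : G, ∃ l ∈ L, ∃ d ∈ Dd a t, g = l * d := by
    intro g
    have hex : ∃ l ∈ L, l • a = g • a := by
      by_cases e : g • a = a
      · exact ⟨1, one_mem L, by rw [one_smul, e]⟩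
      · obtain ⟨q, hq, he⟩ := exists_orbit hS e
        exact ⟨q * t, mul_mem (hQL hq) htL, by rw [mul_smul, he]⟩
    obtain ⟨l, hl, hle⟩ := hex
    obtain ⟨q, hq, d, hd, e⟩ := decomp hS (show l⁻¹ * g ∈ MulAction.stabilizer G a from
      show _ • a = a by rw [mul_smul, ← hle, inv_smul_smul])
    exact ⟨l * q, mul_mem hl (hQL hq), d, hd, by rw [mul_assoc, ← e, mul_inv_cancel_left]⟩
  have hN : L.Normal := ⟨fun x hx g => by
    obtain ⟨l, hl, d, hd, rfl⟩ := hdec g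
    rw [show l * d * x * (l * d)⁻¹ = l * (d * x * d⁻¹) * l⁻¹ by group]
    exact mul_mem (mul_mem hl (hDL d hd x hx)) (inv_mem hl)⟩
  refine ⟨hN, Odd.of_dvd_nat hS.odd_card ?_⟩
  haveI := hN
  rw [Subgroup.index_eq_card]
  refine Subgroup.card_dvd_of_surjective ((QuotientGroup.mk' L).comp (Dd a t).subtype) fun x => ?_
  obtain ⟨g, rfl⟩ := QuotientGroup.mk'_surjective L x
  obtain ⟨l, hl, d, hd, rfl⟩ := hdec g
  refine ⟨⟨d, hd⟩, ?_⟩
  show QuotientGroup.mk' L d = QuotientGroup.mk' L (l * d)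
  rw [map_mul, show QuotientGroup.mk' L l = 1 from (QuotientGroup.eq_one_iff l).2 hl, one_mul]

variable {F : Type} [Field F] [Fintype F] [CharP F 2]

namespace Frame

variable {U : UData a t Q F} {L : Type} [Field L] [Fintype L] (S : Frame U L)

/-- The points as a unital, with coordinates on `Q`. -/
structure Unital (S : Frame U L) where
  /-- the scaling of the first coordinate -/
  μ : L
  /-- the correcting coefficient of the second coordinate -/
  e : L
  μ_ne : μ ≠ 0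
  /-- the points -/
  θ : UPt L (2 ^ U.n) ≃ Ω
  /-- the translations -/
  elt : {p : L × L // p.2 ^ (2 ^ U.n) + p.2 = p.1 ^ (2 ^ U.n + 1)} → G
  elt_mem : ∀ p, elt p ∈ Q
  elt_A : ∀ p, μ * S.co.A (elt p) = p.1.1
  elt_Z : ∀ p, S.co.Z (elt p) + e * (S.co.A (elt p) * S.plane.J (S.co.A (elt p))) = p.1.2
  elt_surj : ∀ x ∈ Q, ∃ p, elt p = x
  θ_inf : θ .inf = a
  θ_mk : ∀ A Z h, θ (.mk A Z h) = elt ⟨(A, Z), h⟩ • t • a
  θ_zero : ∀ h, θ (.mk 0 0 h) = t • a
  translate : ∀ A Z h B Y hY (B' Y' : L) h', B' = B + A → Y' = Y + Z + A * B ^ (2 ^ U.n) →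
    elt ⟨(A, Z), h⟩ • θ (.mk B Y hY) = θ (.mk B' Y' h')
  flip_pt : ∀ A Z h (B Y : L) h', Z ≠ 0 → B = A / Z ^ (2 ^ U.n) → Y = 1 / Z →
    t • θ (.mk A Z h) = θ (.mk B Y h')

/-- The points and the generators in the coordinates of the unital. -/
theorem exists_unital (hχ : S.plane.ρ = S.co.ω) : Nonempty (Unital S) := by
  classical
  have hI := S.idHyp
  have hst := U.hyp.setup
  have hn : 1 ≤ U.n := le_trans (by norm_num) U.two_le
  have hF : Fintype.card L = (2 ^ U.n) ^ 2 := by rw [S.plane.card, U.card]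
  have hJ : ∀ x, S.plane.J x = x ^ (2 ^ U.n) := fun x => by rw [S.plane.J_eq, U.card]
  have t2 : (2 : L) = 0 := S.plane.two
  have hsq : ∀ x : L, ∃ y, y ^ 2 = x := by
    haveI := Cfsg.Lib.U3Even.charP_two hn hF
    haveI : Fact (Nat.Prime 2) := ⟨Nat.prime_two⟩
    intro x
    obtain ⟨y, hy⟩ := (Finite.injective_iff_bijective.1 (frobenius_inj L 2)).2 x
    exact ⟨y, by rw [← hy, frobenius_def]⟩
  have hσ := hI.σ_eq hχ hF hJ
  obtain ⟨κ, hκ0, hκ⟩ := hI.coords hχ hσ hsq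
  obtain ⟨c, hc⟩ : ∃ c, c = S.co.c := ⟨_, rfl⟩
  obtain ⟨γ, hγ⟩ : ∃ γ, γ = c + S.plane.J c := ⟨_, rfl⟩
  have hγ0 : γ ≠ 0 := fun e => hI.f_ne 1 one_ne_zero (by
    rw [quadF, trJ, hσ, mul_one, map_one, mul_one, ← hc, ← hγ, e])
  obtain ⟨μ, hμ⟩ := Cfsg.Lib.U3Even.exists_norm hn hF (x := γ)
    (by rw [← hJ, hγ, map_add, S.JJ, add_comm])
  have hμγ : μ * S.plane.J μ = γ := by rw [hJ, ← pow_succ', hμ]
  have hμ0 : μ ≠ 0 := fun e => hγ0 (by rw [← hμγ, e, zero_mul])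
  -- coordinates of the elements of `Q`
  obtain ⟨A', hA'⟩ : ∃ A' : G → L, A' = fun x => μ * S.co.A x := ⟨_, rfl⟩
  obtain ⟨Z', hZ'⟩ : ∃ Z' : G → L,
      Z' = fun x => S.co.Z x + S.plane.J c * (S.co.A x * S.plane.J (S.co.A x)) := ⟨_, rfl⟩
  have hcond : ∀ x ∈ Q, Z' x ^ (2 ^ U.n) + Z' x = A' x ^ (2 ^ U.n + 1) := by
    intro x hx
    rw [pow_succ (A' x), ← hJ, ← hJ, hA', hZ']
    simp only [map_add, map_mul, S.co.Z_real x hx, S.JJ]
    rw [hγ] at hμγ
    linear_combination S.co.Z x * t2 - S.co.A x * S.plane.J (S.co.A x) * hμγ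
  have hmul : ∀ x ∈ Q, ∀ y ∈ Q, A' (x * y) = A' y + A' x ∧
      Z' (x * y) = Z' y + Z' x + A' x * A' y ^ (2 ^ U.n) := by
    intro x hx y hy
    rw [← hJ, hA', hZ']
    simp only [S.co.A_mul x hx y hy, S.co.Z_mul x hx y hy, coc, trJ, hσ, ← hc, map_add, map_mul, S.JJ]
    rw [hγ] at hμγ
    refine ⟨by ring, ?_⟩
    linear_combination -(S.co.A x * S.plane.J (S.co.A y)) * hμγ +
      S.plane.J c * (S.plane.J (S.co.A x) * S.co.A y) * t2
  have hzero : A' 1 = 0 ∧ Z' 1 = 0 := by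
    have hA1 : S.co.A 1 = 0 := (S.co.A_ker 1 (one_mem Q)).2 (one_mem _)
    have hZ1 : S.co.Z 1 = 0 := by rw [← U.C.z_zero, S.co.Z_z, map_zero]
    constructor
    · rw [hA']; simp [hA1]
    · rw [hZ']; simp [hA1, hZ1]
  have huniq : ∀ x ∈ Q, ∀ y ∈ Q, A' x = A' y → Z' x = Z' y → x = y := by
    intro x hx y hy h1 h2
    rw [hA'] at h1; rw [hZ'] at h2
    have hA := mul_left_cancel₀ hμ0 h1
    simp only at h2
    rw [hA] at h2
    exact S.co_uniq hx hy hA (add_right_cancel h2)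
  have hex : ∀ p : {p : L × L // p.2 ^ (2 ^ U.n) + p.2 = p.1 ^ (2 ^ U.n + 1)},
      ∃ x ∈ Q, A' x = p.1.1 ∧ Z' x = p.1.2 := by
    rintro ⟨⟨A, Z⟩, hAZ⟩
    simp only at hAZ ⊢
    have hAZ' : S.plane.J Z + Z = S.plane.J A * A := by rw [hJ, hJ, ← pow_succ]; exact hAZ
    have hJμ : S.plane.J μ ≠ 0 := (map_ne_zero _).2 hμ0
    have hreal : S.plane.J (Z + S.plane.J c * (A / μ * S.plane.J (A / μ))) =
        Z + S.plane.J c * (A / μ * S.plane.J (A / μ)) := by
      have e : γ * (A / μ * S.plane.J (A / μ)) = A * S.plane.J A := by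
        rw [← hμγ, map_div₀]; field_simp
      rw [hγ] at e
      simp only [map_add, map_mul, S.JJ]
      linear_combination hAZ' + e - (Z + S.plane.J c * (A / μ * S.plane.J (A / μ))) * t2 + A * S.plane.J A * t2
    obtain ⟨x, hx, hxA, hxZ⟩ := S.co.exists_pt (A / μ) _ hreal
    refine ⟨x, hx, ?_, ?_⟩
    · rw [hA']; simp only; rw [hxA, mul_div_cancel₀ _ hμ0]
    · rw [hZ']; simp only
      rw [hxA, hxZ]
      linear_combination (S.plane.J c * (A / μ * S.plane.J (A / μ))) * t2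
  choose elt heltQ heltA heltZ using hex
  -- the point map
  let θ₀ : UPt L (2 ^ U.n) → Ω := fun p => match p with
    | none => a
    | some q => elt q • t • a
  have hθinj : Function.Injective θ₀ := by
    rintro (_ | q) (_ | q') e
    · rfl
    · exact absurd e.symm (smul_ne_of_ne hst (heltQ q') (smul_ne hst))
    · exact absurd e (smul_ne_of_ne hst (heltQ q) (smul_ne hst))
    · have e' := eq_of_smul hst (heltQ q) (heltQ q') (smul_ne hst) e
      exact congrArg some (Subtype.ext (Prod.ext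
        (by rw [← heltA q, ← heltA q', e']) (by rw [← heltZ q, ← heltZ q', e'])))
  have hθsurj : Function.Surjective θ₀ := by
    intro p
    by_cases hp : p = a
    · exact ⟨none, hp.symm⟩
    obtain ⟨x, hx, rfl⟩ := exists_orbit hst hp
    refine ⟨some ⟨(A' x, Z' x), hcond x hx⟩, ?_⟩
    show elt _ • t • a = x • t • a
    rw [huniq _ (heltQ _) x hx (heltA _) (heltZ _)]
  let θ : UPt L (2 ^ U.n) ≃ Ω := Equiv.ofBijective θ₀ ⟨hθinj, hθsurj⟩
  have hθi : θ .inf = a := rfl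
  have hθm : ∀ A Z h, θ (.mk A Z h) = elt ⟨(A, Z), h⟩ • t • a := fun _ _ _ => rfl
  have hθ0 : ∀ h, θ (.mk 0 0 h) = t • a := fun h => by
    rw [hθm, huniq _ (heltQ _) 1 (one_mem Q) ((heltA _).trans hzero.1.symm) ((heltZ _).trans hzero.2.symm),
      one_smul]
  refine ⟨⟨μ, S.plane.J c, hμ0, θ, elt, heltQ, fun p => by rw [← heltA p, hA'], fun p => by rw [← heltZ p, hZ'],
    fun x hx => ⟨⟨(A' x, Z' x), hcond x hx⟩, huniq _ (heltQ _) x hx (heltA _) (heltZ _)⟩, hθi, hθm, hθ0, ?_, ?_⟩⟩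
  · intro A Z h B Y hY B' Y' h' hB hY'
    rw [hθm, hθm, smul_smul]
    obtain ⟨h1, h2⟩ := hmul _ (heltQ ⟨(A, Z), h⟩) _ (heltQ ⟨(B, Y), hY⟩)
    congr 1
    refine huniq _ (mul_mem (heltQ _) (heltQ _)) _ (heltQ _) ?_ ?_
    · rw [h1, heltA, heltA, heltA]; exact hB.symm
    · rw [h2, heltZ, heltZ, heltZ, heltA, heltA]; exact hY'.symm
  · intro A Z h B Y h' hZ hB hY
    rw [hθm, hθm]
    obtain ⟨x, hxdef⟩ : ∃ x, x = elt ⟨(A, Z), h⟩ := ⟨_, rfl⟩
    have hx : x ∈ Q := hxdef ▸ heltQ _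
    have hxA : μ * S.co.A x = A := by have := heltA ⟨(A, Z), h⟩; rw [← hxdef, hA'] at this; exact this
    have hxZ : S.co.Z x + S.plane.J c * (S.co.A x * S.plane.J (S.co.A x)) = Z := by
      have := heltZ ⟨(A, Z), h⟩; rw [← hxdef, hZ'] at this; exact this
    rw [← hxdef]
    by_cases hA0 : A = 0
    · -- a point of `Bs`
      have hα : S.co.A x = 0 := by rw [hA0] at hxA; exact (mul_eq_zero.1 hxA).resolve_left hμ0
      obtain ⟨r, hr⟩ := U.C.z_surj x ((S.co.A_ker x hx).1 hα)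
      rw [hα, zero_mul, mul_zero, add_zero, ← hr, S.co.Z_z] at hxZ
      have hr0 : r ≠ 0 := fun e => hZ (by rw [← hxZ, e, map_zero])
      have e1 : elt ⟨(B, Y), h'⟩ = U.C.z r⁻¹ := by
        refine huniq _ (heltQ _) _ (U.C.z_mem_Q U.hyp _) ?_ ?_
        · rw [heltA, hA']; simp only; rw [S.co.A_z, mul_zero]; simp [hB, hA0]
        · rw [heltZ, hZ']; simp only; rw [S.co.A_z, S.co.Z_z, map_inv₀, hxZ]
          simp [hY]
      rw [e1, ← hr]
      have := U.C.rep_t U.hyp ![r, 1] (fun e => one_ne_zero (congrFun e 1))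
      rw [U.C.pt_z (v := ![r, 1]) (by simp), U.C.pt_z (by simp [eT, hr0])] at this
      simpa [eT] using this
    · have hα : S.co.A x ≠ 0 := fun e => hA0 (by rw [← hxA, e, mul_zero])
      obtain ⟨hB1, hpc, huc⟩ := S.coords_pt hx hα
      obtain ⟨hB2, huc', hpc'⟩ := S.pc_t hB1
      obtain ⟨x', hx', hxe⟩ := exists_orbit hst (b := t • x • t • a) fun e => hB2 (.inl e)
      have hα' : S.co.A x' ≠ 0 := fun e => hB2 (hxe ▸ (S.pt_not_mem hx').2 e)
      obtain ⟨-, hpx, hux⟩ := S.coords_pt hx' hα'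
      rw [hxe, hpc', huc] at hpx
      rw [hxe, huc', hpc] at hux
      obtain ⟨k1, k2⟩ := hκ _ hα
      obtain ⟨k3, k4⟩ := hκ _ hα'
      rw [k2, ← hc, hxZ] at hpx
      rw [k4, ← hc] at hux
      have hv0 : S.pf (S.co.A x) ≠ 0 := hI.P_ne _ hα
      have hJA : S.plane.J (S.co.A x') * Z = S.plane.J (S.co.A x) := by
        refine mul_left_cancel₀ hv0 ?_
        rw [← hpx] at k3
        linear_combination k3 - k1
      have hY' : (S.co.Z x' + S.plane.J c * (S.co.A x' * S.plane.J (S.co.A x'))) * Z = 1 := by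
        refine mul_left_cancel₀ hv0 ?_
        rw [← hpx] at hux
        linear_combination -hux
      have hAx : S.co.A x' * S.plane.J Z = S.co.A x := by
        have := congrArg S.plane.J hJA
        rwa [map_mul, S.JJ, S.JJ] at this
      rw [← hxe]
      congr 1
      refine huniq _ hx' _ (heltQ _) ?_ ?_
      · rw [heltA, hA']; simp only
        rw [hB, ← hJ, eq_div_iff ((map_ne_zero _).2 hZ), ← hxA]
        linear_combination μ * hAx
      · rw [heltZ, hZ']; simp only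
        rw [hY, eq_div_iff hZ]; exact hY'

/-- `⟨Q, t⟩` is `PSU(3, q)`. -/
theorem iso_psu_closure (hχ : S.plane.ρ = S.co.ω) :
    Nonempty ((Subgroup.closure ((Q : Set G) ∪ {t}) : Subgroup G) ≃* Cfsg.PSU 3 L (2 ^ U.n)) := by
  obtain ⟨M⟩ := S.exists_unital hχ
  have hst := U.hyp.setup
  have hF : Fintype.card L = (2 ^ U.n) ^ 2 := by rw [S.plane.card, U.card]
  let G₀ : Subgroup G := Subgroup.closure ((Q : Set G) ∪ {t})
  have hQG : ∀ q, M.elt q ∈ G₀ := fun q => Subgroup.subset_closure (.inl (M.elt_mem q))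
  haveI : FaithfulSMul G₀ Ω := ⟨fun {x y} e => Subtype.ext (FaithfulSMul.eq_of_smul_eq_smul (α := Ω) e)⟩
  refine iso_psu U.two_le hF (L := G₀) M.θ (fun A Z h => ⟨M.elt ⟨(A, Z), h⟩, hQG _⟩)
    ⟨t, Subgroup.subset_closure (.inr rfl)⟩ ?_ M.translate ?_ ?_ M.flip_pt ?_
  · intro A Z h
    rw [M.θ_inf]
    exact hst.le (M.elt_mem _)
  · intro h
    show t • M.θ .inf = _
    rw [M.θ_inf, M.θ_zero]
  · intro h
    show t • M.θ (.mk 0 0 h) = _
    rw [M.θ_inf, M.θ_zero, smul_smul_self hst]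
  · rw [eq_top_iff]
    have key : Subgroup.closure (((↑) : G₀ → G) ⁻¹' ((Q : Set G) ∪ {t})) = ⊤ :=
      Subgroup.closure_closure_coe_preimage
    rw [← key, Subgroup.closure_le]
    rintro ⟨x, hxG⟩ (hx | hx)
    · obtain ⟨⟨⟨A, Z⟩, h⟩, e⟩ := M.elt_surj x hx
      exact Subgroup.subset_closure (.inl ⟨A, Z, h, Subtype.ext e⟩)
    · exact Subgroup.subset_closure (.inr (Subtype.ext hx))

end Frame

/-- Part C: a non-trivial `Ww` gives `PSU₃(q)`. -/
theorem Hyp.concl_of_Ww_ne_bot (h : Hyp G Ω a t Q) (hQ : IsPGroup 2 Q) (hW : Ww a t ≠ ⊥) : Concl G := by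
  obtain ⟨F, _, _, _, ⟨U⟩⟩ := h.exists_udata hQ hW
  obtain ⟨L, _, _, ⟨S⟩⟩ := U.exists_frame
  obtain ⟨hN, hodd⟩ := h.closure_normal hQ hW
  have hiso : Nonempty ((Subgroup.closure ((Q : Set G) ∪ {t}) : Subgroup G) ≃* Cfsg.PSU 3 L (2 ^ U.n)) := by
    rcases S.idHyp.χ_eq with e | e
    · exact S.iso_psu_closure e
    · refine S.flip.iso_psu_closure ?_
      show S.plane.J S.plane.ρ = S.co.ω
      rw [e, S.JJ]
  exact ⟨_, hN, hodd, .inr (.inr ⟨L, inferInstance, inferInstance, U.n, U.two_le,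
    by rw [S.plane.card, U.card], hiso⟩)⟩

end Cfsg.Lib.RankOneSuzuki
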