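import Cfsg.Agent.Lib.RankOneSuzuki.Setup
import Cfsg.Agent.Lib.U3Even.Aut

/-!
# Suzuki's rank-one theorem: the field of the involutions

The group of involutions of the point stabiliser is a field of order `2 ^ n` on which the inverted elements
act by all multiplications and the two-point stabiliser semilinearly; so `|Vv : Ww|` divides `n`.
-/

set_option autoImplicit false
set_option linter.unusedSectionVars false
set_option linter.style.haveILetI false

namespace Cfsg.Lib.RankOneSuzuki

open Cfsg Cfsg.Lib.Linear.RankOne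

universe u v

variable {G : Type u} {Ω : Type v} [Group G] [MulAction G Ω] [Finite G] [FaithfulSMul G Ω]
  {a : Ω} {t : G} {Q : Subgroup G}

/-- Coordinates on the involutions of the point stabiliser. -/
structure FieldModel (a : Ω) (t : G) (n : ℕ) (F : Type) [Field F] where
  /-- the coordinate -/
  e : Zz G a ≃ F
  /-- the base involution -/
  s : Zz G a
  /-- the scalar of an inverted element -/
  μ : Kk a t ≃* Fˣ
  /-- the field automorphism of an element of the two-point stabiliser -/
  σ : Dd a t →* (F ≃+* F)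
  card : Nat.card F = 2 ^ n
  map_mul : ∀ x y : Zz G a, e (x * y) = e x + e y
  map_s : e s = 1
  centralizer_s : Vv a t = Dd a t ⊓ Subgroup.centralizer {(s : G)}
  conj_K : ∀ (k : Kk a t) (z z' : Zz G a), (z' : G) = k * z * (k : G)⁻¹ → e z' = μ k * e z
  conj_D : ∀ (d : Dd a t) (z z' u : Zz G a), (z' : G) = d * z * (d : G)⁻¹ →
    (u : G) = d * s * (d : G)⁻¹ → e z' = e u * σ d (e z)
  σ_K : ∀ d : Dd a t, (d : G) ∈ Kk a t → σ d = 1
  σ_μ : ∀ (d : Dd a t) (k k' : Kk a t), (k' : G) = d * k * (d : G)⁻¹ → σ d (μ k) = μ k'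
  σ_ker : ∀ d : Dd a t, (d : G) ∈ Vv a t → (σ d = 1 ↔ (d : G) ∈ Ww a t)

set_option maxHeartbeats 1000000 in
theorem Hyp.exists_fieldModel (h : Hyp G Ω a t Q) :
    ∃ (n : ℕ) (F : Type) (_ : Field F) (_ : Fintype F), 2 ≤ n ∧ Nat.card (Zz G a) = 2 ^ n ∧
      Nonempty (FieldModel a t n F) := by
  classical
  obtain ⟨n, hn, hcard⟩ := h.two_pow
  obtain ⟨s, r, hs, hs1, -, -, hV⟩ := h.exists_s
  obtain ⟨k₀, hk₀, hKz, -⟩ := h.gen
  have hk₀K : k₀ ∈ Kk a t := by rw [hKz]; exact Subgroup.mem_zpowers _
  letI : CommGroup (Zz G a) := { (inferInstance : Group (Zz G a)) with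
    mul_comm := fun x y => Subtype.ext (h.Zz_central x.2 (h.Zz_le y.2)) }
  -- conjugations as endomorphisms
  let c : Dd a t →* AddMonoid.End (Additive (Zz G a)) :=
    { toFun := fun d =>
        { toFun := fun z => Additive.ofMul
            ⟨(d : G) * ((Additive.toMul z : Zz G a) : G) * (d : G)⁻¹, h.Zz_conj d.2.1 (Additive.toMul z).2⟩
          map_zero' := Additive.toMul.injective (Subtype.ext (by simp))
          map_add' := fun x y => Additive.toMul.injective (Subtype.ext (by simp [mul_assoc])) }
      map_one' := AddMonoidHom.ext fun z => Additive.toMul.injective (Subtype.ext (by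
        show ((1 : Dd a t) : G) * _ * ((1 : Dd a t) : G)⁻¹ = _
        simp
        rfl))
      map_mul' := fun d d' => AddMonoidHom.ext fun z => Additive.toMul.injective (Subtype.ext (by
        show (d : G) * d' * _ * ((d : G) * d')⁻¹ = (d : G) * ((d' : G) * _ * (d' : G)⁻¹) * (d : G)⁻¹
        group)) }
  have hc : ∀ (d : Dd a t) (z : Additive (Zz G a)),
      ((Additive.toMul (c d z) : Zz G a) : G) = (d : G) * ((Additive.toMul z : Zz G a) : G) * (d : G)⁻¹ :=
    fun _ _ => rfl
  let K' : Subgroup (Dd a t) := (Kk a t).subgroupOf (Dd a t)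
  let R : Subring (AddMonoid.End (Additive (Zz G a))) := Subring.closure (c '' K')
  letI : CommRing R := Subring.closureCommRingOfComm (by
    rintro _ ⟨x, hx, rfl⟩ _ ⟨y, hy, rfl⟩
    rw [← map_mul, ← map_mul]
    exact congrArg c (Subtype.ext (h.comm_Kk hx hy)))
  have hcomm : ∀ x y : R, (x : AddMonoid.End (Additive (Zz G a))) * y = y * x :=
    fun x y => congrArg Subtype.val (mul_comm x y)
  let x₀ : Additive (Zz G a) := Additive.ofMul ⟨s, hs⟩
  have hx₀ : x₀ ≠ 0 := fun e => hs1 (congrArg (fun z => ((Additive.toMul z : Zz G a) : G)) e)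
  let ι : Kk a t → R := fun k =>
    ⟨c ⟨k, h.Kk_le k.2⟩, Subring.subset_closure ⟨⟨k, h.Kk_le k.2⟩, k.2, rfl⟩⟩
  have hnz : ∀ z : Additive (Zz G a), z ≠ 0 → ∃ k : Kk a t, (ι k : AddMonoid.End (Additive (Zz G a))) x₀ = z := by
    intro z hz
    obtain ⟨k, hk, he⟩ := h.Kk_trans hs hs1 (Additive.toMul z).2
      (fun e => hz (Additive.toMul.injective (Subtype.ext e)))
    exact ⟨⟨k, hk⟩, Additive.toMul.injective (Subtype.ext he)⟩
  have heval : Function.Bijective fun x : R => (x : AddMonoid.End (Additive (Zz G a))) x₀ := by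
    constructor
    · intro x y hxy
      refine Subtype.ext (AddMonoidHom.ext fun z => ?_)
      by_cases hz : z = 0
      · subst hz; exact (AddMonoidHom.map_zero _).trans (AddMonoidHom.map_zero _).symm
      obtain ⟨k, rfl⟩ := hnz z hz
      show ((x : AddMonoid.End (Additive (Zz G a))) * (ι k : AddMonoid.End (Additive (Zz G a)))) x₀ = ((y : AddMonoid.End (Additive (Zz G a))) * (ι k : AddMonoid.End (Additive (Zz G a)))) x₀
      rw [hcomm x (ι k), hcomm y (ι k)]
      exact congrArg (fun z => (ι k : AddMonoid.End (Additive (Zz G a))) z) hxy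
    · intro z
      by_cases hz : z = 0
      · exact ⟨0, hz.symm⟩
      obtain ⟨k, hk⟩ := hnz z hz
      exact ⟨ι k, hk⟩
  let ev : R ≃ Additive (Zz G a) := Equiv.ofBijective _ heval
  have hev : ∀ x : R, ev x = (x : AddMonoid.End (Additive (Zz G a))) x₀ := fun _ => rfl
  haveI : Finite (Additive (Zz G a)) := inferInstanceAs (Finite (Zz G a))
  haveI : Finite R := Finite.of_equiv _ ev.symm
  haveI : Fintype R := Fintype.ofFinite _
  have hι : ∀ x : R, x ≠ 0 → ∃ k : Kk a t, ι k = x := by
    intro x hx
    obtain ⟨k, hk⟩ := hnz (ev x) (fun e => hx (ev.injective (e.trans (hev 0).symm)))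
    exact ⟨k, ev.injective hk⟩
  have hι1 : ι 1 = 1 := Subtype.ext (map_one c)
  have hιmul : ∀ k k' : Kk a t, ι (k * k') = ι k * ι k' := fun k k' =>
    Subtype.ext (map_mul c ⟨k, h.Kk_le k.2⟩ ⟨k', h.Kk_le k'.2⟩)
  have hι0 : ∀ k : Kk a t, ι k ≠ 0 := by
    intro k e
    have e' : (ι k : AddMonoid.End (Additive (Zz G a))) x₀ = 0 := by rw [e]; rfl
    refine hs1 ?_
    have h1 : (k : G) * s * (k : G)⁻¹ = 1 :=
      congrArg (fun z => ((Additive.toMul z : Zz G a) : G)) e'
    exact conj_eq_one_iff.1 h1
  haveI : Nontrivial R := ⟨⟨1, 0, hι1 ▸ hι0 1⟩⟩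
  haveI : IsDomain R := by
    haveI : NoZeroDivisors R := ⟨fun {x y} hxy => by
      by_contra hne
      push Not at hne
      obtain ⟨k, rfl⟩ := hι x hne.1
      obtain ⟨k', rfl⟩ := hι y hne.2
      exact hι0 (k * k') (by rw [hιmul, hxy])⟩
    exact NoZeroDivisors.to_isDomain R
  letI : Field R := Fintype.fieldOfDomain R
  have hcardR : Fintype.card R = 2 ^ n := by
    rw [← Nat.card_eq_fintype_card, Nat.card_congr ev, ← hcard]; rfl
  haveI : Fact (Nat.Prime 2) := ⟨Nat.prime_two⟩
  haveI : Fintype (GaloisField 2 n) := Fintype.ofFinite _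
  have hcardF : Fintype.card (GaloisField 2 n) = 2 ^ n := by
    rw [← Nat.card_eq_fintype_card]; exact GaloisField.card 2 n (by omega)
  let φ : R ≃+* GaloisField 2 n := FiniteField.ringEquivOfCardEq (hcardR.trans hcardF.symm)
  -- the automorphism of an element of the two-point stabiliser
  have hnorm : ∀ d : Dd a t, ∀ x ∈ R, c d * x * c d⁻¹ ∈ R := by
    intro d x hx
    induction hx using Subring.closure_induction with
    | mem y hy =>
      obtain ⟨k, hk, rfl⟩ := hy
      rw [← map_mul, ← map_mul]
      exact Subring.subset_closure ⟨d * k * d⁻¹, h.Kk_conj d.2 hk, rfl⟩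
    | zero => rw [mul_zero, zero_mul]; exact zero_mem R
    | one => rw [mul_one, ← map_mul, mul_inv_cancel, map_one]; exact one_mem R
    | add y z _ _ hy hz => rw [mul_add, add_mul]; exact add_mem hy hz
    | neg y _ hy =>
      have e : c d * (-y) * c d⁻¹ = -(c d * y * c d⁻¹) :=
        AddMonoidHom.ext fun z => AddMonoidHom.map_neg (c d) _
      rw [e]; exact neg_mem hy
    | mul y z _ _ hy hz =>
      have e : c d * (y * z) * c d⁻¹ = (c d * y * c d⁻¹) * (c d * z * c d⁻¹) := by
        have h1 : c d⁻¹ * c d = 1 := by rw [← map_mul, inv_mul_cancel, map_one]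
        simp only [mul_assoc]
        rw [← mul_assoc (c d⁻¹) (c d) _, h1, one_mul]
      rw [e]; exact mul_mem hy hz
  have hinv1 : ∀ d : Dd a t, c d⁻¹ * c d = 1 := fun d => by rw [← map_mul, inv_mul_cancel, map_one]
  have hinv2 : ∀ d : Dd a t, c d * c d⁻¹ = 1 := fun d => by rw [← map_mul, mul_inv_cancel, map_one]
  let σR : Dd a t → (R ≃+* R) := fun d =>
    { toFun := fun x => ⟨c d * x * c d⁻¹, hnorm d x x.2⟩
      invFun := fun x => ⟨c d⁻¹ * x * c d, by
        have h1 := hnorm d⁻¹ x x.2
        rwa [inv_inv] at h1⟩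
      left_inv := fun x => Subtype.ext (by
        show c d⁻¹ * (c d * x * c d⁻¹) * c d = x
        simp only [mul_assoc, hinv1, mul_one]
        rw [← mul_assoc, hinv1, one_mul])
      right_inv := fun x => Subtype.ext (by
        show c d * (c d⁻¹ * x * c d) * c d⁻¹ = x
        simp only [mul_assoc, hinv2, mul_one]
        rw [← mul_assoc, hinv2, one_mul])
      map_mul' := fun x y => Subtype.ext (by
        show c d * (x * y) * c d⁻¹ = (c d * x * c d⁻¹) * (c d * y * c d⁻¹)
        simp only [mul_assoc]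
        rw [← mul_assoc (c d⁻¹) (c d) _, hinv1, one_mul])
      map_add' := fun x y => Subtype.ext (by
        show c d * (x + y : AddMonoid.End (Additive (Zz G a))) * c d⁻¹ = c d * x * c d⁻¹ + c d * y * c d⁻¹
        rw [mul_add, add_mul]) }
  have hσR : ∀ (d : Dd a t) (x : R), ((σR d x : R) : AddMonoid.End (Additive (Zz G a))) = c d * x * c d⁻¹ := fun _ _ => rfl
  let σF : Dd a t →* (GaloisField 2 n ≃+* GaloisField 2 n) :=
    { toFun := fun d => (φ.symm.trans (σR d)).trans φ
      map_one' := RingEquiv.ext fun x => by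
        show φ (σR 1 (φ.symm x)) = x
        have : σR 1 (φ.symm x) = φ.symm x := Subtype.ext (by rw [hσR, map_one, inv_one, map_one]; simp)
        rw [this, φ.apply_symm_apply]
      map_mul' := fun d d' => RingEquiv.ext fun x => by
        show φ (σR (d * d') (φ.symm x)) = φ (σR d (φ.symm (φ (σR d' (φ.symm x)))))
        rw [φ.symm_apply_apply]
        congr 1
        refine Subtype.ext ?_
        rw [hσR, hσR, hσR, mul_inv_rev, map_mul, map_mul]
        simp only [mul_assoc] }
  have hσF : ∀ d x, σF d (φ x) = φ (σR d x) := fun d x => by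
    show φ (σR d (φ.symm (φ x))) = _
    rw [φ.symm_apply_apply]
  let e : Zz G a ≃ GaloisField 2 n := (Additive.ofMul.trans ev.symm).trans φ.toEquiv
  have he : ∀ z : Zz G a, e z = φ (ev.symm (Additive.ofMul z)) := fun _ => rfl
  have hev' : ∀ z, (ev.symm z : AddMonoid.End (Additive (Zz G a))) x₀ = z := fun z => ev.apply_symm_apply z
  let ιu : Kk a t →* Rˣ := (({ toFun := ι, map_one' := hι1, map_mul' := hιmul } : Kk a t →* R)).toHomUnits
  have hιu : ∀ k, (ιu k : R) = ι k := fun _ => rfl
  have hιu_bij : Function.Bijective ιu := by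
    refine ⟨fun k k' e' => ?_, fun x => ?_⟩
    · have e2 : (ι k : AddMonoid.End (Additive (Zz G a))) x₀ = (ι k' : AddMonoid.End (Additive (Zz G a))) x₀ := by rw [← hιu, ← hιu, e']
      have e3 : (k : G) * s * (k : G)⁻¹ = k' * s * (k' : G)⁻¹ :=
        congrArg (fun z => ((Additive.toMul z : Zz G a) : G)) e2
      have h1 := h.Kk_free (k := ((k' : G)⁻¹ * k)) (mul_mem (inv_mem k'.2) k.2) (h.Zz_le hs) hs1 (by
        calc (k' : G)⁻¹ * k * s = (k' : G)⁻¹ * ((k : G) * s * (k : G)⁻¹) * k := by group
          _ = s * ((k' : G)⁻¹ * k) := by rw [e3]; group)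
      exact Subtype.ext (inv_mul_eq_one.1 h1).symm
    · obtain ⟨k, hk⟩ := hι x x.ne_zero
      exact ⟨k, Units.ext hk⟩
  let μ : Kk a t ≃* (GaloisField 2 n)ˣ :=
    (MulEquiv.ofBijective ιu hιu_bij).trans (Units.mapEquiv φ.toMulEquiv)
  have hμ : ∀ k, (μ k : GaloisField 2 n) = φ (ι k) := fun _ => rfl
  refine ⟨n, GaloisField 2 n, inferInstance, inferInstance, hn, hcard, ⟨
    { e := e, s := ⟨s, hs⟩, μ := μ, σ := σF
      card := GaloisField.card 2 n (by omega)
      map_mul := fun x y => by
        rw [he, he, he, ← map_add]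
        congr 1
        refine ev.injective ?_
        rw [ev.apply_symm_apply, hev]
        show _ = ((ev.symm _ : R) : AddMonoid.End (Additive (Zz G a))) x₀ + ((ev.symm _ : R) : AddMonoid.End (Additive (Zz G a))) x₀
        rw [hev', hev']
        rfl
      map_s := by
        rw [he, show ev.symm (Additive.ofMul ⟨s, hs⟩) = 1 from ev.injective (by
          rw [ev.apply_symm_apply]; rfl), map_one]
      centralizer_s := hV
      conj_K := fun k z z' hz => by
        rw [he, he, hμ, ← map_mul]
        congr 1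
        refine ev.injective ?_
        rw [ev.apply_symm_apply, hev]
        show _ = (ι k : AddMonoid.End (Additive (Zz G a))) ((ev.symm _ : R).1 x₀)
        rw [hev']
        exact Additive.toMul.injective (Subtype.ext hz)
      conj_D := fun d z z' u hz hu => by
        rw [he, he, he, hσF, ← map_mul]
        congr 1
        refine ev.injective ?_
        rw [ev.apply_symm_apply, hev, mul_comm]
        show _ = ((σR d (ev.symm (Additive.ofMul z)) : R) : AddMonoid.End (Additive (Zz G a)))
          ((ev.symm (Additive.ofMul u) : R).1 x₀)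
        rw [hev', hσR]
        show _ = c d ((ev.symm (Additive.ofMul z) : R).1 (c d⁻¹ (Additive.ofMul u)))
        have e1 : c d⁻¹ (Additive.ofMul u) = x₀ := by
          refine Additive.toMul.injective (Subtype.ext ?_)
          rw [hc]
          show ((d⁻¹ : Dd a t) : G) * (u : G) * ((d⁻¹ : Dd a t) : G)⁻¹ = s
          rw [hu, Subgroup.coe_inv, inv_inv]; group
        rw [e1, hev']
        exact Additive.toMul.injective (Subtype.ext (by rw [hc]; exact hz))
      σ_K := fun d hd => RingEquiv.ext fun x => by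
        obtain ⟨y, rfl⟩ := φ.surjective x
        rw [hσF]
        show φ (σR d y) = φ y
        congr 1
        refine Subtype.ext ?_
        rw [hσR]
        have e1 : c d * (y : AddMonoid.End (Additive (Zz G a))) = y * c d :=
          hcomm ⟨c d, Subring.subset_closure ⟨d, hd, rfl⟩⟩ y
        rw [e1, mul_assoc, hinv2, mul_one]
      σ_μ := fun d k k' hk => by
        rw [hμ, hμ, hσF]
        congr 1
        refine Subtype.ext ?_
        rw [hσR]
        show c d * c ⟨k, h.Kk_le k.2⟩ * c d⁻¹ = c ⟨k', h.Kk_le k'.2⟩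
        rw [← map_mul, ← map_mul]
        exact congrArg c (Subtype.ext hk.symm)
      σ_ker := fun d hd => by
        constructor
        · intro h1
          refine h.mem_Ww.2 ⟨d.2, fun z hz => ?_⟩
          have hds : (d : G) * s = s * d := by
            have h1' : (d : G) ∈ Dd a t ⊓ Subgroup.centralizer {s} := hV ▸ hd
            exact Subgroup.mem_centralizer_singleton_iff.1 h1'.2
          have h2 : σR d (ev.symm (Additive.ofMul ⟨z, hz⟩)) = ev.symm (Additive.ofMul ⟨z, hz⟩) :=
            φ.injective (by rw [← hσF, h1]; rfl)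
          have h3 := congrArg (fun y : R => (y : AddMonoid.End (Additive (Zz G a))) x₀) h2
          simp only [hσR, hev'] at h3
          have e1 : c d⁻¹ x₀ = x₀ := by
            refine Additive.toMul.injective (Subtype.ext ?_)
            rw [hc]
            show ((d⁻¹ : Dd a t) : G) * s * ((d⁻¹ : Dd a t) : G)⁻¹ = s
            rw [Subgroup.coe_inv, inv_inv, mul_assoc, ← hds]; group
          change c d ((ev.symm _ : R).1 (c d⁻¹ x₀)) = _ at h3
          rw [e1, hev'] at h3
          have h4 : (d : G) * z * (d : G)⁻¹ = z :=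
            congrArg (fun y => ((Additive.toMul y : Zz G a) : G)) h3
          exact (mul_inv_eq_iff_eq_mul.1 h4).symm
        · intro hw
          refine RingEquiv.ext fun x => ?_
          obtain ⟨y, rfl⟩ := φ.surjective x
          rw [hσF]
          show φ (σR d y) = φ y
          congr 1
          refine Subtype.ext ?_
          rw [hσR]
          have e1 : c d = 1 := AddMonoidHom.ext fun z => Additive.toMul.injective (Subtype.ext (by
            show (d : G) * ((Additive.toMul z : Zz G a) : G) * (d : G)⁻¹ = ((Additive.toMul z : Zz G a) : G)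
            rw [← (h.mem_Ww.1 hw).2 _ (Additive.toMul z).2, mul_inv_cancel_right]))
          rw [map_inv_eq_one c e1, e1, one_mul, mul_one] }⟩⟩
where
  map_inv_eq_one {A B : Type u} [Group A] [Monoid B] (f : A →* B) {x : A} (hx : f x = 1) : f x⁻¹ = 1 := by
    have := congrArg f (inv_mul_cancel x)
    rwa [map_mul, hx, mul_one, map_one] at this

/-- The index of `Ww` in `Vv` is odd and divides `n`, and `Vv` is generated by `Ww` and one element. -/
theorem Hyp.index_dvd (h : Hyp G Ω a t Q) {n : ℕ} {F : Type} [Field F] [Fintype F]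
    (M : FieldModel a t n F) (hn : 2 ≤ n) :
    ∃ e : ℕ, Nat.card (Vv a t) = e * Nat.card (Ww a t) ∧ e ∣ n ∧ Odd e := by
  haveI : Fact (Nat.Prime 2) := ⟨Nat.prime_two⟩
  haveI : CharP F 2 := by
    have h2 : ((2 : ℕ) : F) ^ n = 0 := by
      rw [← Nat.cast_pow, ← M.card, Nat.card_eq_fintype_card]
      exact FiniteField.cast_card_eq_zero F
    exact CharTwo.of_one_ne_zero_of_two_eq_zero one_ne_zero (by
      exact_mod_cast pow_eq_zero_iff (by omega : n ≠ 0) |>.1 h2)
  let f : Vv a t →* (F ≃+* F) := M.σ.comp (Subgroup.inclusion inf_le_left)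
  have hker : f.ker = (Ww a t).subgroupOf (Vv a t) := by
    ext x
    rw [MonoidHom.mem_ker, Subgroup.mem_subgroupOf]
    exact M.σ_ker _ x.2
  refine ⟨Nat.card f.range, ?_, ?_, ?_⟩
  · rw [← Nat.card_congr (QuotientGroup.quotientKerEquivRange f).toEquiv, hker,
      Subgroup.card_eq_card_quotient_mul_card_subgroup ((Ww a t).subgroupOf (Vv a t)),
      Nat.card_congr (Subgroup.subgroupOfEquivOfLe (inf_le_left : Ww a t ≤ Vv a t)).toEquiv]
  · have h1 := Subgroup.card_subgroup_dvd_card f.range
    rwa [Cfsg.Lib.U3Even.card_field_aut 2 n M.card] at h1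
  · refine Odd.of_dvd_nat h.setup.odd_card ?_
    exact (Subgroup.card_range_dvd f).trans (Subgroup.card_dvd_of_le inf_le_left)

end Cfsg.Lib.RankOneSuzuki
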