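import Mathlib.Algebra.Ring.GeomSum
import Mathlib.Data.ZMod.Basic
import Mathlib.Data.Nat.ModEq
import Mathlib.Data.Nat.Factorization.Basic
import Mathlib.Tactic.Linarith
import Mathlib.Tactic.Ring
import Mathlib.Tactic.LinearCombination
import Mathlib.Tactic.IntervalCases

/-!
# The arithmetic of the case of trivial `Ww`
-/

set_option autoImplicit false

namespace Cfsg.Lib.RankOneSuzuki

/-- A prime dividing `a ^ ℓ - 1` but not `a - 1`. -/
theorem exists_prime_new {a ℓ : ℕ} (ha : 2 ≤ a) (hℓ : ℓ.Prime) (hodd : Odd ℓ) :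
    ∃ p : ℕ, p.Prime ∧ p ∣ a ^ ℓ - 1 ∧ ¬ p ∣ a - 1 := by
  have hℓ3 : 3 ≤ ℓ := by
    obtain ⟨i, hi⟩ := hodd
    have := hℓ.two_le
    omega
  set S := ∑ i ∈ Finset.range ℓ, a ^ i with hS
  have hgeom : (a - 1) * S + 1 = a ^ ℓ := by
    have h := geom_sum_mul_add (a - 1) ℓ
    rw [Nat.sub_add_cancel (by omega : 1 ≤ a)] at h
    rw [hS, mul_comm]
    exact h
  have hSd : S ∣ a ^ ℓ - 1 := ⟨a - 1, by rw [← hgeom, Nat.add_sub_cancel, mul_comm]⟩
  by_contra hcon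
  simp only [not_exists, not_and, not_not] at hcon
  have hSgt : ℓ < S := by
    calc ℓ = ∑ i ∈ Finset.range ℓ, 1 := by simp
      _ < S := Finset.sum_lt_sum (fun i _ => Nat.one_le_pow _ _ (by omega))
          ⟨1, Finset.mem_range.2 (by omega), by simp; omega⟩
  have hdiv : ∀ p : ℕ, p.Prime → p ∣ S → p = ℓ := by
    intro p hp hpS
    have h1 : ((a : ZMod p)) = 1 := by
      have h2 : ((a - 1 : ℕ) : ZMod p) = 0 := (ZMod.natCast_eq_zero_iff _ _).2 (hcon p hp (hpS.trans hSd))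
      rw [Nat.cast_sub (by omega : 1 ≤ a), Nat.cast_one, sub_eq_zero] at h2
      exact h2
    have h3 : ((S : ℕ) : ZMod p) = 0 := (ZMod.natCast_eq_zero_iff _ _).2 hpS
    rw [hS, Nat.cast_sum] at h3
    simp only [Nat.cast_pow, h1, one_pow, Finset.sum_const, Finset.card_range, nsmul_eq_mul,
      mul_one] at h3
    exact (Nat.prime_dvd_prime_iff_eq hp hℓ).1 ((ZMod.natCast_eq_zero_iff _ _).1 h3)
  have hSpow : S = ℓ ^ S.primeFactorsList.length :=
    Nat.eq_prime_pow_of_unique_prime_dvd (by omega) (fun {d} hd hdS => hdiv d hd hdS)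
  set j := S.primeFactorsList.length
  have hj : 2 ≤ j := by
    by_contra hlt
    interval_cases j <;> simp at hSpow <;> omega
  have hℓS : ℓ ∣ S := hSpow ▸ dvd_pow_self ℓ (by omega)
  obtain ⟨t, ht⟩ := hcon ℓ hℓ (hℓS.trans hSd)
  have h2S : ((S : ℕ) : ZMod (ℓ ^ 2)) = 0 :=
    (ZMod.natCast_eq_zero_iff _ _).2 (hSpow ▸ pow_dvd_pow ℓ hj)
  have hll : (ℓ : ZMod (ℓ ^ 2)) * ℓ = 0 := by
    rw [← Nat.cast_mul, ← pow_two, ZMod.natCast_self]
  have ha' : (a : ZMod (ℓ ^ 2)) = 1 + ℓ * t := by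
    rw [show a = 1 + ℓ * t by omega]; push_cast; ring
  have hpow : ∀ i : ℕ, (a : ZMod (ℓ ^ 2)) ^ i = 1 + i * (ℓ * t) := by
    intro i
    induction i with
    | zero => simp
    | succ i ih =>
      rw [pow_succ (a : ZMod (ℓ ^ 2)) i, ih, ha', Nat.cast_succ]
      linear_combination ((i : ZMod (ℓ ^ 2)) * t * t) * hll
  rw [hS, Nat.cast_sum] at h2S
  simp only [Nat.cast_pow, hpow, Finset.sum_add_distrib, ← Finset.sum_mul, Finset.sum_const,
    Finset.card_range, nsmul_eq_mul, mul_one] at h2S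
  have hsum : (∑ i ∈ Finset.range ℓ, (i : ZMod (ℓ ^ 2))) = (ℓ : ZMod (ℓ ^ 2)) * ((ℓ - 1) / 2 : ℕ) := by
    rw [← Nat.cast_sum, Finset.sum_range_id, ← Nat.cast_mul]
    congr 1
    obtain ⟨i, hi⟩ := hodd
    rw [show ℓ - 1 = 2 * i by omega, Nat.mul_div_cancel_left _ two_pos,
      show ℓ * (2 * i) = 2 * (ℓ * i) by ring, Nat.mul_div_cancel_left _ two_pos]
  rw [hsum] at h2S
  have h0 : (ℓ : ZMod (ℓ ^ 2)) = 0 := by
    linear_combination h2S - (((ℓ - 1) / 2 : ℕ) : ZMod (ℓ ^ 2)) * t * hll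
  have := Nat.le_of_dvd hℓ.pos ((ZMod.natCast_eq_zero_iff _ _).1 h0)
  nlinarith

theorem two_pow_sub_three {n : ℕ} (h : 5 ≤ n) : n * n + 3 ≤ 2 ^ n := by
  induction n, h using Nat.le_induction with
  | base => norm_num
  | succ m hm ih =>
    rw [pow_succ]
    nlinarith [Nat.mul_le_mul hm hm]

/-- Odd numbers up to `n` differ modulo `2 ^ n - 1` even up to powers of two. -/
theorem eq_of_modEq {n j a b : ℕ} (hn : 2 ≤ n) (ha : Odd a) (hb : Odd b) (han : a ≤ n) (hbn : b ≤ n)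
    (h : 2 ^ j * a ≡ b [MOD 2 ^ n - 1]) : a = b ∧ n ∣ j := by
  set M := 2 ^ n - 1 with hM
  have h2n : 4 ≤ 2 ^ n := le_trans (by norm_num) (Nat.pow_le_pow_right (by norm_num : 0 < 2) hn)
  have hn2 : n < 2 ^ n := Nat.lt_two_pow_self
  have h1 : 2 ^ n ≡ 1 [MOD M] := by
    refine (Nat.modEq_of_dvd ?_).symm
    rw [hM]
    push_cast [Nat.cast_sub (by omega : 1 ≤ 2 ^ n)]
    exact dvd_refl _
  have hmod : 2 ^ j ≡ 2 ^ (j % n) [MOD M] := by
    conv_lhs => rw [← Nat.mod_add_div j n, pow_add, pow_mul]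
    simpa using (h1.pow (j / n)).mul_left (2 ^ (j % n))
  have hi : j % n < n := Nat.mod_lt _ (by omega)
  set i := j % n
  have h' : 2 ^ i * a ≡ b [MOD M] := (hmod.mul_right a).symm.trans h
  suffices i = 0 ∧ a = b from ⟨this.2, Nat.dvd_of_mod_eq_zero this.1⟩
  rcases Nat.lt_or_ge n 5 with hn5 | hn5
  · obtain ⟨a', rfl⟩ := ha
    obtain ⟨b', rfl⟩ := hb
    have ha' : a' < 2 := by omega
    have hb' : b' < 2 := by omega
    rw [Nat.ModEq, hM] at h'
    interval_cases n <;> interval_cases i <;> interval_cases a' <;> interval_cases b' <;>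
      revert h' <;> norm_num at *
  have hsq := two_pow_sub_three hn5
  have hnn : n ≤ n * n := Nat.le_mul_self n
  have hbM : b < M := by omega
  have haM : a < M := by omega
  by_cases hlt : 2 ^ i * a < M
  · have e : 2 ^ i * a = b := h'.eq_of_lt_of_lt hlt hbM
    rcases Nat.eq_zero_or_pos i with h0 | h0
    · refine ⟨h0, ?_⟩
      rw [h0, pow_zero, one_mul] at e
      exact e
    · exfalso
      refine Nat.not_even_iff_odd.2 hb (e ▸ ?_)
      exact ((Nat.even_pow).2 ⟨even_two, h0.ne'⟩).mul_right a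
  · exfalso
    rw [Nat.not_lt] at hlt
    have h2 : 2 ^ (n - i) * b ≡ a [MOD M] := by
      refine (h'.symm.mul_left (2 ^ (n - i))).trans ?_
      rw [← mul_assoc, ← pow_add, Nat.sub_add_cancel hi.le]
      simpa using h1.mul_right a
    by_cases hlt2 : 2 ^ (n - i) * b < M
    · have e := h2.eq_of_lt_of_lt hlt2 haM
      exact Nat.not_even_iff_odd.2 ha (e ▸ ((Nat.even_pow).2 ⟨even_two, by omega⟩).mul_right b)
    · rw [Nat.not_lt] at hlt2
      have h3 := Nat.mul_le_mul hlt hlt2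
      rw [show 2 ^ i * a * (2 ^ (n - i) * b) = 2 ^ (i + (n - i)) * (a * b) by rw [pow_add]; ring,
        Nat.add_sub_cancel' hi.le] at h3
      have h4 := Nat.mul_le_mul_left (2 ^ n) (Nat.mul_le_mul han hbn)
      have h5 : M + 1 = 2 ^ n := by omega
      nlinarith

/-- `2 ^ J + 1` divides `2 ^ M + 1` only for odd multiples. -/
theorem exists_odd_mul {J M : ℕ} (hJ : 1 ≤ J) (h : 2 ^ J + 1 ∣ 2 ^ M + 1) :
    ∃ d : ℕ, Odd d ∧ M = J * d := by
  refine ⟨M / J, ?_⟩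
  have hJ2 : ((2 : ZMod (2 ^ J + 1))) ^ J = -1 := by
    have h1 : ((2 ^ J + 1 : ℕ) : ZMod (2 ^ J + 1)) = 0 := ZMod.natCast_self _
    push_cast at h1
    linear_combination h1
  have hM : ((2 : ZMod (2 ^ J + 1))) ^ M + 1 = 0 := by
    have h1 := (ZMod.natCast_eq_zero_iff _ _).2 h
    push_cast at h1
    exact h1
  rw [← Nat.div_add_mod M J, pow_add, pow_mul, hJ2] at hM
  have hr : M % J < J := Nat.mod_lt _ hJ
  have hlt : 2 ^ (M % J) < 2 ^ J := Nat.pow_lt_pow_right (by norm_num) hr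
  have hpos : 0 < 2 ^ (M % J) := pow_pos two_pos _
  rcases Nat.even_or_odd (M / J) with he | ho
  · exfalso
    rw [he.neg_one_pow, one_mul] at hM
    have h2 : 2 ^ J + 1 ∣ 2 ^ (M % J) + 1 :=
      (ZMod.natCast_eq_zero_iff _ _).1 (by push_cast; exact hM)
    have := Nat.le_of_dvd (by omega) h2
    omega
  · refine ⟨ho, ?_⟩
    rw [ho.neg_one_pow] at hM
    have h2 : 2 ^ J + 1 ∣ 2 ^ (M % J) - 1 := (ZMod.natCast_eq_zero_iff _ _).1 (by
      rw [Nat.cast_sub hpos, Nat.cast_one]; push_cast; linear_combination -hM)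
    have h3 : 2 ^ (M % J) - 1 = 0 := Nat.eq_zero_of_dvd_of_lt h2 (by omega)
    have h4 : M % J = 0 := by
      by_contra hne
      have := Nat.pow_le_pow_right (show 0 < 2 by norm_num) (Nat.one_le_iff_ne_zero.2 hne)
      omega
    conv_lhs => rw [← Nat.div_add_mod M J, h4, add_zero]

/-- The degrees of the two constituents. -/
theorem degree_split {n e M A d₁ d₂ : ℕ} (hn : 2 ≤ n) (he : Odd e) (hen : e ∣ n) (hM : 1 ≤ M)
    (hsum : d₁ + d₂ = 2 ^ M + 1)
    (h1 : d₁ ∣ 2 ^ A * (2 ^ n - 1) * e * (2 ^ M + 1))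
    (h2 : d₂ ∣ 2 ^ A * (2 ^ n - 1) * e * (2 ^ M + 1))
    (hc1 : d₁ ≡ 1 [MOD 2 ^ n - 1]) (hc2 : d₂ ≡ 1 [MOD 2 ^ n - 1]) :
    d₁ = 1 ∨ d₂ = 1 ∨ ∃ k d : ℕ, 1 ≤ k ∧ Odd d ∧ 3 ≤ d ∧ M = n * (k * d) := by
  set Q := 2 ^ n - 1 with hQ
  have hev : Even (2 ^ M) := (Nat.even_pow).2 ⟨even_two, by omega⟩
  have hg0 : 0 < Nat.gcd d₁ d₂ := Nat.gcd_pos_of_pos_left _ (Nat.pos_of_ne_zero fun h0 => by
    rw [h0] at hc1
    have h4 : 4 ≤ 2 ^ n := le_trans (by norm_num) (Nat.pow_le_pow_right (by norm_num : 0 < 2) hn)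
    exact absurd (Nat.le_of_dvd one_pos (Nat.modEq_zero_iff_dvd.1 hc1.symm)) (by omega))
  obtain ⟨α, β, hcop, e1, e2⟩ := Nat.exists_coprime d₁ d₂
  set g := Nat.gcd d₁ d₂
  have hN : g * (α + β) = 2 ^ M + 1 := by rw [← hsum, e1, e2]; ring
  have key : ∀ x y : ℕ, x + y = α + β → Nat.Coprime x y → g * x ∣ 2 ^ A * Q * e * (2 ^ M + 1) →
      g * x ≡ 1 [MOD Q] → ∃ j c, x = 2 ^ j * c ∧ Odd c ∧ c ∣ e := by
    intro x y hxy hxc hdvd hmod
    have hgQ : Nat.Coprime (g * x) Q := by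
      rw [Nat.coprime_comm, Nat.coprime_iff_gcd_eq_one]
      have h3 := hmod.gcd_eq
      rw [Nat.gcd_comm, h3, Nat.gcd_one_left]
    have hd2 : g * x ∣ g * (2 ^ A * e * (α + β)) := by
      have h3 : g * x ∣ 2 ^ A * e * (2 ^ M + 1) :=
        hgQ.dvd_of_dvd_mul_right (by rw [show 2 ^ A * e * (2 ^ M + 1) * Q = 2 ^ A * Q * e * (2 ^ M + 1) by ring]; exact hdvd)
      rwa [← hN, show 2 ^ A * e * (g * (α + β)) = g * (2 ^ A * e * (α + β)) by ring] at h3
    have hd3 : x ∣ 2 ^ A * e * (α + β) := Nat.dvd_of_mul_dvd_mul_left hg0 hd2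
    have hxy' : Nat.Coprime x (α + β) := by rw [← hxy]; exact Nat.coprime_self_add_right.2 hxc
    have hd4 : x ∣ 2 ^ A * e := hxy'.dvd_of_dvd_mul_right hd3
    have hx0 : x ≠ 0 := by
      rintro rfl
      have h0 : 2 ^ A * e = 0 := Nat.eq_zero_of_zero_dvd hd4
      exact mul_ne_zero (pow_ne_zero _ two_ne_zero) he.pos.ne' h0
    obtain ⟨j, c, hc, rfl⟩ := Nat.exists_eq_two_pow_mul_odd hx0
    exact ⟨j, c, rfl, hc, (Nat.Coprime.pow_right A (Nat.coprime_two_right.2 hc)).dvd_of_dvd_mul_left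
      ((dvd_mul_left c _).trans hd4)⟩
  obtain ⟨j₁, c₁, hj₁, hc₁, hc₁e⟩ := key α β rfl hcop (by rwa [mul_comm, ← e1]) (by rwa [mul_comm, ← e1])
  obtain ⟨j₂, c₂, hj₂, hc₂, hc₂e⟩ := key β α (add_comm _ _) hcop.symm (by rwa [mul_comm, ← e2])
    (by rwa [mul_comm, ← e2])
  have hodd : Odd (α + β) := by
    refine Odd.of_dvd_nat (n := 2 ^ M + 1) hev.add_one ⟨g, ?_⟩
    rw [← hN, mul_comm]
  have hle : ∀ c, c ∣ e → c ≤ n := fun c hc => Nat.le_of_dvd (by omega) (hc.trans hen)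
  -- one of the two is odd
  have main : ∀ x y j c c' : ℕ, x + y = α + β → Nat.Coprime x y → x = 2 ^ j * c → 1 ≤ j → Odd c →
      c ∣ e → y = c' → Odd c' → c' ∣ e → g * x ≡ 1 [MOD Q] → g * y ≡ 1 [MOD Q] →
      g * y = 1 ∨ ∃ k d : ℕ, 1 ≤ k ∧ Odd d ∧ 3 ≤ d ∧ M = n * (k * d) := by
    intro x y j c c' hxy hxc hx hj hc hce hy hc' hce' hm1 hm2
    have hmod : x ≡ y [MOD Q] := by
      refine Nat.ModEq.cancel_left_of_coprime ?_ (hm1.trans hm2.symm)
      have h3 : Nat.gcd (g * x) Q = 1 := by rw [hm1.gcd_eq, Nat.gcd_one_left]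
      rw [Nat.gcd_comm]
      exact (Nat.Coprime.coprime_dvd_left (dvd_mul_right g x) h3 : Nat.Coprime g Q)
    rw [hx, hy] at hmod
    obtain ⟨rfl, hnj⟩ := eq_of_modEq hn hc hc' (hle _ hce) (hle _ hce') hmod
    rw [hx, hy] at hxc
    have hc1 : c = 1 := Nat.Coprime.eq_one_of_dvd (Nat.Coprime.coprime_dvd_left (dvd_mul_left c _) hxc) dvd_rfl
    subst hc1
    subst hy
    rw [mul_one] at hx
    rw [mul_one]
    have hN' : g * (2 ^ j + 1) = 2 ^ M + 1 := by rw [← hN, ← hxy, hx]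
    obtain ⟨d, hd, hMd⟩ := exists_odd_mul hj (hN' ▸ dvd_mul_left (2 ^ j + 1) g)
    rcases eq_or_ne d 1 with rfl | hd1
    · left
      rw [mul_one] at hMd
      rw [← hMd] at hN'
      exact Nat.eq_of_mul_eq_mul_right (Nat.succ_pos _) (by rw [one_mul]; exact hN')
    · right
      obtain ⟨k, rfl⟩ := hnj
      obtain ⟨i, rfl⟩ := hd
      exact ⟨k, 2 * i + 1, Nat.pos_of_mul_pos_left (Nat.lt_of_lt_of_le Nat.zero_lt_one hj), ⟨i, rfl⟩,
        by omega, by rw [hMd, mul_assoc]⟩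
  rcases Nat.eq_zero_or_pos j₁ with h0 | h0
  · rw [h0, pow_zero, one_mul] at hj₁
    have hj2 : 1 ≤ j₂ := by
      rcases Nat.eq_zero_or_pos j₂ with h0' | h0'
      · exfalso
        rw [h0', pow_zero, one_mul] at hj₂
        rw [hj₁, hj₂] at hodd
        exact Nat.not_even_iff_odd.2 hodd (hc₁.add_odd hc₂)
      · exact h0'
    rcases main β α j₂ c₂ c₁ (add_comm _ _) hcop.symm hj₂ hj2 hc₂ hc₂e hj₁ hc₁ hc₁e
      (by rwa [mul_comm, ← e2]) (by rwa [mul_comm, ← e1]) with h | h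
    · left; rw [e1, mul_comm]; exact h
    · right; right; exact h
  · have hj2 : j₂ = 0 := by
      by_contra hne
      refine Nat.not_even_iff_odd.2 hodd ?_
      rw [hj₁, hj₂]
      exact (((Nat.even_pow).2 ⟨even_two, h0.ne'⟩).mul_right _).add
        (((Nat.even_pow).2 ⟨even_two, hne⟩).mul_right _)
    rw [hj2, pow_zero, one_mul] at hj₂
    rcases main α β j₁ c₁ c₂ rfl hcop hj₁ h0 hc₁ hc₁e hj₂ hc₂ hc₂e
      (by rwa [mul_comm, ← e1]) (by rwa [mul_comm, ← e2]) with h | h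
    · right; left; rw [e2, mul_comm]; exact h
    · right; right; exact h

/-- `9` is the only prime power of the form `2 ^ m + 1` with `m` not a power of two. -/
theorem eq_three_of_prime_pow {k d ℓ f : ℕ} (hk : 1 ≤ k) (hd : Odd d) (hd3 : 3 ≤ d) (hℓ : ℓ.Prime)
    (h : 2 ^ (k * d) + 1 = ℓ ^ f) : k * d = 3 ∧ ℓ = 3 := by
  set m := k * d with hm
  have hkm : k < m := by
    rw [hm]
    calc k = k * 1 := (mul_one k).symm
      _ < k * d := Nat.mul_lt_mul_of_pos_left (by omega) (by omega)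
  have hm1 : 1 ≤ m := by omega
  have hℓo : Odd ℓ := by
    refine hℓ.odd_of_ne_two ?_
    rintro rfl
    rcases Nat.eq_zero_or_pos f with hf | hf
    · rw [hf, pow_zero] at h
      have := pow_pos (two_pos (α := ℕ)) m
      omega
    · have he : Even (2 ^ m + 1) := h ▸ (Nat.even_pow).2 ⟨even_two, hf.ne'⟩
      rw [Nat.even_add_one] at he
      exact he ((Nat.even_pow).2 ⟨even_two, by omega⟩)
  have hℓ2 := hℓ.two_le
  rcases Nat.even_or_odd f with hfe | hfo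
  · obtain ⟨u, rfl⟩ := hfe
    rw [pow_add] at h
    have hX1 : 1 ≤ ℓ ^ u := Nat.one_le_pow _ _ hℓ.pos
    have hmul : (ℓ ^ u - 1) * (ℓ ^ u + 1) = 2 ^ m := by
      obtain ⟨z, hz⟩ : ∃ z, ℓ ^ u = z + 1 := ⟨ℓ ^ u - 1, by omega⟩
      rw [hz] at h ⊢
      rw [Nat.add_sub_cancel]
      nlinarith
    obtain ⟨i, -, hi⟩ := (Nat.dvd_prime_pow Nat.prime_two).1 (hmul ▸ dvd_mul_right _ _ : ℓ ^ u - 1 ∣ 2 ^ m)
    obtain ⟨i', -, hi'⟩ := (Nat.dvd_prime_pow Nat.prime_two).1 (hmul ▸ dvd_mul_left _ _ : ℓ ^ u + 1 ∣ 2 ^ m)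
    have he : 2 ^ i + 2 = 2 ^ i' := by omega
    have hi1 : i = 1 := by
      rcases i with _ | _ | i
      · exfalso
        rcases i' with _ | _ | i'
        · simp at he
        · simp at he
        · rw [pow_succ, pow_succ] at he; omega
      · rfl
      · exfalso
        rw [pow_succ, pow_succ] at he
        rcases i' with _ | _ | i'
        · simp at he
        · simp at he
        · rw [pow_succ, pow_succ] at he; omega
    subst hi1
    have hu : ℓ ^ u = 3 := by omega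
    have hu1 : u = 1 := by
      rcases u with _ | _ | u
      · simp at hu
      · rfl
      · exfalso
        have : ℓ ^ 2 ≤ ℓ ^ (u + 2) := Nat.pow_le_pow_right hℓ.pos (by omega)
        nlinarith
    subst hu1
    rw [pow_one] at hu
    subst hu
    refine ⟨Nat.pow_right_injective le_rfl (?_ : 2 ^ m = 2 ^ 3), rfl⟩
    rw [← hmul]; norm_num
  · exfalso
    rcases eq_or_ne f 1 with rfl | hf1
    · rw [pow_one] at h
      have hdvd : 2 ^ k + 1 ∣ ℓ := by
        rw [← h, hm, pow_mul]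
        simpa using hd.nat_add_dvd_pow_add_pow (2 ^ k) 1
      rcases (Nat.dvd_prime hℓ).1 hdvd with e | e
      · have := pow_pos (two_pos (α := ℕ)) k
        omega
      · have := Nat.pow_lt_pow_right (by norm_num : 1 < 2) hkm
        omega
    · set S := ∑ i ∈ Finset.range f, ℓ ^ i with hS
      have hgeom : (ℓ - 1) * S + 1 = ℓ ^ f := by
        have h' := geom_sum_mul_add (ℓ - 1) f
        rw [Nat.sub_add_cancel (by omega : 1 ≤ ℓ)] at h'
        rw [hS, mul_comm]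
        exact h'
      have hf3 : 3 ≤ f := by obtain ⟨i, rfl⟩ := hfo; omega
      have hSd : S ∣ 2 ^ m := ⟨ℓ - 1, by rw [mul_comm]; omega⟩
      obtain ⟨i, -, hi⟩ := (Nat.dvd_prime_pow Nat.prime_two).1 hSd
      have hS2 : ((S : ℕ) : ZMod 2) = 1 := by
        rw [hS, Nat.cast_sum]
        simp only [Nat.cast_pow, (ZMod.natCast_eq_one_iff_odd).2 hℓo, one_pow, Finset.sum_const,
          Finset.card_range, nsmul_eq_mul, mul_one]
        exact (ZMod.natCast_eq_one_iff_odd).2 hfo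
      have hSgt : 1 < S := by
        calc 1 = ∑ i ∈ Finset.range 1, ℓ ^ i := by simp
          _ < S := Finset.sum_lt_sum_of_subset (Finset.range_subset_range.2 (by omega))
              (Finset.mem_range.2 (show 1 < f by omega)) (by simp) (pow_pos hℓ.pos _) fun _ _ _ => Nat.zero_le _
      have hi0 : i ≠ 0 := fun e => by rw [e, pow_zero] at hi; omega
      exact Nat.not_even_iff_odd.2 ((ZMod.natCast_eq_one_iff_odd).1 hS2)
        (hi ▸ (Nat.even_pow).2 ⟨even_two, hi0⟩)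

end Cfsg.Lib.RankOneSuzuki
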