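import Cfsg.Agent.Lib.RankOneSuzuki.ZasProj
import Cfsg.Agent.Lib.RankOneSuzuki.ZasArith
import Cfsg.Agent.Lib.RankOneSuzuki.SetupField
import Cfsg.Agent.Lib.Char.Induced
import Cfsg.Agent.Lib.Char.Linear
import Cfsg.Agent.Lib.Char.Central

/-!
# Suzuki's rank-one theorem, Part B: the constituents of an induced linear character

A faithful linear character of `Vv`, pulled back to the point stabiliser and induced, has two constituents,
each containing the principal character of `Q` once.  So their degrees are `1` modulo `q - 1` and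
`degree_split` applies.
-/

set_option autoImplicit false
set_option linter.unusedSectionVars false
set_option linter.style.haveILetI false

namespace Cfsg.Lib.RankOneSuzuki

open Cfsg Cfsg.Lib.Linear.RankOne Cfsg.Lib.Char
open scoped ComplexConjugate

universe u v

/-- A character with a linear constituent trivial on the image of `i` contains the trivial one there. -/
theorem zas_one_le_classInner {A U : Type u} [Group A] [Fintype A] [Group U] [Fintype U] (i : U →* A)
    {ψ : A → ℂ} (hψ : IsCharacter A ψ) (φ : A →* ℂˣ) (hφ : ∀ x, φ (i x) = 1)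
    (hc : classInner ψ (fun g => (φ g : ℂ)) ≠ 0) :
    ∃ c : ℕ, 1 ≤ c ∧ classInner (fun x => ψ (i x)) (fun _ : U => (1 : ℂ)) = c := by
  classical
  choose m hm using fun χ : IrrCharacter A => hψ.exists_nat_classInner χ.2.isCharacter
  choose l hl using fun χ : IrrCharacter A =>
    (χ.2.isCharacter.comp i).exists_nat_classInner (isCharacter_one (G := U))
  refine ⟨∑ χ, m χ * l χ, ?_, ?_⟩
  · set χ₀ : IrrCharacter A := ⟨_, isIrrCharacter_linear φ⟩ with hχ₀
    have h1 : 1 ≤ m χ₀ := by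
      refine Nat.one_le_iff_ne_zero.2 fun e => hc ?_
      have := hm χ₀
      rw [e, Nat.cast_zero] at this
      exact this
    have h2 : l χ₀ = 1 := by
      have := hl χ₀
      have e : (fun x : U => (χ₀ : A → ℂ) (i x)) = fun _ => (1 : ℂ) := funext fun x => by
        show (φ (i x) : ℂ) = 1
        rw [hφ, Units.val_one]
      change classInner (fun x => (χ₀ : A → ℂ) (i x)) _ = _ at this
      rw [e, classInner_irr_self (isIrrCharacter_one (G := U))] at this
      exact_mod_cast this.symm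
    refine le_trans ?_ (Finset.single_le_sum (fun χ _ => Nat.zero_le (m χ * l χ)) (Finset.mem_univ χ₀))
    rw [h2, mul_one]
    exact h1
  · have e : (fun x => ψ (i x)) = ∑ χ : IrrCharacter A, (m χ : ℂ) • (fun x => (χ : A → ℂ) (i x)) := by
      funext x
      conv_lhs => rw [eq_sum_classInner hψ.isClassFunction]
      simp only [Finset.sum_apply, Pi.smul_apply, hm]
    rw [e, classInner_sum_left, Nat.cast_sum]
    refine Finset.sum_congr rfl fun χ _ => ?_
    have := hl χ
    change classInner (fun x => (χ : A → ℂ) (i x)) _ = _ at this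
    rw [classInner_smul_left, this, Nat.cast_mul]

variable {G : Type u} {Ω : Type v} [Group G] [MulAction G Ω] [Finite G] [FaithfulSMul G Ω]
  {a : Ω} {t : G} {Q : Subgroup G}

/-- The sum of a class function over `Q - 1` is a multiple of `q - 1`. -/
theorem Hyp.zas_sum_nonid [Fintype G] (h : Hyp G Ω a t Q) [Fintype Q] {f : G → ℂ} (hf : IsClassFunction G f)
    (hint : ∀ g, IsIntegral ℤ (f g)) :
    ∃ (I : ℂ) (r : ℕ), IsIntegral ℤ I ∧ Nat.card Q = 1 + Nat.card (Kk a t) * r ∧
      ∑ u : Q, f u = f 1 + (Nat.card (Kk a t) : ℂ) * I := by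
  classical
  letI : MulAction (Kk a t) {u : Q // u ≠ 1} :=
    { smul := fun k u => ⟨⟨(k : G) * u.1 * (k : G)⁻¹, h.setup.conj_mem _ (h.Kk_le k.2).1 _ u.1.2⟩,
        fun e => u.2 (Subtype.ext (conj_eq_one_iff.1 (congrArg Subtype.val e)))⟩
      one_smul := fun u => Subtype.ext (Subtype.ext (by
        show ((1 : Kk a t) : G) * u.1 * ((1 : Kk a t) : G)⁻¹ = u.1
        simp))
      mul_smul := fun k k' u => Subtype.ext (Subtype.ext (by
        show ((k * k' : Kk a t) : G) * u.1 * ((k * k' : Kk a t) : G)⁻¹ =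
          (k : G) * ((k' : G) * u.1 * (k' : G)⁻¹) * (k : G)⁻¹
        simp [mul_assoc])) }
  have hfree : ∀ u : {u : Q // u ≠ 1}, MulAction.stabilizer (Kk a t) u = ⊥ := by
    intro u
    refine (Subgroup.eq_bot_iff_forall _).2 fun k hk => Subtype.ext ?_
    have e : (k : G) * u.1 * (k : G)⁻¹ = u.1 := congrArg (fun y : {u : Q // u ≠ 1} => (y.1 : G)) hk
    exact h.Kk_free k.2 u.1.2 (fun e' => u.2 (Subtype.ext e')) (mul_inv_eq_iff_eq_mul.1 e)
  let E := MulAction.selfEquivOrbitsQuotientProd hfree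
  letI := Fintype.ofFinite (Quotient (MulAction.orbitRel (Kk a t) {u : Q // u ≠ 1}))
  letI := Fintype.ofFinite (Kk a t)
  have hconst : ∀ p, f ((E.symm p).1 : G) = f ((E.symm (p.1, 1)).1 : G) := by
    intro p
    have h1 : ∀ u : {u : Q // u ≠ 1}, f (u.1 : G) = f ((Quotient.out (E u).1).1 : G) := by
      intro u
      have h2 : (E u).1 = Quotient.mk'' u := rfl
      have h3 : Quotient.out (E u).1 ∈ MulAction.orbit (Kk a t) u := by
        rw [h2]
        exact MulAction.orbitRel_apply.1 (Quotient.exact (Quotient.out_eq _))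
      obtain ⟨k, hk⟩ := h3
      rw [← hk]
      exact (hf _ _).symm
    rw [h1 (E.symm p), h1 (E.symm (p.1, 1)), E.apply_symm_apply, E.apply_symm_apply]
  refine ⟨∑ o : Quotient (MulAction.orbitRel (Kk a t) {u : Q // u ≠ 1}), f ((E.symm (o, 1)).1 : G),
    Fintype.card (Quotient (MulAction.orbitRel (Kk a t) {u : Q // u ≠ 1})),
    IsIntegral.sum _ fun o _ => hint _, ?_, ?_⟩
  · have h1 := Fintype.card_congr E
    rw [Fintype.card_subtype_compl, Fintype.card_subtype_eq, Fintype.card_prod] at h1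
    have h2 : 0 < Fintype.card Q := Fintype.card_pos
    rw [Nat.card_eq_fintype_card, Nat.card_eq_fintype_card, mul_comm (Fintype.card (Kk a t))]
    omega
  · rw [Finset.mul_sum, ← Finset.add_sum_erase Finset.univ (fun u : Q => f u) (Finset.mem_univ 1)]
    congr 1
    rw [Finset.sum_subtype (F := inferInstance) (p := fun u : Q => u ≠ 1) _ (fun x => by simp),
      ← E.symm.sum_comp, Fintype.sum_prod_type]
    refine Finset.sum_congr rfl fun o _ => ?_
    rw [Finset.sum_congr rfl fun k _ => hconst (o, k)]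
    dsimp only
    rw [Finset.sum_const, Finset.card_univ, nsmul_eq_mul, Nat.card_eq_fintype_card]

theorem Hyp.zas_char (h : Hyp G Ω a t Q) (hQ : IsPGroup 2 Q) (hW : Ww a t = ⊥) {n : ℕ} {F : Type} [Field F]
    [Fintype F] (M : FieldModel a t n F) (hn : 2 ≤ n) {N : ℕ} (hN : Nat.card Q = 2 ^ N) :
    (∃ (A : Type u) (_ : CommGroup A), Nonempty (ZasHom G a t Q A)) ∨
      ∃ k d : ℕ, 1 ≤ k ∧ Odd d ∧ 3 ≤ d ∧ N = n * (k * d) := by
  classical
  haveI := Fintype.ofFinite G
  haveI := finite_pts h.setup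
  have hqn : Nat.card (Zz G a) = 2 ^ n := by rw [← M.card]; exact Nat.card_congr M.e
  -- a faithful linear character of `Vv`
  obtain ⟨lam, hlam⟩ : ∃ lam : Vv a t →* ℂˣ, Function.Injective lam := by
    obtain ⟨v₀, hv₀, hgen⟩ := h.zas_gen hW
    have hgen' : ∀ x : Vv a t, x ∈ Subgroup.zpowers (⟨v₀, hv₀⟩ : Vv a t) := fun x => by
      obtain ⟨j, hj⟩ := hgen x x.2
      exact ⟨j, Subtype.ext (by simp [hj])⟩
    set m := orderOf (⟨v₀, hv₀⟩ : Vv a t) with hm
    have hm0 : m ≠ 0 := (orderOf_pos _).ne'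
    have hprim := Complex.isPrimitiveRoot_exp m hm0
    set wu : ℂˣ := (hprim.isUnit hm0).unit with hwu
    have hu : IsPrimitiveRoot wu m := IsPrimitiveRoot.coe_units_iff.mp (by rw [hwu, IsUnit.unit_spec]; exact hprim)
    refine ⟨monoidHomOfForallMemZpowers hgen' (g' := wu) (by rw [← hu.eq_orderOf]),
      (injective_iff_map_eq_one _).2 fun x hx => ?_⟩
    obtain ⟨j, rfl⟩ := hgen' x
    rw [map_zpow, monoidHomOfForallMemZpowers_apply_gen, ← orderOf_dvd_iff_zpow_eq_one, ← hu.eq_orderOf] at hx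
    exact orderOf_dvd_iff_zpow_eq_one.1 hx
  obtain ⟨π, hπQ, hπK, hπV⟩ := h.zas_exists_proj
  let B : Subgroup G := MulAction.stabilizer G a
  have hB : B = MulAction.stabilizer G a := rfl
  letI := Fintype.ofFinite B
  letI := Fintype.ofFinite Q
  let ν : B →* ℂˣ := lam.comp π
  let θ : B → ℂ := fun x => (ν x : ℂ)
  have hθ : IsIrrCharacter B θ := isIrrCharacter_linear ν
  set Ind := indFun B θ with hInd
  have hIc : IsCharacter G Ind := isCharacter_indFun B hθ.isCharacter
  have hνQ : ∀ x : B, (x : G) ∈ Q → ν x = 1 := fun x hx => by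
    show lam (π x) = 1
    rw [hπQ x hx, map_one]
  have hνK : ∀ x : B, (x : G) ∈ Kk a t → ν x = 1 := fun x hx => by
    show lam (π x) = 1
    rw [hπK x hx, map_one]
  have hνD : ∀ (d d' : B), (d : G) ∈ Dd a t → (d' : G) = t * d * t → ν d' = ν d := by
    intro d d' hd hd'
    obtain ⟨x, hx, k, hk, he⟩ := h.exists_mul hd
    have e1 : d = ⟨x, hx.1.1⟩ * ⟨k, (h.Kk_le hk).1⟩ := Subtype.ext he
    have e2 : d' = ⟨x, hx.1.1⟩ * ⟨k⁻¹, (h.Kk_le (inv_mem hk)).1⟩ := Subtype.ext (by
      rw [hd', he, Subgroup.coe_mul]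
      calc t * (x * k) * t = (t * x * t⁻¹) * (t * k * t⁻¹) * (t * t) := by group
        _ = x * k⁻¹ := by rw [h.conj_t_Vv hx, (h.mem_Kk.1 hk).2, h.setup.mul_self, mul_one])
    rw [e1, e2, map_mul, map_mul, hνK ⟨k⁻¹, (h.Kk_le (inv_mem hk)).1⟩ (inv_mem hk), hνK ⟨k, (h.Kk_le hk).1⟩ hk]
  have hnorm1 : ∀ x : B, θ x * conj (θ x) = 1 := fun x => by
    rw [Complex.mul_conj, Complex.normSq_eq_norm_sq,
      norm_eq_one_of_pow_orderOf (g := x) (z := θ x)
        (by rw [← Units.val_pow_eq_pow_val, ← map_pow, pow_orderOf_eq_one, map_one, Units.val_one]),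
      one_pow, Complex.ofReal_one]
  set D0 : ℕ := Nat.card (Dd a t) with hD0
  have hcardB : Nat.card B = Nat.card Q * D0 := card_stab h.setup
  -- the norm is two
  have hpt : ∀ x : G, ∑ g : B, θ g * conj (extendByZero B θ (x⁻¹ * (g : G) * x)) =
      if x ∈ B then (Nat.card B : ℂ) else (D0 : ℂ) := by
    intro x
    split_ifs with hx
    · rw [Finset.sum_congr rfl (g := fun _ => (1 : ℂ)) fun g _ => ?_]
      · simp
      have hm : x⁻¹ * (g : G) * x ∈ B := mul_mem (mul_mem (inv_mem hx) g.2) hx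
      rw [extendByZero_of_mem _ _ hm]
      have e : (⟨x⁻¹ * (g : G) * x, hm⟩ : B) = ⟨x, hx⟩⁻¹ * g * ⟨x, hx⟩ := rfl
      show θ g * conj ((ν (⟨x⁻¹ * (g : G) * x, hm⟩ : B) : ℂˣ) : ℂ) = 1
      rw [e, map_mul, map_mul, map_inv, mul_right_comm, inv_mul_cancel, one_mul]
      exact hnorm1 g
    · have hxa : x • a ≠ a := hx
      obtain ⟨q, hq, hqe⟩ := exists_orbit h.setup hxa
      have hy : (q * t)⁻¹ * x ∈ B := by
        show ((q * t)⁻¹ * x) • a = a
        rw [mul_smul, inv_smul_eq_iff, mul_smul, hqe]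
      set y : B := ⟨_, hy⟩ with hydef
      have hxy : x = q * t * (y : G) := by rw [hydef]; group
      rw [← Finset.sum_filter_add_sum_filter_not Finset.univ (fun g : B => (g : G) • x • a = x • a),
        Finset.sum_congr rfl (g := fun _ => (1 : ℂ)) fun g hg => ?_,
        Finset.sum_eq_zero (s := Finset.univ.filter fun g : B => ¬ (g : G) • x • a = x • a) fun g hg => ?_,
        Finset.sum_const, add_zero, nsmul_one]
      · congr 1
        rw [← Fintype.card_subtype, ← Nat.card_eq_fintype_card]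
        refine Nat.card_congr ⟨fun g => ⟨q⁻¹ * (g.1 : G) * q, ?_, ?_⟩,
          fun d => ⟨⟨q * (d : G) * q⁻¹, mul_mem (mul_mem (h.setup.le hq) d.2.1) (inv_mem (h.setup.le hq))⟩, ?_⟩,
          fun g => Subtype.ext (Subtype.ext (by show q * (q⁻¹ * (g.1 : G) * q) * q⁻¹ = g.1; group)),
          fun d => Subtype.ext (by show q⁻¹ * (q * (d : G) * q⁻¹) * q = d; group)⟩
        · show q⁻¹ * (g.1 : G) * q ∈ B
          exact mul_mem (mul_mem (inv_mem (h.setup.le hq)) g.1.2) (h.setup.le hq)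
        · show (q⁻¹ * (g.1 : G) * q) • t • a = t • a
          rw [mul_smul, mul_smul, hqe, g.2, inv_smul_eq_iff, hqe]
        · show (q * (d : G) * q⁻¹) • x • a = x • a
          rw [← hqe, mul_smul, mul_smul, inv_smul_smul, show (d : G) • t • a = t • a from d.2.2]
      · have hnm : x⁻¹ * (g : G) * x ∉ B := fun hm => (Finset.mem_filter.1 hg).2 (by
          have : (x⁻¹ * (g : G) * x) • a = a := hm
          rwa [mul_smul, mul_smul, inv_smul_eq_iff] at this)
        rw [extendByZero_of_notMem _ _ hnm, map_zero, mul_zero]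
      · have hg' : (g : G) • x • a = x • a := (Finset.mem_filter.1 hg).2
        have hm : x⁻¹ * (g : G) * x ∈ B := by
          show (x⁻¹ * (g : G) * x) • a = a
          rw [mul_smul, mul_smul, hg', inv_smul_smul]
        have hd : q⁻¹ * (g : G) * q ∈ Dd a t := by
          refine ⟨(mul_mem (mul_mem (inv_mem (h.setup.le hq)) g.2) (h.setup.le hq) : q⁻¹ * (g : G) * q ∈ B), ?_⟩
          show (q⁻¹ * (g : G) * q) • t • a = t • a
          rw [mul_smul, mul_smul, hqe, hg', inv_smul_eq_iff, hqe]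
        have hd' : t * (q⁻¹ * (g : G) * q) * t ∈ B := (conj_mem_D h.setup hd).1
        have e1 : ν g = ν (⟨q, h.setup.le hq⟩⁻¹ * g * ⟨q, h.setup.le hq⟩) := by
          rw [map_mul, map_mul, map_inv, hνQ ⟨q, h.setup.le hq⟩ hq, inv_one, one_mul, mul_one]
        have e2 : (⟨x⁻¹ * (g : G) * x, hm⟩ : B) = y⁻¹ * ⟨_, hd'⟩ * y := Subtype.ext (by
          show x⁻¹ * (g : G) * x = (y : G)⁻¹ * (t * (q⁻¹ * (g : G) * q) * t) * y
          have e : ∀ Y : G, (q * t * Y)⁻¹ * (g : G) * (q * t * Y) = Y⁻¹ * (t * (q⁻¹ * (g : G) * q) * t) * Y := by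
            intro Y
            rw [mul_inv_rev, mul_inv_rev, t_inv h.setup]
            group
          rw [← e, ← hxy])
        rw [extendByZero_of_mem _ _ hm]
        show θ g * conj ((ν (⟨x⁻¹ * (g : G) * x, hm⟩ : B) : ℂˣ) : ℂ) = 1
        rw [e2, map_mul, map_mul, map_inv, mul_right_comm, inv_mul_cancel, one_mul,
          hνD (⟨q, h.setup.le hq⟩⁻¹ * g * ⟨q, h.setup.le hq⟩) ⟨_, hd'⟩ hd rfl, ← e1]
        exact hnorm1 g
  have hindex : B.index = Nat.card Q + 1 := by
    haveI := pretransitive h.setup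
    rw [hB, MulAction.index_stabilizer_of_transitive G a, card_pts h.setup]
  have hnorm : classInner Ind Ind = 2 := by
    rw [hInd, classInner_indFun B θ (isClassFunction_indFun B θ)]
    simp only [classInner, indFun, map_mul, map_sum, map_inv₀, map_natCast]
    simp only [Finset.mul_sum]
    rw [Finset.sum_comm, Finset.sum_congr rfl (g := fun x : G =>
      (Nat.card B : ℂ)⁻¹ * (Nat.card B : ℂ)⁻¹ * if x ∈ B then (Nat.card B : ℂ) else (D0 : ℂ)) fun x _ => by
        rw [← hpt, Finset.mul_sum]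
        exact Finset.sum_congr rfl fun g _ => by ring]
    rw [← Finset.mul_sum, Finset.sum_ite, Finset.sum_const, Finset.sum_const, nsmul_eq_mul, nsmul_eq_mul]
    have h1 : (Finset.univ.filter fun x : G => x ∈ B).card = Nat.card B := by
      rw [← Fintype.card_subtype, Nat.card_eq_fintype_card]
    have h3 := Finset.card_filter_add_card_filter_not (s := (Finset.univ : Finset G)) (fun x => x ∈ B)
    rw [h1, Finset.card_univ, ← Nat.card_eq_fintype_card, ← Subgroup.card_mul_index B, hindex] at h3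
    have h5 : (Finset.univ.filter fun x : G => x ∉ B).card = Nat.card B * Nat.card Q := by linarith
    rw [h1, h5, hcardB]
    have h6 : (Nat.card Q : ℂ) ≠ 0 := Nat.cast_ne_zero.2 Nat.card_pos.ne'
    have h7 : (D0 : ℂ) ≠ 0 := Nat.cast_ne_zero.2 Nat.card_pos.ne'
    push_cast
    field_simp
    ring
  -- values on `Q`
  have hIQ : ∀ u : G, u ∈ Q → u ≠ 1 → Ind u = 1 := by
    intro u hu hu1
    have key : ∀ x : G, extendByZero B θ (x⁻¹ * u * x) = if x ∈ B then 1 else 0 := by
      intro x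
      split_ifs with hx
      · have hm : x⁻¹ * u * x ∈ B := mul_mem (mul_mem (inv_mem hx) (h.setup.le hu)) hx
        have hm' : x⁻¹ * u * x ∈ Q := by
          have := h.setup.conj_mem x⁻¹ (inv_mem hx) u hu
          rwa [inv_inv] at this
        rw [extendByZero_of_mem _ _ hm]
        show ((ν (⟨_, hm⟩ : B) : ℂˣ) : ℂ) = 1
        rw [hνQ _ hm', Units.val_one]
      · refine extendByZero_of_notMem _ _ fun hm => hx ?_
        have e : (x⁻¹ * u * x) • a = a := hm
        rw [mul_smul, mul_smul, inv_smul_eq_iff] at e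
        exact fix_eq h.setup hu hu1 e
    simp only [hInd, indFun, key]
    rw [Finset.sum_boole, ← Fintype.card_subtype, ← Nat.card_eq_fintype_card]
    exact inv_mul_cancel₀ ((Nat.cast_ne_zero (R := ℂ)).2 (Nat.card_pos (α := B)).ne')
  have hI1 : Ind 1 = (Nat.card Q : ℂ) + 1 := by
    rw [hInd, indFun_apply_one, hindex]
    show ((Nat.card Q + 1 : ℕ) : ℂ) * ((ν 1 : ℂˣ) : ℂ) = _
    rw [map_one, Units.val_one, mul_one, Nat.cast_add, Nat.cast_one]
  -- the multiplicities
  choose c hc using fun χ : IrrCharacter G => hIc.exists_nat_classInner χ.2.isCharacter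
  have hcsq : ∑ χ : IrrCharacter G, c χ ^ 2 = 2 := by
    have h1 := classInner_eq_sum hIc.isClassFunction (f' := Ind)
    rw [hnorm] at h1
    simp only [hc, Complex.conj_natCast, ← Nat.cast_mul, ← Nat.cast_sum] at h1
    simp only [pow_two]
    exact_mod_cast h1.symm
  have hle : ∀ χ, c χ ≤ 1 := fun χ => by
    have h1 := Finset.single_le_sum (fun χ _ => Nat.zero_le (c χ ^ 2)) (Finset.mem_univ χ)
    rw [hcsq] at h1
    by_contra h2
    have := Nat.pow_le_pow_left (show 2 ≤ c χ by omega) 2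
    omega
  set S := Finset.univ.filter fun χ : IrrCharacter G => c χ = 1 with hS
  have hc01 : ∀ χ, c χ = if χ ∈ S then 1 else 0 := fun χ => by
    have := hle χ
    by_cases hh : c χ = 1
    · simp [S, hh]
    · simp [S, hh]; omega
  have hS2 : S.card = 2 := by
    rw [← hcsq, Finset.sum_congr rfl fun χ _ => by rw [hc01 χ]]
    simp
  obtain ⟨χ₁, χ₂, hne, hS12⟩ := Finset.card_eq_two.1 hS2
  have hsum : ∀ g, Ind g = (χ₁ : G → ℂ) g + (χ₂ : G → ℂ) g := fun g => by
    conv_lhs => rw [eq_sum_classInner hIc.isClassFunction]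
    simp only [Finset.sum_apply, Pi.smul_apply, smul_eq_mul, hc]
    rw [Finset.sum_congr rfl fun χ _ => by rw [hc01 χ], ← Finset.sum_pair (f := fun χ : IrrCharacter G => (χ : G → ℂ) g) hne,
      ← hS12]
    simp [Finset.sum_ite_mem]
  -- each constituent contains the principal character of `Q` once
  let i : Q →* B := Subgroup.inclusion h.setup.le
  have hres : ∀ χ : IrrCharacter G, c χ = 1 →
      ∃ r : ℕ, 1 ≤ r ∧ ∑ u : Q, (χ : G → ℂ) u = (Nat.card Q : ℂ) * r := by
    intro χ hχ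
    have h1 : classInner (fun g : B => (χ : G → ℂ) g) θ ≠ 0 := by
      rw [← classInner_indFun_right B θ χ.2.isClassFunction, ← classInner_conj_symm, hc, hχ]
      simp
    obtain ⟨r, hr, hre⟩ := zas_one_le_classInner i (χ.2.isCharacter.comp B.subtype) ν
      (fun x => hνQ _ x.2) h1
    refine ⟨r, hr, ?_⟩
    simp only [classInner, map_one, mul_one] at hre
    rw [← hre, mul_inv_cancel_left₀ (Nat.cast_ne_zero.2 Nat.card_pos.ne')]
    rfl
  obtain ⟨r₁, hr₁, hs₁⟩ := hres χ₁ (Finset.mem_filter.1 (hS12 ▸ Finset.mem_insert_self _ _ : χ₁ ∈ S)).2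
  obtain ⟨r₂, hr₂, hs₂⟩ := hres χ₂ (Finset.mem_filter.1
    (hS12 ▸ Finset.mem_insert_of_mem (Finset.mem_singleton_self _) : χ₂ ∈ S)).2
  have hrr : r₁ = 1 ∧ r₂ = 1 := by
    have h1 : ∑ u : Q, Ind u = (Nat.card Q : ℂ) * 2 := by
      rw [← Finset.add_sum_erase Finset.univ (fun u : Q => Ind u) (Finset.mem_univ 1), OneMemClass.coe_one, hI1,
        Finset.sum_congr rfl fun (u : Q) hu => hIQ (u : G) u.2 fun e => (Finset.mem_erase.1 hu).1 (Subtype.ext e),
        Finset.sum_const, Finset.card_erase_of_mem (Finset.mem_univ 1), Finset.card_univ, nsmul_one,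
        Nat.cast_sub (Fintype.card_pos), ← Nat.card_eq_fintype_card]
      push_cast
      ring
    simp only [hsum, Finset.sum_add_distrib, hs₁, hs₂, ← mul_add] at h1
    have h2 : (r₁ + r₂ : ℂ) = 2 := mul_left_cancel₀ (Nat.cast_ne_zero.2 Nat.card_pos.ne') h1
    have h3 : r₁ + r₂ = 2 := by exact_mod_cast h2
    omega
  -- the degrees
  have hK0 : Nat.card (Kk a t) = 2 ^ n - 1 := by
    have := h.card_Kk
    omega
  have hdeg : ∀ χ : IrrCharacter G, (∑ u : Q, (χ : G → ℂ) u = (Nat.card Q : ℂ) * (1 : ℕ)) → ∀ d : ℕ,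
      (χ : G → ℂ) 1 = d → d ≡ 1 [MOD 2 ^ n - 1] := by
    intro χ hs d hd
    obtain ⟨I, r, hI, hr, hsumI⟩ := h.zas_sum_nonid χ.2.isClassFunction (χ.2.isCharacter.isIntegral)
    rw [hs, hd, hr, Nat.cast_one, mul_one] at hsumI
    push_cast at hsumI
    set K : ℕ := Nat.card (Kk a t) with hKdef
    have hK : (K : ℂ) ≠ 0 := Nat.cast_ne_zero.2 Nat.card_pos.ne'
    have hKq : (K : ℚ) ≠ 0 := Nat.cast_ne_zero.2 Nat.card_pos.ne'
    have h1 : IsIntegral ℤ (((((1 : ℚ) - d) / K : ℚ)) : ℂ) := by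
      have e : (((((1 : ℚ) - d) / K : ℚ)) : ℂ) = I - r := by
        push_cast
        field_simp
        linear_combination hsumI
      rw [e]
      exact hI.sub (isIntegral_natCast r)
    obtain ⟨z, hz⟩ := exists_int_of_isIntegral_rat h1
    rw [div_eq_iff hKq] at hz
    have h2 : (1 : ℤ) - d = z * K := by exact_mod_cast hz
    rw [← hK0]
    exact Nat.modEq_of_dvd ⟨z, by push_cast; linarith⟩
  obtain ⟨d₁, hd₁⟩ := χ₁.2.exists_degree
  obtain ⟨d₂, hd₂⟩ := χ₂.2.exists_degree
  rw [hrr.1] at hs₁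
  rw [hrr.2] at hs₂
  have hd₁' : (χ₁ : G → ℂ) 1 = d₁ := hd₁.2
  have hd₂' : (χ₂ : G → ℂ) 1 = d₂ := hd₂.2
  have hdsum : d₁ + d₂ = 2 ^ N + 1 := by
    have h1 := hsum 1
    rw [hI1, hd₁', hd₂', hN] at h1
    exact_mod_cast h1.symm
  obtain ⟨e, he, hen, heodd⟩ := h.index_dvd M hn
  rw [hW, Subgroup.card_bot, mul_one] at he
  have hG : Nat.card G = 2 ^ N * (2 ^ n - 1) * e * (2 ^ N + 1) := by
    rw [h.zas_card_group, h.card_Dd, he, hK0, hN]
    ring
  have hN1 : 1 ≤ N := by
    by_contra hh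
    have h0 : N = 0 := by omega
    have h1 : Nat.card (Zz G a) ≤ Nat.card Q := Subgroup.card_le_of_le h.Zz_le
    rw [hN, h0, pow_zero, hqn] at h1
    have := Nat.one_lt_two_pow (show n ≠ 0 by omega)
    omega
  -- a linear constituent gives the homomorphism
  have hlin : ∀ χ : IrrCharacter G, c χ = 1 → (χ : G → ℂ) 1 = 1 →
      ∃ (A : Type u) (_ : CommGroup A), Nonempty (ZasHom G a t Q A) := by
    intro χ hχ hχ1
    obtain ⟨φ, hφ⟩ := exists_hom_of_degree_one χ.2.isCharacter hχ1
    have h1 : classInner (fun g : B => (χ : G → ℂ) g) θ ≠ 0 := by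
      rw [← classInner_indFun_right B θ χ.2.isClassFunction, ← classInner_conj_symm, hc, hχ]
      simp
    have heq : ∀ x : B, φ x = ν x := by
      have h2 : (fun g : B => ((φ.comp B.subtype) g : ℂ)) = θ := by
        by_contra hne
        refine h1 ?_
        rw [hφ]
        exact classInner_irr_ne (isIrrCharacter_linear (φ.comp B.subtype)) hθ hne
      exact fun x => Units.ext (congrFun h2 x)
    let A := ULift.{u} ℂˣ
    refine ⟨A, inferInstance, ⟨⟨MulEquiv.ulift.symm.toMonoidHom.comp φ, ?_, ?_, ?_, ?_⟩⟩⟩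
    · intro x hx
      have := heq ⟨x, h.setup.le hx⟩
      rw [hνQ _ hx] at this
      show MulEquiv.ulift.symm (φ x) = 1
      rw [show φ x = 1 from this, map_one]
    · obtain ⟨s, r, hs, hs1, -⟩ := h.exists_s
      obtain ⟨g, hg⟩ : ∃ g : G, g * s * g⁻¹ = t := by
        have hc' := invol_conj h.setup hs1 (h.mem_Zz.1 hs).2 h.setup.ne_one h.setup.mul_self
        exact hc'
      have := heq ⟨s, h.setup.le (h.Zz_le hs)⟩
      rw [hνQ _ (h.Zz_le hs)] at this
      show MulEquiv.ulift.symm (φ t) = 1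
      rw [← hg, map_mul φ, map_mul φ, map_inv φ, mul_right_comm, mul_inv_cancel, one_mul, show φ s = 1 from this,
        map_one]
    · intro x hx
      have := heq ⟨x, (h.Kk_le hx).1⟩
      rw [hνK _ hx] at this
      show MulEquiv.ulift.symm (φ x) = 1
      rw [show φ x = 1 from this, map_one]
    · intro x hx hfx
      have hφx : φ x = 1 := MulEquiv.ulift.symm.injective (hfx.trans (map_one _).symm)
      have h3 : lam (π ⟨x, hx.1.1⟩) = 1 := (heq ⟨x, hx.1.1⟩).symm.trans hφx
      rw [hπV ⟨x, hx.1.1⟩ hx] at h3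
      exact congrArg Subtype.val (hlam (h3.trans (map_one lam).symm))
  rcases degree_split (A := N) hn heodd hen hN1 hdsum (hG ▸ degree_dvd_card χ₁.2 hd₁')
      (hG ▸ degree_dvd_card χ₂.2 hd₂') (hdeg χ₁ hs₁ d₁ hd₁') (hdeg χ₂ hs₂ d₂ hd₂') with e1 | e1 | e1
  · exact Or.inl (hlin χ₁ (Finset.mem_filter.1 (hS12 ▸ Finset.mem_insert_self _ _ : χ₁ ∈ S)).2
      (by rw [hd₁', e1, Nat.cast_one]))
  · exact Or.inl (hlin χ₂ (Finset.mem_filter.1
      (hS12 ▸ Finset.mem_insert_of_mem (Finset.mem_singleton_self _) : χ₂ ∈ S)).2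
      (by rw [hd₂', e1, Nat.cast_one]))
  · exact Or.inr e1

end Cfsg.Lib.RankOneSuzuki
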