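import Cfsg.Agent.Lib.RankOneSuzuki.ZasFix

/-!
# Suzuki's rank-one theorem, Part B: `Q` of order `q ^ 3`

The square roots in `Q` of an involution form a set of order `q * (q + 1)`; for `v` in `Vv` of prime order
this gives `|C_Q(v)| > q₀ ^ 2`, and `|C_Q(v)| = 8` when `q₀ = 2` and `ℓ = 3`.
-/

set_option autoImplicit false
set_option linter.unusedSectionVars false
set_option linter.style.haveILetI false

namespace Cfsg.Lib.RankOneSuzuki

open Cfsg Cfsg.Lib.Linear.RankOne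

universe u v

variable {G : Type u} {Ω : Type v} [Group G] [MulAction G Ω]

variable (G) in
/-- The square roots in `Q` of `z`. -/
def zasRoots (Q : Subgroup G) (z : G) : Set G := {x | x ∈ Q ∧ x * x = z}

variable [Finite G] [FaithfulSMul G Ω] {a : Ω} {t : G} {Q : Subgroup G}

theorem Hyp.zas_not_comm (h : Hyp G Ω a t Q) (hQ : IsPGroup 2 Q)
    (hc : Nat.card Q = Nat.card (Zz G a) ^ 3) (hsq : ∀ x ∈ Q, x * x ∈ Zz G a) :
    ¬ ∀ x ∈ Q, ∀ y ∈ Q, x * y = y * x := by
  intro hab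
  obtain ⟨n, hn, hq⟩ := h.two_pow
  let φ : Q →* Zz G a := MonoidHom.mk' (fun x => ⟨(x : G) * x, hsq x x.2⟩) fun x y => Subtype.ext (by
    show (x : G) * y * (x * y) = x * x * (y * y)
    rw [mul_assoc, ← mul_assoc (y : G), hab y y.2 x x.2, mul_assoc, ← mul_assoc, ← mul_assoc])
  have hk : Nat.card φ.ker ≤ Nat.card (Zz G a) :=
    Nat.card_le_card_of_injective (fun x => (⟨(x.1 : G), h.invol_of_sq (h.zas_twoSub hQ) x.1.2
      (congrArg Subtype.val x.2)⟩ : Zz G a))
      (fun x y e => Subtype.ext (Subtype.ext (congrArg (Subtype.val : Zz G a → G) e)))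
  have hr : Nat.card φ.range ≤ Nat.card (Zz G a) := Subgroup.card_le_card_group _
  have h1 := Subgroup.card_eq_card_quotient_mul_card_subgroup φ.ker
  rw [Nat.card_congr (QuotientGroup.quotientKerEquivRange φ).toEquiv, hc] at h1
  have h2 := Nat.mul_le_mul hr hk
  rw [← h1] at h2
  have hpos : 4 ≤ Nat.card (Zz G a) := by
    rw [hq]
    exact le_trans (by norm_num) (Nat.pow_le_pow_right (by norm_num : 1 ≤ 2) hn)
  nlinarith

theorem Hyp.zas_sq_mem (h : Hyp G Ω a t Q) (hQ : IsPGroup 2 Q)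
    (hab : ¬ ∀ x ∈ Q, ∀ y ∈ Q, x * y = y * x) : ∀ x ∈ Q, x * x ∈ Zz G a :=
  (h.suzuki_facts (h.zas_twoSub hQ) hab).1

variable (h : Hyp G Ω a t Q) (hQ : IsPGroup 2 Q) (hc : Nat.card Q = Nat.card (Zz G a) ^ 3)
  (hsq : ∀ x ∈ Q, x * x ∈ Zz G a)

include h hQ hsq

theorem Hyp.zas_roots_conj {d z : G} (hd : d ∈ Dd a t) {x : G} (hx : x ∈ zasRoots G Q z) :
    d * x * d⁻¹ ∈ zasRoots G Q (d * z * d⁻¹) :=
  ⟨h.setup.conj_mem d hd.1 x hx.1, by rw [← hx.2]; group⟩

include hc in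
theorem Hyp.zas_card_roots {z : G} (hz : z ∈ Zz G a) (hz1 : z ≠ 1) :
    Nat.card (zasRoots G Q z) = Nat.card (Zz G a) * (Nat.card (Zz G a) + 1) := by
  classical
  have hT := h.zas_twoSub hQ
  let A := {x : Q // (x : G) ∈ Zz G a}
  let f : A ⊕ (Kk a t × zasRoots G Q z) → Q := Sum.elim (fun x => x.1)
    (fun p => ⟨(p.1 : G) * p.2.1 * (p.1 : G)⁻¹, h.setup.conj_mem _ (h.Kk_le p.1.2).1 _ p.2.2.1⟩)
  have hroot : ∀ p : Kk a t × zasRoots G Q z, (p.1 : G) * p.2.1 * (p.1 : G)⁻¹ ∉ Zz G a := by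
    intro p hp
    have h1 := (h.mem_Zz.1 hp).2
    have h2 : (p.1 : G) * (p.2.1 * p.2.1) * (p.1 : G)⁻¹ = 1 := by rw [← h1]; group
    rw [p.2.2.2, conj_eq_one_iff] at h2
    exact hz1 h2
  have hf : Function.Bijective f := by
    constructor
    · rintro (x | p) (y | p') e
      · exact congrArg Sum.inl (Subtype.ext e)
      · have e' : (x.1 : G) = p'.1 * p'.2.1 * (p'.1 : G)⁻¹ := congrArg Subtype.val e
        exact absurd (e' ▸ x.2) (hroot p')
      · have e' : (y.1 : G) = p.1 * p.2.1 * (p.1 : G)⁻¹ := congrArg Subtype.val e.symm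
        exact absurd (e' ▸ y.2) (hroot p)
      · have e' : (p.1 : G) * p.2.1 * (p.1 : G)⁻¹ = p'.1 * p'.2.1 * (p'.1 : G)⁻¹ := congrArg Subtype.val e
        have e2 : (p.1 : G) * z * (p.1 : G)⁻¹ = p'.1 * z * (p'.1 : G)⁻¹ := by
          have := congrArg (fun y => y * y) e'
          simp only [show ∀ (k x : G), k * x * k⁻¹ * (k * x * k⁻¹) = k * (x * x) * k⁻¹ from fun k x => by group,
            p.2.2.2, p'.2.2.2] at this
          exact this
        have h1 := h.Kk_free (k := (p'.1 : G)⁻¹ * p.1) (mul_mem (inv_mem p'.1.2) p.1.2) (h.Zz_le hz) hz1 (by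
          calc (p'.1 : G)⁻¹ * p.1 * z = (p'.1 : G)⁻¹ * ((p.1 : G) * z * (p.1 : G)⁻¹) * p.1 := by group
            _ = z * ((p'.1 : G)⁻¹ * p.1) := by rw [e2]; group)
        have h2 : p.1 = p'.1 := Subtype.ext (inv_mul_eq_one.1 h1).symm
        rw [h2] at e'
        exact congrArg Sum.inr (Prod.ext h2 (Subtype.ext (mul_left_cancel (mul_right_cancel e'))))
    · intro x
      by_cases hx : (x : G) ∈ Zz G a
      · exact ⟨Sum.inl ⟨x, hx⟩, rfl⟩
      have hx2 : (x : G) * x ≠ 1 := fun e => hx (h.invol_of_sq hT x.2 e)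
      obtain ⟨k, hk, hke⟩ := h.Kk_trans hz hz1 (hsq x x.2) hx2
      refine ⟨Sum.inr (⟨k, hk⟩, ⟨k⁻¹ * x * k, ?_, ?_⟩), Subtype.ext ?_⟩
      · have := h.setup.conj_mem k⁻¹ (inv_mem (h.Kk_le hk).1) x x.2
        rwa [inv_inv] at this
      · calc k⁻¹ * x * k * (k⁻¹ * x * k) = k⁻¹ * ((x : G) * x) * k := by group
          _ = z := by rw [← hke]; group
      · show k * (k⁻¹ * x * k) * k⁻¹ = x
        group
  have h1 := Nat.card_congr (Equiv.ofBijective f hf)
  rw [Nat.card_sum, Nat.card_prod, hc] at h1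
  have h2 : Nat.card A = Nat.card (Zz G a) := Nat.card_congr
    ⟨fun x => ⟨x.1, x.2⟩, fun z => ⟨⟨z.1, h.Zz_le z.2⟩, z.2⟩, fun _ => rfl, fun _ => rfl⟩
  have h3 := h.card_Kk
  rw [h2, ← h3] at h1
  have hk : 0 < Nat.card (Kk a t) := Nat.card_pos
  rw [← h3]
  refine Nat.eq_of_mul_eq_mul_left hk ?_
  nlinarith [h1]

variable (hW : Ww a t = ⊥) {v : G} (hv : v ∈ Vv a t) {ℓ : ℕ} (hℓ : ℓ.Prime) (hℓo : Odd ℓ)
  (hord : orderOf v = ℓ) {k : ℕ}
  (hq : Nat.card (Zz G a) = 2 ^ (k * ℓ))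
  (hq0 : Nat.card (Zz G a ⊓ Subgroup.centralizer {v} : Subgroup G) = 2 ^ k)

include hv hℓ hℓo hord hq

theorem Hyp.zas_q_modEq : Nat.card (Zz G a) * (Nat.card (Zz G a) + 1) ≡ 2 ^ k * (2 ^ k + 1) [MOD ℓ] := by
  haveI : Fact ℓ.Prime := ⟨hℓ⟩
  have e : Nat.card (Zz G a) ≡ 2 ^ k [MOD ℓ] := by
    rw [hq, pow_mul, ← ZMod.natCast_eq_natCast_iff, Nat.cast_pow, ZMod.pow_card]
  exact e.mul (e.add_right 1)

include hW hc in
/-- Some point of `Q` outside `Zz` is centralised by `v`. -/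
theorem Hyp.zas_exists_outside : ∃ x ∈ Q, x ∉ Zz G a ∧ v * x = x * v := by
  classical
  haveI : Fact ℓ.Prime := ⟨hℓ⟩
  have hT := h.zas_twoSub hQ
  have hvℓ : v ^ ℓ = 1 := hord ▸ pow_orderOf_eq_one v
  obtain ⟨s, r, hs, hs1, -⟩ := h.exists_s
  by_cases hdvd : ℓ ∣ 2 ^ k + 1
  swap
  · -- a square root of a fixed involution
    have hV : v ∈ Dd a t := hv.1
    obtain ⟨n, hn, hqn⟩ := h.two_pow
    obtain ⟨s', r', hs', hs1', -, -, hVs⟩ := h.exists_s
    have hvs : v * s' * v⁻¹ = s' := by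
      have h1 : v ∈ Dd a t ⊓ Subgroup.centralizer {s'} := hVs ▸ hv
      exact mul_inv_eq_iff_eq_mul.2 (Subgroup.mem_centralizer_singleton_iff.1 h1.2)
    obtain ⟨x, hx, hxc⟩ := zas_exists_commute hℓ hvℓ (zasRoots G Q s')
      (fun x hx => by have := h.zas_roots_conj hQ hsq hV hx; rwa [hvs] at this) (by
        rw [h.zas_card_roots hQ hc hsq hs' hs1']
        intro hd
        have h2 := Nat.ModEq.dvd_iff (h.zas_q_modEq hQ hsq hv hℓ hℓo hord hq) (dvd_refl ℓ)
        rcases hℓ.dvd_mul.1 (h2.1 hd) with e | e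
        · have := (Nat.prime_dvd_prime_iff_eq hℓ Nat.prime_two).1 (hℓ.dvd_of_dvd_pow e)
          rw [this] at hℓo
          exact absurd hℓo (by decide)
        · exact hdvd e)
    refine ⟨x, hx.1, fun hxZ => hs1' ?_, hxc⟩
    rw [← hx.2]
    exact (h.mem_Zz.1 hxZ).2
  -- the fixed point on the quotient by `Zz`
  have hvK : ∃ k₁ ∈ Kk a t, v * k₁ * v⁻¹ ≠ k₁ := by
    by_contra hall
    push Not at hall
    have : v ∈ Ww a t := ⟨hv, Subgroup.mem_centralizer_iff.2 fun y hy => (by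
      rw [← h.coe_Kk] at hy
      exact (mul_inv_eq_iff_eq_mul.1 (hall y hy)).symm)⟩
    rw [hW, Subgroup.mem_bot] at this
    rw [this, orderOf_one] at hord
    exact hℓ.ne_one hord.symm
  have hKc : ¬ ℓ ∣ Nat.card (Kk a t) := by
    intro hd
    have e : Nat.card (Zz G a) ≡ 2 ^ k [MOD ℓ] := by
      rw [hq, pow_mul, ← ZMod.natCast_eq_natCast_iff, Nat.cast_pow, ZMod.pow_card]
    rw [← h.card_Kk] at e
    have h1 : Nat.card (Kk a t) + 1 ≡ 1 [MOD ℓ] := by
      simpa using (Nat.modEq_zero_iff_dvd.2 hd).add_right 1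
    have h2 : ℓ ∣ 1 + 1 := by
      refine Nat.modEq_zero_iff_dvd.1 ?_
      exact ((h1.symm.trans e).add_right 1).trans (Nat.modEq_zero_iff_dvd.2 hdvd)
    have := (Nat.prime_dvd_prime_iff_eq hℓ Nat.prime_two).1 h2
    rw [this] at hℓo
    exact absurd hℓo (by decide)
  obtain ⟨r₀, hr₀, hr₀p, hr₀v⟩ : ∃ r₀ ∈ Kk a t, (orderOf r₀).Prime ∧ v * r₀ * v⁻¹ ≠ r₀ := by
    by_contra hall
    push Not at hall
    have key : ∀ m : ℕ, ∀ y ∈ Kk a t, orderOf y = m → v * y * v⁻¹ = y := by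
      intro m
      induction m using Nat.strong_induction_on with
      | _ m ih =>
        intro y hy hm
        by_cases hy1 : y = 1
        · rw [hy1, mul_one, mul_inv_cancel]
        have hm1 : m ≠ 1 := fun e => hy1 (orderOf_eq_one_iff.1 (hm.trans e))
        obtain ⟨p, hp, hpm⟩ := Nat.exists_prime_and_dvd hm1
        have hpos : 0 < orderOf y := orderOf_pos y
        have hlt : orderOf (y ^ p) < m := by
          rw [orderOf_pow_of_dvd hp.ne_zero (hm ▸ hpm), hm]
          exact Nat.div_lt_self (hm ▸ hpos) hp.one_lt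
        have h1 := ih _ hlt _ (pow_mem hy p) rfl
        set c := y⁻¹ * (v * y * v⁻¹) with hcdef
        have hyv := h.Kk_conj hv.1 hy
        have hcK : c ∈ Kk a t := mul_mem (inv_mem hy) hyv
        have hcp : c ^ p = 1 := by
          rw [hcdef, (show Commute y⁻¹ (v * y * v⁻¹) from h.comm_Kk (inv_mem hy) hyv).mul_pow, conj_pow, h1,
            inv_pow, inv_mul_cancel]
        by_cases hc1 : c = 1
        · exact (inv_mul_eq_one.1 hc1).symm
        have hco : orderOf c = p := by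
          haveI : Fact p.Prime := ⟨hp⟩
          exact orderOf_eq_prime hcp hc1
        have hcv := hall c hcK (hco ▸ hp)
        have hj : ∀ j : ℕ, v ^ j * y * (v ^ j)⁻¹ = y * c ^ j := by
          intro j
          induction j with
          | zero => simp
          | succ j ihj =>
            have e1 : v * c ^ j * v⁻¹ = c ^ j := by rw [← conj_pow, hcv]
            calc v ^ (j + 1) * y * (v ^ (j + 1))⁻¹ = v * (v ^ j * y * (v ^ j)⁻¹) * v⁻¹ := by
                  rw [pow_succ']; group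
              _ = (v * y * v⁻¹) * (v * c ^ j * v⁻¹) := by rw [ihj]; group
              _ = y * c ^ (j + 1) := by rw [e1, pow_succ', ← mul_assoc y c, hcdef, mul_inv_cancel_left]
        have h2 := hj ℓ
        rw [hvℓ, one_mul, inv_one, mul_one, eq_comm, mul_eq_left] at h2
        have h3 : p ∣ ℓ := hco ▸ orderOf_dvd_of_pow_eq_one h2
        have h4 : ℓ ∣ Nat.card (Kk a t) := by
          rw [← (Nat.prime_dvd_prime_iff_eq hp hℓ).1 h3, ← hco]
          exact Subgroup.orderOf_dvd_natCard _ hcK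
        exact absurd h4 hKc
    obtain ⟨k₁, hk₁, hne⟩ := hvK
    exact hne (key _ k₁ hk₁ rfl)
  set p := orderOf r₀ with hp
  haveI : Fact p.Prime := ⟨hr₀p⟩
  obtain ⟨c, hc'⟩ : ∃ c : ℕ, r₀ ^ c = v * r₀ * v⁻¹ := by
    haveI := h.isCyclic_Kk
    set g : Kk a t := ⟨r₀, hr₀⟩ with hg
    set g' : Kk a t := ⟨_, h.Kk_conj hv.1 hr₀⟩ with hg'
    have hgo : Nat.card (Subgroup.zpowers g) = p := by rw [Nat.card_zpowers, ← Subgroup.orderOf_coe g]
    have hgo' : Nat.card (Subgroup.zpowers g') = p := by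
      rw [Nat.card_zpowers, ← Subgroup.orderOf_coe g']
      exact orderOf_injective (MulAut.conj v).toMonoidHom (MulAut.conj v).injective r₀
    haveI := Fintype.ofFinite (Kk a t)
    have e : Subgroup.zpowers g' = Subgroup.zpowers g := by
      have hsub : ∀ y : Kk a t, orderOf y = p →
          (Subgroup.zpowers y : Set (Kk a t)) = {x | x ^ p = 1} := by
        intro y hy
        refine Set.eq_of_subset_of_ncard_le (fun x hx => ?_) ?_ (Set.toFinite _)
        · obtain ⟨j, rfl⟩ := hx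
          show (y ^ j) ^ p = 1
          rw [← zpow_natCast, zpow_comm, zpow_natCast, ← hy, pow_orderOf_eq_one, one_zpow]
        · rw [← Nat.card_coe_set_eq, ← Nat.card_coe_set_eq, show Nat.card (Subgroup.zpowers y : Set (Kk a t)) = p
            from (Nat.card_zpowers y).trans hy, Nat.card_eq_fintype_card, Fintype.card_subtype]
          exact IsCyclic.card_pow_eq_one_le hr₀p.pos
      exact SetLike.coe_injective ((hsub g' (by rw [← Nat.card_zpowers]; exact hgo')).trans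
        (hsub g (by rw [← Nat.card_zpowers]; exact hgo)).symm)
    obtain ⟨c, hc⟩ := mem_powers_iff_mem_zpowers.2 (e ▸ Subgroup.mem_zpowers g' : g' ∈ Subgroup.zpowers g)
    exact ⟨c, congrArg Subtype.val hc⟩
  set N : Subgroup Q := (Zz G a).subgroupOf Q with hN
  haveI : N.Normal := ⟨fun y hy g => Subgroup.mem_subgroupOf.2 (h.Zz_conj (h.setup.le g.2) hy)⟩
  let cj : Dd a t →* MulAut (Q ⧸ N) :=
    { toFun := fun d =>
        { toFun := QuotientGroup.map N N
            { toFun := fun x => ⟨(d : G) * x * (d : G)⁻¹, h.setup.conj_mem _ d.2.1 _ x.2⟩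
              map_one' := Subtype.ext (by simp)
              map_mul' := fun x y => Subtype.ext (by simp [mul_assoc]) }
            (fun x (hx : x ∈ N) => h.Zz_conj d.2.1 hx)
          invFun := QuotientGroup.map N N
            { toFun := fun x => ⟨(d : G)⁻¹ * x * (d : G)⁻¹⁻¹, h.setup.conj_mem _ (inv_mem d.2.1) _ x.2⟩
              map_one' := Subtype.ext (by simp)
              map_mul' := fun x y => Subtype.ext (by simp [mul_assoc]) }
            (fun x (hx : x ∈ N) => h.Zz_conj (inv_mem d.2.1) hx)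
          left_inv := fun x => QuotientGroup.induction_on x fun y =>
            congrArg QuotientGroup.mk (Subtype.ext (by simp [mul_assoc]))
          right_inv := fun x => QuotientGroup.induction_on x fun y =>
            congrArg QuotientGroup.mk (Subtype.ext (by simp [mul_assoc]))
          map_mul' := map_mul _ }
      map_one' := MulEquiv.ext fun x => QuotientGroup.induction_on x fun y =>
        congrArg QuotientGroup.mk (Subtype.ext (by simp))
      map_mul' := fun d d' => MulEquiv.ext fun x => QuotientGroup.induction_on x fun y =>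
        congrArg QuotientGroup.mk (Subtype.ext (by simp [mul_assoc])) }
  have hsqE : ∀ x : Q ⧸ N, x * x = 1 := fun x => QuotientGroup.induction_on x fun y =>
    (QuotientGroup.eq_one_iff (N := N) (y * y)).2 (hsq y y.2)
  letI : CommGroup (Q ⧸ N) := { (inferInstance : Group (Q ⧸ N)) with
    mul_comm := fun x y => by
      have h1 := inv_eq_of_mul_eq_one_right (hsqE (x * y))
      rw [mul_inv_rev, inv_eq_of_mul_eq_one_right (hsqE x), inv_eq_of_mul_eq_one_right (hsqE y)] at h1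
      exact h1.symm }
  haveI : Nontrivial (Q ⧸ N) := by
    obtain ⟨x, hxQ, hxn⟩ : ∃ x, x ∈ Q ∧ x ∉ Zz G a := by
      by_contra hh
      push Not at hh
      have h4 : Nat.card Q ≤ Nat.card (Zz G a) := Subgroup.card_le_of_le hh
      rw [hc] at h4
      have h5 : 2 ≤ Nat.card (Zz G a) := by
        obtain ⟨n, hn, e⟩ := h.two_pow
        rw [e]
        exact le_trans (by norm_num) (Nat.pow_le_pow_right (by norm_num : 1 ≤ 2) hn)
      have h6 : Nat.card (Zz G a) * 2 ≤ Nat.card (Zz G a) ^ 3 := by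
        rw [pow_succ' _ 2]
        exact Nat.mul_le_mul_left _ (le_trans (by norm_num) (Nat.pow_le_pow_left h5 2))
      omega
    exact ⟨⟨QuotientGroup.mk ⟨x, hxQ⟩, 1, fun e => hxn ((QuotientGroup.eq_one_iff (N := N) _).1 e)⟩⟩
  set r' : Dd a t := ⟨r₀, h.Kk_le hr₀⟩ with hr'
  have hr'p : r' ^ p = 1 := Subtype.ext (by rw [SubmonoidClass.coe_pow, hp]; exact pow_orderOf_eq_one r₀)
  let ρ₀ : Multiplicative (ZMod p) →* Dd a t := AddMonoidHom.toMultiplicativeLeft
    (ZMod.lift p ⟨(zmultiplesHom (Additive (Dd a t))) (Additive.ofMul r'), by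
      show ((p : ℤ) • Additive.ofMul r') = 0
      rw [natCast_zsmul, ← ofMul_pow, hr'p, ofMul_one]⟩)
  have hρ : ∀ j : ℕ, ρ₀ (Multiplicative.ofAdd (j : ZMod p)) = r' ^ j := by
    intro j
    show Additive.toMul (ZMod.lift p _ (j : ZMod p)) = _
    rw [← Int.cast_natCast (R := ZMod p) j, ZMod.lift_coe]
    show r' ^ (j : ℤ) = r' ^ j
    rw [zpow_natCast]
  set d : Dd a t := ⟨v, hv.1⟩ with hd
  have hdr : d * r' * d⁻¹ = r' ^ c := Subtype.ext (by simp [d, r', hc'])
  obtain ⟨x, hx1, hx⟩ : ∃ x : Q ⧸ N, x ≠ 1 ∧ cj d x = x := by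
   refine zas_fixed_of_fpf hsqE (r := p) (ℓ := ℓ)
    (hr₀p.odd_of_ne_two fun e => by
      have h2 : 2 ∣ Nat.card (Dd a t) := by
        rw [← e, hp]; exact Subgroup.orderOf_dvd_natCard _ (h.Kk_le hr₀)
      exact Nat.not_even_iff_odd.2 h.setup.odd_card (even_iff_two_dvd.2 h2))
    hℓ (cj.comp ρ₀) ?_ (cj d) (by
      rw [← map_pow, show d ^ ℓ = 1 from Subtype.ext hvℓ, map_one])
    (c : ZMod p) ?_ ?_
   · intro x
     refine QuotientGroup.induction_on x fun y hy => ?_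
     rw [MonoidHom.comp_apply, ← Nat.cast_one, hρ, pow_one] at hy
     have hy' : (QuotientGroup.mk y : Q ⧸ N) =
         QuotientGroup.mk ⟨r₀ * y * r₀⁻¹, h.setup.conj_mem r₀ (h.Kk_le hr₀).1 y y.2⟩ := hy.symm
     have h1 : (y : G)⁻¹ * (r₀ * y * r₀⁻¹) ∈ Zz G a := (QuotientGroup.eq (s := N)).1 hy'
     refine (QuotientGroup.eq_one_iff (N := N) y).2 (h.invol_of_sq hT y.2 ?_)
     by_contra hne
     set w := (y : G)⁻¹ * (r₀ * y * r₀⁻¹) with hw
     have h2 : r₀ * y * r₀⁻¹ = y * w := by rw [hw, mul_inv_cancel_left]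
     have h3 : r₀ * ((y : G) * y) * r₀⁻¹ = y * y := by
       calc r₀ * ((y : G) * y) * r₀⁻¹ = r₀ * y * r₀⁻¹ * (r₀ * y * r₀⁻¹) := by group
         _ = y * (w * y) * w := by rw [h2]; group
         _ = (y : G) * y * (w * w) := by rw [h.Zz_central h1 y.2]; group
         _ = y * y := by rw [(h.mem_Zz.1 h1).2, mul_one]
     have h4 := h.Kk_free hr₀ (mul_mem y.2 y.2) hne (mul_inv_eq_iff_eq_mul.1 h3)
     rw [hp, h4, orderOf_one] at hr₀p
     exact Nat.not_prime_one hr₀p
   · intro e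
     obtain ⟨j, rfl⟩ := ZMod.natCast_zmod_surjective e
     rw [← Nat.cast_mul, MonoidHom.comp_apply, MonoidHom.comp_apply, hρ, hρ, ← map_inv, ← map_mul, ← map_mul]
     congr 1
     rw [← conj_pow, hdr, ← pow_mul]
   · intro e
     rw [← Nat.cast_one, ZMod.natCast_eq_natCast_iff'] at e
     refine hr₀v ?_
     rw [← hc', ← pow_mod_orderOf, show orderOf r₀ = p from rfl, e, pow_mod_orderOf, pow_one]
  revert hx1 hx
  refine QuotientGroup.induction_on x fun y hy1 hy => ?_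
  have hyZ : (y : G) ∉ Zz G a := fun e => hy1 ((QuotientGroup.eq_one_iff (N := N) y).2 e)
  obtain ⟨z, hz, hzc⟩ := zas_exists_commute hℓ hvℓ {z | z ∈ Q ∧ (y : G)⁻¹ * z ∈ Zz G a}
    (fun z hz => ⟨h.setup.conj_mem v hv.1.1 z hz.1, by
      have hy' : (QuotientGroup.mk y : Q ⧸ N) =
          QuotientGroup.mk ⟨v * y * v⁻¹, h.setup.conj_mem v hv.1.1 y y.2⟩ := hy.symm
      have h1 : (y : G)⁻¹ * (v * y * v⁻¹) ∈ Zz G a := (QuotientGroup.eq (s := N)).1 hy'
      have h2 := h.Zz_conj hv.1.1 hz.2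
      have e : (y : G)⁻¹ * (v * z * v⁻¹) = (y : G)⁻¹ * (v * y * v⁻¹) * (v * ((y : G)⁻¹ * z) * v⁻¹) := by group
      rw [e]
      exact mul_mem h1 h2⟩) (by
    have e : Nat.card {z : G | z ∈ Q ∧ (y : G)⁻¹ * z ∈ Zz G a} = Nat.card (Zz G a) := Nat.card_congr
      ⟨fun z => ⟨_, z.2.2⟩, fun z => ⟨y * z, mul_mem y.2 (h.Zz_le z.2), by rw [inv_mul_cancel_left]; exact z.2⟩,
        fun z => Subtype.ext (mul_inv_cancel_left _ _), fun z => Subtype.ext (inv_mul_cancel_left _ _)⟩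
    rw [e, hq]
    intro hdv
    have := (Nat.prime_dvd_prime_iff_eq hℓ Nat.prime_two).1 (hℓ.dvd_of_dvd_pow hdv)
    rw [this] at hℓo
    exact absurd hℓo (by decide))
  refine ⟨z, hz.1, fun e => hyZ ?_, hzc⟩
  have h3 := mul_mem e (inv_mem hz.2)
  rwa [mul_inv_rev, inv_inv, mul_inv_cancel_left] at h3

include hW hc hq0 in
/-- `|C_Q(v)| > q₀ ^ 2`, and `|C_Q(v)| = 8` when `q₀ = 2` and `ℓ = 3`. -/
theorem Hyp.zas_cube :
    (2 ^ k) ^ 2 < Nat.card (Q ⊓ Subgroup.centralizer {v} : Subgroup G) ∧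
      (k = 1 → ℓ = 3 → Nat.card (Q ⊓ Subgroup.centralizer {v} : Subgroup G) = 8) := by
  classical
  haveI := Fintype.ofFinite G
  have hT := h.zas_twoSub hQ
  have hvℓ : v ^ ℓ = 1 := hord ▸ pow_orderOf_eq_one v
  set C : Subgroup G := Q ⊓ Subgroup.centralizer {v} with hC
  set Z0 : Subgroup G := Zz G a ⊓ Subgroup.centralizer {v} with hZ0
  let R : G → Finset G := fun z => Finset.univ.filter fun x => x ∈ C ∧ x * x = z
  have hcomm : ∀ x : G, x ∈ Subgroup.centralizer {v} ↔ v * x = x * v := fun x => by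
    rw [Subgroup.mem_centralizer_singleton_iff, eq_comm]
  have hR : ∀ z ∈ Z0, z ≠ 1 →
      (R z).card ≡ 2 ^ k * (2 ^ k + 1) [MOD ℓ] := by
    intro z hz hz1
    have hvz : v * z * v⁻¹ = z := mul_inv_eq_iff_eq_mul.2 ((hcomm z).1 hz.2)
    have h1 := zas_modEq_commute hℓ hvℓ (zasRoots G Q z)
      (fun x hx => by have := h.zas_roots_conj hQ hsq hv.1 hx; rwa [hvz] at this)
    rw [h.zas_card_roots hQ hc hsq hz.1 hz1] at h1
    refine (Nat.ModEq.trans ?_ (h1.symm.trans (h.zas_q_modEq hQ hsq hv hℓ hℓo hord hq)))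
    refine congrArg (· % ℓ) ?_
    rw [Nat.card_eq_fintype_card, Fintype.card_subtype]
    refine congrArg Finset.card (Finset.filter_congr fun x _ => ?_)
    show x ∈ C ∧ x * x = z ↔ (x ∈ Q ∧ x * x = z) ∧ v * x = x * v
    rw [hC, Subgroup.mem_inf, hcomm]
    tauto
  have hne : ∀ z ∈ Z0, z ≠ 1 → (R z).Nonempty := by
    intro z hz hz1
    obtain ⟨x, hx, hxZ, hxc⟩ := h.zas_exists_outside hQ hc hsq hW hv hℓ hℓo hord hq
    have hx2 : x * x ≠ 1 := fun e => hxZ (h.invol_of_sq hT hx e)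
    obtain ⟨k₁, hk₁, hke⟩ := h.Kk_trans (hsq x hx) hx2 hz.1 hz1
    have hvz : v * z * v⁻¹ = z := mul_inv_eq_iff_eq_mul.2 ((hcomm z).1 hz.2)
    have hk1c : v * k₁ * v⁻¹ = k₁ := by
      have hk' := h.Kk_conj hv.1 hk₁
      have e : v * k₁ * v⁻¹ * (x * x) * (v * k₁ * v⁻¹)⁻¹ = k₁ * (x * x) * k₁⁻¹ := by
        have hxx : v * (x * x) = x * x * v := (show Commute v x from hxc).mul_right hxc
        calc v * k₁ * v⁻¹ * (x * x) * (v * k₁ * v⁻¹)⁻¹ = v * k₁ * (v⁻¹ * ((x * x) * v)) * k₁⁻¹ * v⁻¹ := by group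
          _ = v * (k₁ * (x * x) * k₁⁻¹) * v⁻¹ := by rw [← hxx]; group
          _ = k₁ * (x * x) * k₁⁻¹ := by rw [hke, hvz]
      have h1 := h.Kk_free (k := k₁⁻¹ * (v * k₁ * v⁻¹)) (mul_mem (inv_mem hk₁) hk') (mul_mem hx hx) hx2 (by
        calc k₁⁻¹ * (v * k₁ * v⁻¹) * (x * x)
            = k₁⁻¹ * (v * k₁ * v⁻¹ * (x * x) * (v * k₁ * v⁻¹)⁻¹) * (v * k₁ * v⁻¹) := by group
          _ = x * x * (k₁⁻¹ * (v * k₁ * v⁻¹)) := by rw [e]; group)
      exact (inv_mul_eq_one.1 h1).symm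
    refine ⟨k₁ * x * k₁⁻¹, Finset.mem_filter.2 ⟨Finset.mem_univ _, ⟨h.setup.conj_mem _ (h.Kk_le hk₁).1 x hx,
      (hcomm _).2 ?_⟩, by rw [← hke]; group⟩⟩
    have c1 : Commute v k₁ := mul_inv_eq_iff_eq_mul.1 hk1c
    exact (c1.mul_right hxc).mul_right c1.inv_right
  have hlow : ∀ z ∈ Z0, z ≠ 1 → 2 ^ k + 1 ≤ (R z).card := by
    intro z hz hz1
    obtain ⟨x, hx⟩ := hne z hz hz1
    obtain ⟨hxC, hxz⟩ := (Finset.mem_filter.1 hx).2
    have h1 : (Finset.univ.filter fun y => y ∈ Z0).image (x * ·) ⊆ R z := by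
      intro y hy
      obtain ⟨w, hw, rfl⟩ := Finset.mem_image.1 hy
      have hw' := (Finset.mem_filter.1 hw).2
      refine Finset.mem_filter.2 ⟨Finset.mem_univ _, ⟨mul_mem hxC.1 (h.Zz_le hw'.1), mul_mem hxC.2 hw'.2⟩, ?_⟩
      calc x * w * (x * w) = x * (w * x) * w := by group
        _ = x * x * (w * w) := by rw [h.Zz_central hw'.1 hxC.1]; group
        _ = z := by rw [(h.mem_Zz.1 hw'.1).2, hxz, mul_one]
    have h2 := Finset.card_le_card h1
    rw [Finset.card_image_of_injective _ (mul_right_injective x), ← Fintype.card_subtype,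
      ← Nat.card_eq_fintype_card] at h2
    change Nat.card Z0 ≤ _ at h2
    rw [hq0] at h2
    rcases Nat.lt_or_eq_of_le h2 with h3 | h3
    · exact h3
    have h4 : 2 ^ k ≡ 2 ^ k * (2 ^ k + 1) [MOD ℓ] := by
      have := hR z hz hz1
      rwa [← h3] at this
    rw [Nat.mul_add, mul_one] at h4
    have h5 : ℓ ∣ 2 ^ k * 2 ^ k := Nat.modEq_zero_iff_dvd.1
      (Nat.ModEq.add_right_cancel' (2 ^ k) (by rw [zero_add]; exact h4.symm))
    rw [← pow_add] at h5
    have := (Nat.prime_dvd_prime_iff_eq hℓ Nat.prime_two).1 (hℓ.dvd_of_dvd_pow h5)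
    rw [this] at hℓo
    exact absurd hℓo (by decide)
  let Z1 : Finset G := Finset.univ.filter fun z => z ∈ Z0 ∧ z ≠ 1
  have hCsplit : Nat.card C = Nat.card Z0 + ∑ z ∈ Z1, (R z).card := by
    rw [← Finset.card_biUnion (fun z _ w _ hzw => Finset.disjoint_left.2 fun x h1 h2 =>
      hzw ((Finset.mem_filter.1 h1).2.2.symm.trans (Finset.mem_filter.1 h2).2.2)),
      Nat.card_eq_fintype_card, Nat.card_eq_fintype_card, Fintype.card_subtype, Fintype.card_subtype,
      ← Finset.card_union_of_disjoint]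
    · refine congrArg Finset.card (Finset.ext fun x => ?_)
      simp only [Finset.mem_filter, Finset.mem_univ, true_and, Finset.mem_union, Finset.mem_biUnion, Z1, R]
      constructor
      · intro hx
        by_cases hx2 : x * x = 1
        · exact Or.inl ⟨h.invol_of_sq hT hx.1 hx2, hx.2⟩
        · exact Or.inr ⟨x * x, ⟨⟨hsq x hx.1, mul_mem hx.2 hx.2⟩, hx2⟩, hx, rfl⟩
      · rintro (hx | ⟨z, -, hx, -⟩)
        · exact ⟨h.Zz_le hx.1, hx.2⟩
        · exact hx
    · refine Finset.disjoint_left.2 fun x h1 h2 => ?_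
      simp only [Finset.mem_filter, Finset.mem_univ, true_and, Finset.mem_biUnion, Z1, R] at h1 h2
      obtain ⟨z, ⟨-, hz1⟩, -, hz⟩ := h2
      exact hz1 (hz.symm.trans (h.mem_Zz.1 h1.1).2)
  have hZ1 : Z1.card + 1 = Nat.card Z0 := by
    rw [Nat.card_eq_fintype_card, Fintype.card_subtype,
      ← Finset.card_erase_add_one (s := Finset.univ.filter fun z => z ∈ Z0) (a := 1)
        (Finset.mem_filter.2 ⟨Finset.mem_univ _, one_mem _⟩)]
    congr 2
    ext z
    simp [Z1, and_comm]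
  rw [hq0] at hZ1 hCsplit
  constructor
  · have h1 : Z1.card * (2 ^ k + 1) ≤ ∑ z ∈ Z1, (R z).card := by
      rw [← smul_eq_mul]
      exact Finset.card_nsmul_le_sum _ _ _ fun z hz => hlow z (Finset.mem_filter.1 hz).2.1 (Finset.mem_filter.1 hz).2.2
    have hk : 1 ≤ k := by
      by_contra hk
      obtain rfl : k = 0 := by omega
      rw [zero_mul] at hq
      obtain ⟨n, hn, e⟩ := h.two_pow
      rw [hq] at e
      have : 1 < 2 ^ n := Nat.one_lt_two_pow (by omega)
      omega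
    have h2 : 2 ≤ 2 ^ k := le_trans (by norm_num) (Nat.pow_le_pow_right (by norm_num : 1 ≤ 2) hk)
    generalize 2 ^ k = q at *
    nlinarith
  intro hk1 hl3
  subst hk1 hl3
  obtain ⟨z, hz, hZeq⟩ : ∃ z, z ∈ Z1 ∧ Z1 = {z} := by
    obtain ⟨z, hz⟩ := Finset.card_eq_one.1 (show Z1.card = 1 by omega)
    exact ⟨z, by rw [hz]; exact Finset.mem_singleton_self z, hz⟩
  rw [hZeq, Finset.sum_singleton] at hCsplit
  have hf3 : 3 ∣ (R z).card := Nat.modEq_zero_iff_dvd.1
    ((hR z (Finset.mem_filter.1 hz).2.1 (Finset.mem_filter.1 hz).2.2).trans (by decide))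
  have hpos : 0 < (R z).card := (hne z (Finset.mem_filter.1 hz).2.1 (Finset.mem_filter.1 hz).2.2).card_pos
  -- bound through the product with `Zz`
  have hub : Nat.card C * Nat.card (Zz G a) ≤ 2 * (Nat.card (Zz G a) + Nat.card (zasRoots G Q z)) := by
    have e1 : Nat.card C * Nat.card (Zz G a) =
        ((Finset.univ.filter fun x => x ∈ C) ×ˢ (Finset.univ.filter fun x => x ∈ Zz G a)).card := by
      rw [Finset.card_product, Nat.card_eq_fintype_card, Nat.card_eq_fintype_card, Fintype.card_subtype,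
        Fintype.card_subtype]
    rw [e1]
    refine le_trans (Finset.card_le_mul_card_image (f := fun p : G × G => p.1 * p.2) _ 2 ?_)
      (Nat.mul_le_mul_left 2 ?_)
    · intro y _
      rw [show (2 : ℕ) = (Finset.univ.filter fun x => x ∈ Z0).card by
        rw [← Fintype.card_subtype, ← Nat.card_eq_fintype_card]; exact hq0.symm]
      rcases Finset.eq_empty_or_nonempty ((((Finset.univ.filter fun x => x ∈ C) ×ˢ
        (Finset.univ.filter fun x => x ∈ Zz G a)).filter fun p : G × G => p.1 * p.2 = y)) with e | ⟨p₀, hp₀⟩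
      · rw [e, Finset.card_empty]; exact Nat.zero_le _
      refine Finset.card_le_card_of_injOn (fun p : G × G => p₀.1⁻¹ * p.1) ?_ ?_
      · intro p hp
        simp only [Finset.mem_coe, Finset.mem_filter, Finset.mem_product, Finset.mem_univ, true_and] at hp hp₀ ⊢
        have e : p₀.1⁻¹ * p.1 = p₀.2 * p.2⁻¹ := by
          rw [eq_mul_inv_iff_mul_eq, mul_assoc, inv_mul_eq_iff_eq_mul]
          exact hp.2.trans hp₀.2.symm
        have hz1 : p₀.1⁻¹ * p.1 ∈ Zz G a := e ▸ mul_mem hp₀.1.2 (inv_mem hp.1.2)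
        have hc1 : p₀.1⁻¹ * p.1 ∈ C := mul_mem (inv_mem hp₀.1.1) hp.1.1
        exact ⟨hz1, hc1.2⟩
      · intro p hp p' hp' e
        simp only [Finset.mem_coe, Finset.mem_filter] at hp hp'
        have e1 : p.1 = p'.1 := mul_left_cancel e
        exact Prod.ext e1 (mul_left_cancel (a := p.1) (by rw [hp.2, e1, hp'.2]))
    · refine le_trans (Finset.card_le_card (t := (Finset.univ.filter fun x => x ∈ Zz G a) ∪
        (Finset.univ.filter fun x => x ∈ zasRoots G Q z)) ?_) ((Finset.card_union_le _ _).trans (le_of_eq ?_))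
      · intro y hy
        obtain ⟨⟨x, w⟩, hxw, rfl⟩ := Finset.mem_image.1 hy
        simp only [Finset.mem_product, Finset.mem_filter, Finset.mem_univ, true_and, Finset.mem_union] at hxw ⊢
        obtain ⟨hx, hw⟩ := hxw
        have e : x * w * (x * w) = x * x := by
          calc x * w * (x * w) = x * (w * x) * w := by group
            _ = x * x * (w * w) := by rw [h.Zz_central hw hx.1]; group
            _ = x * x := by rw [(h.mem_Zz.1 hw).2, mul_one]
        have hmem : x * w ∈ Q := mul_mem hx.1 (h.Zz_le hw)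
        by_cases hx2 : x * x = 1
        · exact Or.inl (h.invol_of_sq hT hmem (e.trans hx2))
        · refine Or.inr ⟨hmem, e.trans ?_⟩
          have : x * x ∈ Z1 := Finset.mem_filter.2 ⟨Finset.mem_univ _, ⟨hsq x hx.1, mul_mem hx.2 hx.2⟩, hx2⟩
          rwa [hZeq, Finset.mem_singleton] at this
      · rw [Nat.card_eq_fintype_card, Nat.card_eq_fintype_card, ← Fintype.card_subtype, ← Fintype.card_subtype]
  rw [h.zas_card_roots hQ hc hsq (Finset.mem_filter.1 hz).2.1.1 (Finset.mem_filter.1 hz).2.2, hq] at hub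
  norm_num at hub hCsplit
  obtain ⟨i, hi⟩ := IsPGroup.iff_card.1 (hQ.to_le (inf_le_left : C ≤ Q))
  change Nat.card C = _ at hi
  rw [← Nat.card_eq_fintype_card (α := C), hi] at hCsplit hub
  rw [hi]
  have hi5 : i < 5 := by
    by_contra h5
    have : 2 ^ 5 ≤ 2 ^ i := Nat.pow_le_pow_right (by norm_num) (by omega)
    omega
  interval_cases i <;> omega

end Cfsg.Lib.RankOneSuzuki
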