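import Cfsg.Agent.Lib.RankOneSuzuki.SetupWbar

/-!
# Suzuki's rank-one theorem, Part B: the projection on `Vv` and the transfer

`Ww` is trivial, so `Vv` is cyclic.  The projection of the point stabiliser on `Vv` has kernel `Q * Kk`.  The
transfer of the projection on the two-point stabiliser is the power by its index.
-/

set_option autoImplicit false
set_option linter.unusedSectionVars false
set_option linter.style.haveILetI false

namespace Cfsg.Lib.RankOneSuzuki

open Cfsg Cfsg.Lib.Linear.RankOne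

universe u v

variable {G : Type u} {Ω : Type v} [Group G] [MulAction G Ω] [Finite G] [FaithfulSMul G Ω]
  {a : Ω} {t : G} {Q : Subgroup G}

theorem Hyp.zas_gen (h : Hyp G Ω a t Q) (hW : Ww a t = ⊥) :
    ∃ v₀ ∈ Vv a t, ∀ x ∈ Vv a t, ∃ j : ℕ, x = v₀ ^ j := by
  obtain ⟨v₀, hv₀, hgen⟩ := h.exists_gen_Vv
  refine ⟨v₀, hv₀, fun x hx => ?_⟩
  obtain ⟨j, hj⟩ := hgen x hx
  rw [hW, Subgroup.mem_bot, mul_inv_eq_one] at hj
  exact ⟨j, hj⟩

theorem Hyp.zas_comm (h : Hyp G Ω a t Q) (hW : Ww a t = ⊥) {x y : G} (hx : x ∈ Vv a t)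
    (hy : y ∈ Vv a t) : x * y = y * x := by
  obtain ⟨v₀, -, hgen⟩ := h.zas_gen hW
  obtain ⟨i, rfl⟩ := hgen x hx
  obtain ⟨j, rfl⟩ := hgen y hy
  exact (Commute.pow_pow (Commute.refl v₀) i j).eq

/-- The commutative group structure of `Vv`. -/
@[instance_reducible]
noncomputable def Hyp.zasCommGroup (h : Hyp G Ω a t Q) (hW : Ww a t = ⊥) : CommGroup (Vv a t) :=
  { (inferInstance : Group (Vv a t)) with mul_comm := fun x y => Subtype.ext (h.zas_comm hW x.2 y.2) }

theorem Hyp.zas_vk_unique (h : Hyp G Ω a t Q) {q q' v v' k k' : G} (hq : q ∈ Q) (hq' : q' ∈ Q)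
    (hv : v ∈ Vv a t) (hv' : v' ∈ Vv a t) (hk : k ∈ Kk a t) (hk' : k' ∈ Kk a t)
    (e : q * (v * k) = q' * (v' * k')) : v = v' := by
  have h1 : q'⁻¹ * q = (v' * k') * (v * k)⁻¹ := by
    rw [eq_mul_inv_iff_mul_eq, mul_assoc, e, inv_mul_cancel_left]
  have h2 : q'⁻¹ * q = 1 := eq_one_of_mem_D h.setup (mul_mem (inv_mem hq') hq)
    (h1 ▸ mul_mem (mul_mem hv'.1 (h.Kk_le hk')) (inv_mem (mul_mem hv.1 (h.Kk_le hk))))
  rw [inv_mul_eq_one.1 h2] at e
  have e' : v * k = v' * k' := mul_left_cancel e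
  have h3 : v'⁻¹ * v = k' * k⁻¹ := by
    rw [eq_mul_inv_iff_mul_eq, mul_assoc, e', inv_mul_cancel_left]
  have h4 : v'⁻¹ * v = 1 :=
    h.Kk_inf_Vv (h3 ▸ mul_mem hk' (inv_mem hk)) (mul_mem (inv_mem hv') hv)
  exact (inv_mul_eq_one.1 h4).symm

/-- The projection of the point stabiliser on `Vv`. -/
theorem Hyp.zas_exists_proj (h : Hyp G Ω a t Q) :
    ∃ π : MulAction.stabilizer G a →* Vv a t,
      (∀ x : MulAction.stabilizer G a, (x : G) ∈ Q → π x = 1) ∧
      (∀ x : MulAction.stabilizer G a, (x : G) ∈ Kk a t → π x = 1) ∧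
      ∀ x : MulAction.stabilizer G a, ∀ hx : (x : G) ∈ Vv a t, π x = ⟨x, hx⟩ := by
  classical
  have hdec : ∀ x : MulAction.stabilizer G a, ∃ v : Vv a t, ∃ q ∈ Q, ∃ k ∈ Kk a t,
      (x : G) = q * ((v : G) * k) := by
    intro x
    obtain ⟨q, hq, d, hd, he⟩ := decomp h.setup x.2
    obtain ⟨v, hv, k, hk, rfl⟩ := h.exists_mul hd
    exact ⟨⟨v, hv⟩, q, hq, k, hk, he⟩
  choose π q hq k hk he using hdec
  have hu : ∀ (x : MulAction.stabilizer G a) (v : Vv a t) (q' : G), q' ∈ Q → ∀ k' ∈ Kk a t,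
      (x : G) = q' * ((v : G) * k') → π x = v := fun x v q' hq' k' hk' e =>
    Subtype.ext (h.zas_vk_unique (hq x) hq' (π x).2 v.2 (hk x) hk' ((he x).symm.trans e))
  refine ⟨MonoidHom.mk' π fun x y => ?_, fun x hx => ?_, fun x hx => ?_, fun x hx => ?_⟩
  · refine hu _ _ (q x * ((π x : G) * k x * q y * ((π x : G) * k x)⁻¹))
      (mul_mem (hq x) (h.setup.conj_mem _ (mul_mem (π x).2.1.1 (h.Kk_le (hk x)).1) _ (hq y)))
      (((π y : G)⁻¹ * k x * (π y : G)⁻¹⁻¹) * k y)
      (mul_mem (h.Kk_conj_Vv (inv_mem (π y).2) (hk x)) (hk y)) ?_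
    rw [Subgroup.coe_mul, he x, he y, Subgroup.coe_mul]
    group
  · exact hu x 1 x hx 1 (one_mem _) (by simp)
  · exact hu x 1 1 (one_mem _) x hx (by simp)
  · exact hu x ⟨x, hx⟩ 1 (one_mem _) 1 (one_mem _) (by simp)

/-- A transfer is the power by the index when conjugation inside the subgroup does not change the values. -/
theorem zas_transfer_eq_pow {A : Type u} [CommGroup A] {H : Subgroup G} (φ : H →* A)
    (hinv : ∀ (x : H) (g : G) (hg : g⁻¹ * (x : G) * g ∈ H), φ ⟨g⁻¹ * (x : G) * g, hg⟩ = φ x) (u : H) :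
    MonoidHom.transfer φ (u : G) = φ u ^ H.index := by
  classical
  letI := H.fintypeQuotientOfFiniteIndex
  rw [MonoidHom.transfer_eq_prod_quotient_orbitRel_zpowers_quot, Subgroup.index_eq_sum_minimalPeriod H (u : G),
    ← Finset.prod_pow_eq_pow_sum]
  refine Finset.prod_congr rfl fun q _ => ?_
  rw [← map_pow]
  exact hinv (u ^ Function.minimalPeriod ((u : G) • ·) q.out) q.out.out
    (QuotientGroup.out_conj_pow_minimalPeriod_mem H (u : G) q.out)

theorem Hyp.zas_card_group (h : Hyp G Ω a t Q) :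
    Nat.card G = (Nat.card Q + 1) * (Nat.card Q * Nat.card (Dd a t)) := by
  haveI := pretransitive h.setup
  have h1 := MulAction.index_stabilizer_of_transitive G a
  rw [card_pts h.setup] at h1
  rw [← Subgroup.card_mul_index (MulAction.stabilizer G a), h1, card_stab h.setup, mul_comm]

theorem Hyp.zas_index_Dd (h : Hyp G Ω a t Q) :
    (Dd a t).index = (Nat.card Q + 1) * Nat.card Q := by
  have h1 := Subgroup.card_mul_index (Dd a t)
  rw [h.zas_card_group] at h1
  exact Nat.eq_of_mul_eq_mul_left (Nat.card_pos (α := Dd a t)) (h1.trans (by ring))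

/-- The data giving the normal subgroup of index `|Vv|`. -/
structure ZasHom (G : Type u) {Ω : Type v} [Group G] [MulAction G Ω] (a : Ω) (t : G) (Q : Subgroup G)
    (A : Type u) [CommGroup A] where
  /-- the homomorphism -/
  f : G →* A
  on_Q : ∀ x ∈ Q, f x = 1
  on_t : f t = 1
  on_Kk : ∀ x ∈ Kk a t, f x = 1
  inj : ∀ x ∈ Vv a t, f x = 1 → x = 1

/-- If the index of `Dd` is prime to `|Vv|` the transfer gives the normal subgroup. -/
theorem Hyp.zas_transfer (h : Hyp G Ω a t Q) (hQ : IsPGroup 2 Q) (hW : Ww a t = ⊥)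
    (hco : Nat.Coprime (Nat.card (Vv a t)) (Nat.card Q + 1)) :
    ∃ (A : Type u) (_ : CommGroup A), Nonempty (ZasHom G a t Q A) := by
  classical
  letI := h.zasCommGroup hW
  obtain ⟨π, -, hπK, hπV⟩ := h.zas_exists_proj
  let φ : Dd a t →* Vv a t := π.comp (Subgroup.inclusion inf_le_left)
  have hodd : Odd (Nat.card (Vv a t)) := Odd.of_dvd_nat h.setup.odd_card (Subgroup.card_dvd_of_le h.Vv_le)
  have hone : ∀ {y : Vv a t} {j : ℕ}, y ^ 2 ^ j = 1 → y = 1 := by
    intro y j hy
    have h1 : orderOf y ∣ 1 := (Nat.Coprime.pow_left j (Nat.coprime_two_left.2 hodd)) ▸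
      Nat.dvd_gcd (orderOf_dvd_of_pow_eq_one hy) (orderOf_dvd_natCard y)
    exact orderOf_eq_one_iff.1 (Nat.dvd_one.1 h1)
  -- an element of `Vv` and an element of `Dd` conjugate in `G` have the same image
  have hVD : ∀ (x : Dd a t) (w : G), w ∈ Vv a t → (∃ g : G, g * w * g⁻¹ = x) →
      ∀ hw : w ∈ Dd a t, φ x = φ ⟨w, hw⟩ := by
    intro x w hw ⟨g, hg⟩ hwD
    by_cases hw1 : w = 1
    · have : x = ⟨w, hwD⟩ := Subtype.ext (by
        show (x : G) = w
        rw [← hg, hw1]; group)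
      rw [this]
    have h3 : ∃ b : Ω, b ≠ a ∧ b ≠ t • a ∧ (x : G) • b = b := by
      obtain ⟨b, c, d, hbc, hbd, hcd, hfix⟩ := three_fixed h.setup (X := {w}) (Set.singleton_subset_iff.2 hw)
      obtain ⟨hb, hc, hd⟩ := hfix w rfl
      have hgfix : ∀ p : Ω, w • p = p → (x : G) • g • p = g • p := fun p hp => by
        rw [← hg, smul_smul, inv_mul_cancel_right, mul_smul, hp]
      by_cases hgb : g • b = a ∨ g • b = t • a
      · by_cases hgc : g • c = a ∨ g • c = t • a
        · refine ⟨g • d, fun e => ?_, fun e => ?_, hgfix d hd⟩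
          · rcases hgb with p | p <;> rcases hgc with p' | p' <;>
              first
                | exact hbc (MulAction.injective g (p.trans p'.symm))
                | exact hbd (MulAction.injective g (p.trans e.symm))
                | exact hcd (MulAction.injective g (p'.trans e.symm))
          · rcases hgb with p | p <;> rcases hgc with p' | p' <;>
              first
                | exact hbc (MulAction.injective g (p.trans p'.symm))
                | exact hbd (MulAction.injective g (p.trans e.symm))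
                | exact hcd (MulAction.injective g (p'.trans e.symm))
        · exact ⟨g • c, fun e => hgc (Or.inl e), fun e => hgc (Or.inr e), hgfix c hc⟩
      · exact ⟨g • b, fun e => hgb (Or.inl e), fun e => hgb (Or.inr e), hgfix b hb⟩
    obtain ⟨b, hb1, hb2, hb3⟩ := h3
    obtain ⟨d, hd, hdV⟩ := conj_into_V h.setup x.2 hb1 hb2 hb3
    obtain ⟨u, hu, hue⟩ := fusion h.setup (X := {w}) (Set.singleton_subset_iff.2 hw) (g := d * g) (by
      rw [Set.image_singleton, Set.singleton_subset_iff]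
      have e : d * g * w * (d * g)⁻¹ = d * x * d⁻¹ := by rw [← hg]; group
      show _ ∈ Vv a t
      rw [e]; exact hdV)
    have h4 : d * (x : G) * d⁻¹ = w := by
      have := hue w rfl
      rw [← hg]
      calc d * (g * w * g⁻¹) * d⁻¹ = d * g * w * (d * g)⁻¹ := by group
        _ = u * w * u⁻¹ := this.symm
        _ = w := by rw [h.zas_comm hW hu hw, mul_inv_cancel_right]
    have h5 : φ (⟨d, hd⟩ * x * ⟨d, hd⟩⁻¹) = φ x := by
      rw [map_mul, map_mul, map_inv, mul_right_comm, mul_inv_cancel, one_mul]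
    rw [← h5]
    exact congrArg φ (Subtype.ext h4)
  have hinv : ∀ (x : Dd a t) (g : G) (hg : g⁻¹ * (x : G) * g ∈ Dd a t),
      φ ⟨g⁻¹ * (x : G) * g, hg⟩ = φ x := by
    intro x g hg
    -- reduce to an element of `Vv`
    by_cases h3 : ∃ b : Ω, b ≠ a ∧ b ≠ t • a ∧ (x : G) • b = b
    · obtain ⟨b, hb1, hb2, hb3⟩ := h3
      obtain ⟨d, hd, hdV⟩ := conj_into_V h.setup x.2 hb1 hb2 hb3
      rw [hVD ⟨_, hg⟩ _ hdV ⟨g⁻¹ * d⁻¹, by group⟩ hdV.1, hVD x _ hdV ⟨d⁻¹, by group⟩ hdV.1]
    · -- exactly two fixed points, so `g` stabilises the pair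
      push Not at h3
      have hga : (x : G) • g • a = g • a := by
        have : (g⁻¹ * (x : G) * g) • a = a := hg.1
        rw [mul_smul, mul_smul, inv_smul_eq_iff] at this
        exact this
      have hgt : (x : G) • g • t • a = g • t • a := by
        have : (g⁻¹ * (x : G) * g) • t • a = t • a := hg.2
        rw [mul_smul, mul_smul, inv_smul_eq_iff] at this
        exact this
      have hne : a ≠ t • a := (smul_ne h.setup).symm
      have hmem : ∀ p : Ω, (x : G) • p = p → p = a ∨ p = t • a := fun p hp => by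
        by_contra hh
        push Not at hh
        exact h3 p hh.1 hh.2 hp
      rcases hmem _ hga with e1 | e1
      · have e2 : g • t • a = t • a := (hmem _ hgt).resolve_left fun e2 =>
          hne (MulAction.injective g (e1.trans e2.symm))
        have hgD : g ∈ Dd a t := ⟨e1, e2⟩
        have e : (⟨g⁻¹ * (x : G) * g, hg⟩ : Dd a t) = ⟨g, hgD⟩⁻¹ * x * ⟨g, hgD⟩ := rfl
        rw [e, map_mul, map_mul, map_inv, mul_right_comm, inv_mul_cancel, one_mul]
      · have e2 : g • t • a = a := (hmem _ hgt).resolve_right fun e2 =>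
          hne (MulAction.injective g (e1.trans e2.symm))
        -- `g = t * d`, and `t` does not change the image
        have hgD : t * g ∈ Dd a t := by
          refine ⟨?_, ?_⟩
          · show (t * g) • a = a
            rw [mul_smul, e1, smul_smul_self h.setup]
          · show (t * g) • t • a = t • a
            rw [mul_smul, e2]
        have hxt : t * (x : G) * t⁻¹ ∈ Dd a t := conj_inv_mem_D h.setup x.2
        have e : (⟨g⁻¹ * (x : G) * g, hg⟩ : Dd a t) = ⟨_, hgD⟩⁻¹ * ⟨_, hxt⟩ * ⟨_, hgD⟩ :=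
          Subtype.ext (by
            show g⁻¹ * (x : G) * g = (t * g)⁻¹ * (t * x * t⁻¹) * (t * g)
            group)
        rw [e, map_mul, map_mul, map_inv, mul_right_comm, inv_mul_cancel, one_mul]
        obtain ⟨v, hv, k, hk, hvk⟩ := h.exists_mul x.2
        have hk' : t * k * t⁻¹ ∈ Kk a t := by rw [(h.mem_Kk.1 hk).2]; exact inv_mem hk
        have e' : (⟨t * (x : G) * t⁻¹, hxt⟩ : Dd a t) = ⟨v, hv.1⟩ * ⟨_, h.Kk_le hk'⟩ := Subtype.ext (by
          show t * (x : G) * t⁻¹ = v * (t * k * t⁻¹)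
          rw [hvk]
          calc t * (v * k) * t⁻¹ = (t * v * t⁻¹) * (t * k * t⁻¹) := by group
            _ = v * (t * k * t⁻¹) := by rw [h.conj_t_Vv hv])
        rw [e', show x = ⟨v, hv.1⟩ * ⟨k, h.Kk_le hk⟩ from Subtype.ext hvk, map_mul, map_mul]
        congr 1
        exact (hπK _ hk').trans (hπK _ hk).symm
  have htr := zas_transfer_eq_pow φ hinv
  set f := MonoidHom.transfer φ
  have hφK : ∀ (k : Dd a t), (k : G) ∈ Kk a t → φ k = 1 := fun k hk => hπK _ hk
  refine ⟨Vv a t, inferInstance, ⟨⟨f, ?_, ?_, ?_, ?_⟩⟩⟩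
  · intro x hx
    obtain ⟨j, hj⟩ := hQ ⟨x, hx⟩
    refine hone (j := j) ?_
    rw [← map_pow, show x ^ 2 ^ j = 1 from congrArg Subtype.val hj, map_one]
  · refine hone (j := 1) ?_
    rw [← map_pow, pow_one, pow_two, h.setup.mul_self, map_one]
  · intro x hx
    have h1 := htr ⟨x, h.Kk_le hx⟩
    rw [hφK _ hx, one_pow] at h1
    exact h1
  · intro x hx hfx
    have h1 := htr ⟨x, hx.1⟩
    rw [hfx, show φ ⟨x, hx.1⟩ = ⟨x, hx⟩ from hπV _ hx, h.zas_index_Dd] at h1
    obtain ⟨j, hj⟩ := hQ.exists_card_eq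
    have hco' : Nat.Coprime (Nat.card (Vv a t)) ((Nat.card Q + 1) * Nat.card Q) :=
      Nat.Coprime.mul_right hco (by rw [hj]; exact Nat.Coprime.pow_right j (Nat.coprime_two_right.2 hodd))
    have h2 : orderOf (⟨x, hx⟩ : Vv a t) ∣ 1 := hco' ▸
      Nat.dvd_gcd (orderOf_dvd_natCard _) (orderOf_dvd_of_pow_eq_one h1.symm)
    exact congrArg Subtype.val (orderOf_eq_one_iff.1 (Nat.dvd_one.1 h2))

end Cfsg.Lib.RankOneSuzuki
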