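import Mathlib

/-!
# Suzuki's rank-one theorem, Part B: sharply doubly transitive groups

The degree is a prime power `p ^ i` and there is a normal subgroup of that order.
-/

set_option autoImplicit false
set_option linter.style.haveILetI false

namespace Cfsg.Lib.RankOneSuzuki

theorem zas_sharp_two {R X : Type*} [Group R] [Finite R] [Finite X] [MulAction R X]
    [MulAction.IsPretransitive R X] {a : X}
    (hcard : Nat.card (MulAction.stabilizer R a) + 1 = Nat.card X)
    (hfree : ∀ s : R, s • a = a → s ≠ 1 → ∀ x : X, s • x = x → x = a) (h2 : 2 ≤ Nat.card X)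
    {p : ℕ} (hp : p.Prime) (hdvd : p ∣ Nat.card X) :
    ∃ i : ℕ, Nat.card X = p ^ i ∧ ∀ P : Sylow p R, (P : Subgroup R).Normal ∧ Nat.card P = p ^ i := by
  classical
  letI := Fintype.ofFinite R
  letI := Fintype.ofFinite X
  set f := Nat.card X with hf
  have hR : Nat.card R = f * (f - 1) := by
    rw [← Subgroup.card_mul_index (MulAction.stabilizer R a), MulAction.index_stabilizer_of_transitive R a,
      mul_comm, ← hf, ← hcard, Nat.add_sub_cancel]
  -- the fixed-point-free elements
  set E : Finset R := Finset.univ.filter fun g => ∀ x : X, g • x ≠ x with hE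
  have hfix : ∀ g : R, g ≠ 1 → ∀ x y : X, g • x = x → g • y = y → x = y := by
    intro g hg x y hx hy
    obtain ⟨r, hr⟩ := MulAction.exists_smul_eq R x a
    have h1 : (r * g * r⁻¹) • r • x = r • x := by rw [mul_smul, mul_smul, inv_smul_smul, hx]
    have h2 : (r * g * r⁻¹) • r • y = r • y := by rw [mul_smul, mul_smul, inv_smul_smul, hy]
    rw [hr] at h1
    exact MulAction.injective r ((hfree _ h1 (fun e => hg (conj_eq_one_iff.1 e)) _ h2).trans hr.symm).symm
  have hstab : ∀ x : X, (Finset.univ.filter fun g : R => g • x = x ∧ g ≠ 1).card = f - 2 := by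
    intro x
    obtain ⟨r, hr⟩ := MulAction.exists_smul_eq R x a
    have h1 : (Finset.univ.filter fun g : R => g • x = x).card = f - 1 := by
      have e := Nat.card_congr (MulAction.stabilizerEquivStabilizer (g := r) hr.symm).toEquiv
      rw [← Fintype.card_subtype, ← Nat.card_eq_fintype_card, ← hcard, Nat.add_sub_cancel, ← e]
      exact Nat.card_congr (Equiv.subtypeEquivRight fun g => MulAction.mem_stabilizer_iff.symm)
    rw [show (Finset.univ.filter fun g : R => g • x = x ∧ g ≠ 1) =
        (Finset.univ.filter fun g : R => g • x = x).erase 1 from Finset.ext fun g => by simp [and_comm],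
      Finset.card_erase_of_mem (by simp), h1]
    omega
  have hEc : E.card = f - 1 := by
    have hsplit : (Finset.univ : Finset R) =
        insert 1 ((Finset.univ : Finset X).biUnion fun x => Finset.univ.filter fun g : R => g • x = x ∧ g ≠ 1) ∪ E := by
      ext g
      simp only [Finset.mem_univ, true_iff, Finset.mem_union, Finset.mem_insert, Finset.mem_biUnion,
        Finset.mem_filter, true_and, hE]
      by_cases hg : g = 1
      · exact Or.inl (Or.inl hg)
      by_cases hx : ∃ x : X, g • x = x
      · obtain ⟨x, hx⟩ := hx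
        exact Or.inl (Or.inr ⟨x, hx, hg⟩)
      · exact Or.inr fun x e => hx ⟨x, e⟩
    have hd : Disjoint (insert (1 : R) ((Finset.univ : Finset X).biUnion fun x =>
        Finset.univ.filter fun g : R => g • x = x ∧ g ≠ 1)) E := by
      rw [Finset.disjoint_left]
      intro g hg hgE
      simp only [Finset.mem_insert, Finset.mem_biUnion, Finset.mem_univ, Finset.mem_filter, true_and, hE] at hg hgE
      rcases hg with rfl | ⟨x, hx, -⟩
      · exact hgE a (one_smul _ _)
      · exact hgE x hx
    have h1 := congrArg Finset.card hsplit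
    rw [Finset.card_union_of_disjoint hd, Finset.card_insert_of_notMem (by simp), Finset.card_biUnion
      (fun x _ y _ hxy => Finset.disjoint_left.2 fun g hg hg' =>
        hxy (hfix g (Finset.mem_filter.1 hg).2.2 x y (Finset.mem_filter.1 hg).2.1 (Finset.mem_filter.1 hg').2.1)),
      Finset.sum_congr rfl (fun x _ => hstab x), Finset.sum_const, Finset.card_univ, Finset.card_univ,
      ← Nat.card_eq_fintype_card, ← Nat.card_eq_fintype_card, hR, smul_eq_mul, ← hf] at h1
    obtain ⟨g, hg⟩ : ∃ g, f = g + 2 := ⟨f - 2, by omega⟩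
    rw [hg, Nat.add_sub_cancel, show g + 2 - 1 = g + 1 by omega] at h1
    have e1 : (g + 2) * (g + 1) = (g + 2) * g + g + 2 := by ring
    omega
  -- they are all conjugate
  have horder : ∀ x ∈ E, ∀ y ∈ E, orderOf x = orderOf y := by
    intro x hx y hy
    let φ : MulAction.stabilizer R a → R := fun s => (s : R) * x * (s : R)⁻¹
    have hφE : ∀ s, φ s ∈ E := fun s => by
      refine Finset.mem_filter.2 ⟨Finset.mem_univ _, fun z hz => (Finset.mem_filter.1 hx).2 ((s : R)⁻¹ • z) ?_⟩
      have h1 : ((s : R) * x * (s : R)⁻¹) • z = z := hz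
      rw [mul_smul, mul_smul, ← eq_inv_smul_iff] at h1
      exact h1
    have hinj : Function.Injective φ := by
      intro s s' e
      by_contra hne
      set w : R := (s' : R)⁻¹ * s with hw
      have hwa : w • a = a := by rw [hw, mul_smul, s.2, inv_smul_eq_iff, s'.2]
      have hw1 : w ≠ 1 := fun h => hne (Subtype.ext (inv_mul_eq_one.1 h).symm)
      have hwx : w * x = x * w := by
        calc w * x = (s' : R)⁻¹ * ((s : R) * x * (s : R)⁻¹) * s := by rw [hw]; group
          _ = x * w := by rw [show (s : R) * x * (s : R)⁻¹ = (s' : R) * x * (s' : R)⁻¹ from e, hw]; group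
      refine (Finset.mem_filter.1 hx).2 a (hfree w hwa hw1 (x • a) ?_)
      rw [← mul_smul, hwx, mul_smul, hwa]
    have himg : (Finset.univ : Finset (MulAction.stabilizer R a)).image φ = E := by
      refine Finset.eq_of_subset_of_card_le (fun z hz => ?_) ?_
      · obtain ⟨s, -, rfl⟩ := Finset.mem_image.1 hz
        exact hφE s
      · rw [Finset.card_image_of_injective _ hinj, hEc, Finset.card_univ, ← Nat.card_eq_fintype_card]
        omega
    rw [← himg] at hy
    obtain ⟨s, -, rfl⟩ := Finset.mem_image.1 hy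
    exact (orderOf_injective (MulAut.conj (s : R)).toMonoidHom (MulAut.conj (s : R)).injective x).symm
  -- the elements of prime order dividing the degree
  have hmem : ∀ r : ℕ, r.Prime → r ∣ f → ∀ g : R, ∀ j : ℕ, g ^ r ^ j = 1 → g ≠ 1 → g ∈ E := by
    intro r hr hrf g j hg hg1
    refine Finset.mem_filter.2 ⟨Finset.mem_univ _, fun x hx => hg1 ?_⟩
    have h1 : orderOf g ∣ f - 1 := by
      have h2 := Subgroup.orderOf_dvd_natCard (MulAction.stabilizer R x) (x := g) hx
      obtain ⟨w, hw⟩ := MulAction.exists_smul_eq R x a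
      rw [Nat.card_congr (MulAction.stabilizerEquivStabilizer hw.symm).toEquiv] at h2
      rwa [← hcard, Nat.add_sub_cancel]
    have h3 : Nat.Coprime (r ^ j) (f - 1) := Nat.Coprime.pow_left j (hr.coprime_iff_not_dvd.2 fun h => by
      have h4 := Nat.dvd_sub hrf h
      rw [show f - (f - 1) = 1 by omega] at h4
      exact hr.not_dvd_one h4)
    have h5 := Nat.dvd_gcd (orderOf_dvd_of_pow_eq_one hg) h1
    rw [h3] at h5
    exact orderOf_eq_one_iff.1 (Nat.dvd_one.1 h5)
  obtain ⟨g₀, hg₀⟩ : ∃ g : R, orderOf g = p := by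
    haveI := Fact.mk hp
    exact exists_prime_orderOf_dvd_card' p (hdvd.trans (by rw [hR]; exact dvd_mul_right _ _))
  have hg₀E : g₀ ∈ E := hmem p hp hdvd g₀ 1 (by rw [pow_one, ← hg₀]; exact pow_orderOf_eq_one _)
    (fun e => by rw [e, orderOf_one] at hg₀; exact hp.ne_one hg₀.symm)
  have huniq : ∀ {r : ℕ}, r.Prime → r ∣ f → r = p := by
    intro r hr hrf
    haveI := Fact.mk hr
    obtain ⟨g, hg⟩ := exists_prime_orderOf_dvd_card' (G := R) r (hrf.trans (by rw [hR]; exact dvd_mul_right _ _))
    have hgE : g ∈ E := hmem r hr hrf g 1 (by rw [pow_one, ← hg]; exact pow_orderOf_eq_one _)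
      (fun e => by rw [e, orderOf_one] at hg; exact hr.ne_one hg.symm)
    rw [← hg, ← hg₀]
    exact horder g hgE g₀ hg₀E
  refine ⟨f.primeFactorsList.length, Nat.eq_prime_pow_of_unique_prime_dvd (by omega) huniq, fun P => ?_⟩
  haveI := Fact.mk hp
  set i := f.primeFactorsList.length
  have hfi : f = p ^ i := Nat.eq_prime_pow_of_unique_prime_dvd (by omega) huniq
  have hP : Nat.card P = p ^ i := by
    rw [P.card_eq_multiplicity, hR, Nat.factorization_mul (by omega) (by omega), Finsupp.add_apply, hfi,
      hp.factorization_pow, Finsupp.single_eq_same, Nat.factorization_eq_zero_of_not_dvd, add_zero]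
    intro h
    have h1 : p ∣ p ^ i := hfi ▸ hdvd
    have h2 := Nat.dvd_sub h1 h
    rw [show p ^ i - (p ^ i - 1) = 1 by omega] at h2
    exact hp.not_dvd_one h2
  refine ⟨?_, hP⟩
  have hset : ∀ Q : Sylow p R, (Finset.univ.filter fun g : R => g ∈ (Q : Subgroup R)) = insert 1 E := by
    intro Q
    refine Finset.eq_of_subset_of_card_le (fun g hg => ?_) ?_
    · by_cases hg1 : g = 1
      · rw [hg1]; exact Finset.mem_insert_self _ _
      obtain ⟨j, hj⟩ := Q.2 ⟨g, (Finset.mem_filter.1 hg).2⟩
      exact Finset.mem_insert_of_mem (hmem p hp hdvd g j (congrArg Subtype.val hj) hg1)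
    · rw [Finset.card_insert_of_notMem (by simp [hE]; exact ⟨a⟩), hEc, ← Fintype.card_subtype,
        ← Nat.card_eq_fintype_card]
      have h3 : Nat.card Q = Nat.card P := by rw [Q.card_eq_multiplicity, P.card_eq_multiplicity]
      change f - 1 + 1 ≤ Nat.card Q
      omega
  refine ⟨fun x hx g => ?_⟩
  have hx' : g * x * g⁻¹ ∈ (g • P : Sylow p R) := by
    change g * x * g⁻¹ ∈ ((g • P : Sylow p R) : Subgroup R)
    rw [Sylow.coe_subgroup_smul]
    exact ⟨x, hx, rfl⟩
  have h1 : g * x * g⁻¹ ∈ Finset.univ.filter fun y : R => y ∈ ((g • P : Sylow p R) : Subgroup R) :=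
    Finset.mem_filter.2 ⟨Finset.mem_univ _, hx'⟩
  rw [hset, ← hset P] at h1
  exact (Finset.mem_filter.1 h1).2

end Cfsg.Lib.RankOneSuzuki
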