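import Cfsg.Agent.Lib.RankOneSuzuki.SetupInd
import Cfsg.Agent.Lib.RankOneSuzuki.SetupField
import Cfsg.Agent.Lib.RankOneSuzuki.ZasProj
import Cfsg.Agent.Lib.RankOneSuzuki.ZasSharp
import Cfsg.Agent.Lib.RankOneSuzuki.ZasArith

/-!
# Suzuki's rank-one theorem, Part B: the Fermat case

`Vv` has prime order `ℓ` dividing `2 ^ m + 1`, `|Zz| = 2 ^ ℓ` and an element `v` generating `Vv` centralises
`2 ^ m` elements of `Q`.  The induced group on the fixed points of `v` is sharply doubly transitive, so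
`ℓ = m = 3`, and the normaliser of a subgroup of order 27 has impossible order.
-/

set_option autoImplicit false
set_option linter.unusedSectionVars false
set_option linter.style.haveILetI false

namespace Cfsg.Lib.RankOneSuzuki

open Cfsg Cfsg.Lib.Linear.RankOne

universe u v

/-- A set stable under a freely acting subgroup has order divisible by the order of the subgroup. -/
theorem zas_dvd_of_free {M : Type u} [Group M] [Finite M] (U : Subgroup M) (X : Set M)
    (hX : ∀ g ∈ U, ∀ x ∈ X, g * x * g⁻¹ ∈ X) (hfree : ∀ g ∈ U, ∀ x ∈ X, g * x = x * g → g = 1) :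
    Nat.card U ∣ Nat.card X := by
  classical
  letI : MulAction U X :=
    { smul := fun g x => ⟨(g : M) * x * (g : M)⁻¹, hX g g.2 x x.2⟩
      one_smul := fun x => Subtype.ext (show ((1 : U) : M) * x * ((1 : U) : M)⁻¹ = x by simp)
      mul_smul := fun g g' x => Subtype.ext (show ((g * g' : U) : M) * x * ((g * g' : U) : M)⁻¹ =
        g * ((g' : M) * x * (g' : M)⁻¹) * (g : M)⁻¹ by simp [mul_assoc]) }
  have hst : ∀ x : X, MulAction.stabilizer U x = ⊥ := fun x => (Subgroup.eq_bot_iff_forall _).2 fun g hg =>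
    Subtype.ext (hfree g g.2 x x.2
      (mul_inv_eq_iff_eq_mul.1 (congrArg Subtype.val (hg : g • x = x) : (g : M) * x * (g : M)⁻¹ = x)))
  haveI : Fintype (Quotient (MulAction.orbitRel U X)) := Fintype.ofFinite _
  rw [Nat.card_congr (MulAction.selfEquivSigmaOrbitsQuotientStabilizer U X), Nat.card_sigma]
  refine Finset.dvd_sum fun w _ => ?_
  rw [hst, ← Subgroup.index_eq_card, Subgroup.index_bot]

variable {G : Type u} {Ω : Type v} [Group G] [MulAction G Ω] [Finite G] [FaithfulSMul G Ω]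
  {a : Ω} {t : G} {Q : Subgroup G}

/-- The points fixed by `x` other than `a` correspond to `C_Q(x)`. -/
theorem Hyp.zas_fx_point (h : Hyp G Ω a t Q) {x : G} (hx : x ∈ Vv a t) {b : Fx Ω x} (hb : b.1 ≠ a) :
    ∃ q : G, q ∈ Q ∧ q ∈ Subgroup.centralizer {x} ∧ q • t • a = b.1 := by
  obtain ⟨q, hq, hqb⟩ := exists_orbit h.setup hb
  refine ⟨q, hq, ?_, hqb⟩
  have hq' : x * q * x⁻¹ ∈ Q := h.setup.conj_mem x hx.1.1 q hq
  have e : (x * q * x⁻¹) • t • a = q • t • a := by
    have hxi : x⁻¹ • t • a = t • a := inv_smul_eq_iff.2 hx.1.2.symm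
    rw [mul_smul, mul_smul, hxi, hqb]
    exact b.2
  have e' := eq_of_smul h.setup hq' hq (smul_ne h.setup) e
  exact Subgroup.mem_centralizer_singleton_iff.2 (mul_inv_eq_iff_eq_mul.1 e').symm

theorem Hyp.zas_card_fx (h : Hyp G Ω a t Q) {x : G} (hx : x ∈ Vv a t) :
    Nat.card (Fx Ω x) = Nat.card (Q ⊓ Subgroup.centralizer {x} : Subgroup G) + 1 := by
  classical
  haveI := finite_pts h.setup
  rw [← Finite.card_option]
  refine (Nat.card_eq_of_bijective
    (fun o : Option (Q ⊓ Subgroup.centralizer {x} : Subgroup G) => (Option.elim o (fxBase hx) fun q =>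
      ⟨(q : G) • t • a, by
        rw [smul_smul, ← Subgroup.mem_centralizer_singleton_iff.1 q.2.2, mul_smul, show x • t • a = t • a from hx.1.2]⟩ :
      Fx Ω x)) ⟨?_, ?_⟩).symm
  · rintro (_ | q) (_ | q') e
    · rfl
    · exact absurd (congrArg Subtype.val e).symm (smul_ne_of_ne h.setup q'.2.1 (smul_ne h.setup))
    · exact absurd (congrArg Subtype.val e) (smul_ne_of_ne h.setup q.2.1 (smul_ne h.setup))
    · exact congrArg some (Subtype.ext (eq_of_smul h.setup q.2.1 q'.2.1 (smul_ne h.setup) (congrArg Subtype.val e)))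
  · intro b
    by_cases hb : b.1 = a
    · exact ⟨none, Subtype.ext hb.symm⟩
    obtain ⟨q, hq, hqc, hqb⟩ := h.zas_fx_point hx hb
    exact ⟨some ⟨q, hq, hqc⟩, Subtype.ext hqb⟩

theorem Hyp.zas_fx_pretransitive (h : Hyp G Ω a t Q) {x : G} (hx : x ∈ Vv a t) :
    MulAction.IsPretransitive (Im Ω x) (Fx Ω x) := by
  have key : ∀ b : Fx Ω x, ∃ g : Im Ω x, g • fxBase hx = b := by
    intro b
    by_cases hb : b.1 = a
    · exact ⟨1, by rw [one_smul]; exact Subtype.ext hb.symm⟩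
    obtain ⟨q, hq, hqc, hqb⟩ := h.zas_fx_point hx hb
    refine ⟨fxProj Ω x (⟨q, hqc⟩ * ⟨t, h.t_mem_centralizer hx⟩), Subtype.ext ?_⟩
    rw [fxProj_smul]
    show (q * t) • a = b.1
    rw [mul_smul, hqb]
  refine ⟨fun b c => ?_⟩
  obtain ⟨g, hg⟩ := key b
  obtain ⟨g', hg'⟩ := key c
  exact ⟨g' * g⁻¹, by rw [mul_smul, ← hg, inv_smul_smul, hg']⟩

/-- For trivial `Ww` and a prime `|Vv|` the elements of `Dd` centralising `v` lie in `⟨v⟩`. -/
theorem Hyp.zas_Dd_cent (h : Hyp G Ω a t Q) {v : G} (hv : v ∈ Vv a t)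
    (hgen : Vv a t = Subgroup.zpowers v)
    (h2 : Nat.card (Zz G a ⊓ Subgroup.centralizer {v} : Subgroup G) = 2) {d : G} (hd : d ∈ Dd a t)
    (hc : d * v = v * d) : d ∈ Subgroup.zpowers v := by
  obtain ⟨w, hw, k, hk, rfl⟩ := h.exists_mul hd
  obtain ⟨s, r, hs, hs1, -, -, hV⟩ := h.exists_s
  have hwv : w * v = v * w := by
    rw [hgen] at hw
    obtain ⟨j, rfl⟩ := hw
    exact ((Commute.refl v).zpow_left j).eq
  have hkv : Commute k v := by
    refine (mul_left_cancel (a := w) ?_ : k * v = v * k)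
    rw [← mul_assoc, hc, ← mul_assoc, ← hwv, mul_assoc]
  have hsv : Commute s v := by
    have h1 : v ∈ Dd a t ⊓ Subgroup.centralizer {s} := hV ▸ hv
    exact (Subgroup.mem_centralizer_singleton_iff.1 h1.2).symm
  have hz : k * s * k⁻¹ ∈ Zz G a ⊓ Subgroup.centralizer {v} :=
    ⟨h.Zz_conj (h.Kk_le hk).1 hs, Subgroup.mem_centralizer_singleton_iff.2
      ((hkv.mul_left hsv).mul_left hkv.inv_left).eq⟩
  have hs0 : s ∈ Zz G a ⊓ Subgroup.centralizer {v} :=
    ⟨hs, Subgroup.mem_centralizer_singleton_iff.2 hsv.eq⟩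
  obtain ⟨z, -, hu⟩ := (Nat.card_eq_two_iff' (1 : (Zz G a ⊓ Subgroup.centralizer {v} : Subgroup G))).1 h2
  have e1 := hu ⟨k * s * k⁻¹, hz⟩ (fun e => hs1 (conj_eq_one_iff.1 (congrArg Subtype.val e)))
  have e2 := hu ⟨s, hs0⟩ (fun e => hs1 (congrArg Subtype.val e))
  have e3 : k * s * k⁻¹ = s := congrArg Subtype.val (e1.trans e2.symm)
  rw [h.Kk_free hk (h.Zz_le hs) hs1 (mul_inv_eq_iff_eq_mul.1 e3), mul_one, ← hgen]
  exact hw

theorem Hyp.zas_no_fermat (h : Hyp G Ω a t Q) (hW : Ww a t = ⊥) {v : G}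
    (hv : v ∈ Vv a t) {ℓ k d : ℕ} (hℓ : ℓ.Prime) (hord : orderOf v = ℓ) (hVv : Nat.card (Vv a t) = ℓ)
    (hq : Nat.card (Zz G a) = 2 ^ ℓ) (hk : 1 ≤ k) (hdo : Odd d) (hd3 : 3 ≤ d)
    (hN : Nat.card Q = 2 ^ (ℓ * (k * d))) (hdvd : ℓ ∣ 2 ^ (k * d) + 1)
    (h2 : Nat.card (Zz G a ⊓ Subgroup.centralizer {v} : Subgroup G) = 2)
    (hC : Nat.card (Q ⊓ Subgroup.centralizer {v} : Subgroup G) = 2 ^ (k * d)) : False := by
  classical
  haveI := finite_pts h.setup
  haveI : Finite (Fx Ω v) := inferInstanceAs (Finite {b : Ω // v • b = b})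
  haveI := Fintype.ofFinite G
  have hgen : Vv a t = Subgroup.zpowers v := by
    symm
    exact Subgroup.eq_of_le_of_card_ge ((Subgroup.zpowers_le).2 hv) (by rw [Nat.card_zpowers, hord, hVv])
  haveI := h.zas_fx_pretransitive hv
  set C : Subgroup G := Subgroup.centralizer {v} with hCdef
  have hker : ∀ g : C, fxProj Ω v g = 1 ↔ (g : G) ∈ Subgroup.zpowers v := by
    intro g
    rw [fxProj_eq_one_iff]
    constructor
    · intro hg
      exact h.zas_Dd_cent hv hgen h2 ⟨hg (fxBase hv), hg ⟨t • a, hv.1.2⟩⟩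
        (Subgroup.mem_centralizer_singleton_iff.1 g.2)
    · intro hg b
      exact ((Subgroup.zpowers_le (H := MulAction.stabilizer G b.1)).2 b.2 hg : _)
  have hstab : MulAction.stabilizer (Im Ω v) (fxBase hv) = fxQ Ω Q v := by
    refine le_antisymm (fun y hy => ?_) ?_
    · obtain ⟨g, rfl⟩ := fxProj_surjective v y
      obtain ⟨q, hq', d', hd', he⟩ := decomp h.setup (congrArg Subtype.val hy : (g : G) • a = a)
      have hgc : v * (g : G) = g * v := (Subgroup.mem_centralizer_singleton_iff.1 g.2).symm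
      have hvd : v * d' * v⁻¹ ∈ Dd a t := mul_mem (mul_mem hv.1 hd') (inv_mem hv.1)
      have e1 : (v * q * v⁻¹) * (v * d' * v⁻¹) = q * d' := by
        rw [← he, show v * q * v⁻¹ * (v * d' * v⁻¹) = v * (q * d') * v⁻¹ by group, ← he, hgc]
        group
      have e2 : q⁻¹ * (v * q * v⁻¹) = d' * (v * d' * v⁻¹)⁻¹ := by
        rw [eq_mul_inv_iff_mul_eq, mul_assoc, e1, inv_mul_cancel_left]
      have e3 := eq_one_of_mem_D h.setup (mul_mem (inv_mem hq') (h.setup.conj_mem v hv.1.1 q hq'))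
        (e2 ▸ mul_mem hd' (inv_mem hvd))
      have hqc : Commute v q := mul_inv_eq_iff_eq_mul.1 (inv_mul_eq_one.1 e3).symm
      have hdc : Commute v d' := by
        rw [show d' = q⁻¹ * (g : G) by rw [he, inv_mul_cancel_left]]
        exact hqc.inv_right.mul_right hgc
      have hd1 : fxProj Ω v ⟨d', Subgroup.mem_centralizer_singleton_iff.2 hdc.symm.eq⟩ = 1 :=
        (hker _).2 (h.zas_Dd_cent hv hgen h2 hd' hdc.symm.eq)
      refine ⟨⟨q, Subgroup.mem_centralizer_singleton_iff.2 hqc.symm.eq⟩, hq', ?_⟩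
      rw [show g = (⟨q, Subgroup.mem_centralizer_singleton_iff.2 hqc.symm.eq⟩ : C) *
        ⟨d', Subgroup.mem_centralizer_singleton_iff.2 hdc.symm.eq⟩ from Subtype.ext he, map_mul, hd1, mul_one]
    · rintro _ ⟨g, hg, rfl⟩
      exact Subtype.ext (h.setup.le hg)
  have hcardstab : Nat.card (MulAction.stabilizer (Im Ω v) (fxBase hv)) = 2 ^ (k * d) := by
    rw [hstab, h.card_fxQ hv, hC]
  have hX : Nat.card (Fx Ω v) = 2 ^ (k * d) + 1 := by rw [h.zas_card_fx hv, hC]
  have hfree : ∀ y : Im Ω v, y • fxBase hv = fxBase hv → y ≠ 1 → ∀ b : Fx Ω v, y • b = b → b = fxBase hv := by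
    intro y hy hy1 b hb
    have hy' : y ∈ fxQ Ω Q v := hstab ▸ hy
    obtain ⟨g, hg, rfl⟩ := hy'
    refine Subtype.ext (fix_eq h.setup hg (fun e => hy1 ?_) (congrArg Subtype.val hb))
    rw [show g = 1 from Subtype.ext e, map_one]
  obtain ⟨i, hi, hsyl⟩ := zas_sharp_two (a := fxBase hv) (by rw [hcardstab, hX]) hfree
    (by rw [hX]; have := Nat.one_le_two_pow (n := k * d); omega) hℓ (by rw [hX]; exact hdvd)
  obtain ⟨hm, rfl⟩ := eq_three_of_prime_pow hk hdo hd3 hℓ (hX.symm.trans hi)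
  rw [hm] at hN hC hX hcardstab
  simp only [Nat.reduceMul, Nat.reducePow, Nat.reduceAdd] at hN hC hX hcardstab hq
  haveI : Fact (Nat.Prime 3) := ⟨Nat.prime_three⟩
  have hG : Nat.card G = 5515776 := by
    have e := h.card_Kk
    rw [h.zas_card_group, h.card_Dd, hVv, hN, show Nat.card (Kk a t) = 7 by omega]
  have hA : Nat.card (Im Ω v) = 72 := by
    rw [← Subgroup.card_mul_index (MulAction.stabilizer (Im Ω v) (fxBase hv)),
      MulAction.index_stabilizer_of_transitive (Im Ω v) (fxBase hv), hcardstab, hX]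
  have hkc : Nat.card (fxProj Ω v).ker = 3 := by
    rw [← hord, ← Nat.card_zpowers v]
    exact Nat.card_congr
      ⟨fun g => ⟨g.1.1, (hker g.1).1 g.2⟩,
        fun y => ⟨⟨y.1, (Subgroup.zpowers_le (H := C)).2 (Subgroup.mem_centralizer_singleton_iff.2 rfl) y.2⟩,
          (hker _).2 y.2⟩, fun _ => rfl, fun _ => rfl⟩
  have hCc : Nat.card C = 216 := by
    rw [Subgroup.card_eq_card_quotient_mul_card_subgroup (fxProj Ω v).ker,
      Nat.card_congr (QuotientGroup.quotientKerEquivOfSurjective _ (fxProj_surjective v)).toEquiv, hA, hkc]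
  let P : Sylow 3 (Im Ω v) := default
  obtain ⟨hPn, hPc⟩ := hsyl P
  rw [← hi, hX] at hPc
  haveI := hPn
  set T₀ : Subgroup C := (P : Subgroup (Im Ω v)).comap (fxProj Ω v) with hT₀
  have hT₀c : Nat.card T₀ = 27 := by
    have e1 := Subgroup.card_mul_index T₀
    rw [Subgroup.index_comap_of_surjective _ (fxProj_surjective v)] at e1
    have e2 := Subgroup.card_mul_index (P : Subgroup (Im Ω v))
    rw [hA] at e2
    rw [hCc] at e1
    change Nat.card (P : Subgroup (Im Ω v)) = 9 at hPc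
    rw [hPc] at e2
    rw [show (P : Subgroup (Im Ω v)).index = 8 by omega] at e1
    omega
  set T : Subgroup G := T₀.map C.subtype with hT
  have hTc : Nat.card T = 27 := by
    rw [hT, Subgroup.card_map_of_injective C.subtype_injective, hT₀c]
  set N : Subgroup G := Subgroup.normalizer (T : Set G) with hN'
  have hCN : C ≤ N := by
    intro c hc
    rw [hN', Subgroup.mem_normalizer_iff]
    intro x
    constructor
    · rintro ⟨y, hy, rfl⟩
      exact ⟨⟨c, hc⟩ * y * ⟨c, hc⟩⁻¹, (inferInstance : T₀.Normal).conj_mem y hy _, rfl⟩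
    · rintro ⟨y, hy, e⟩
      refine ⟨⟨c, hc⟩⁻¹ * y * ⟨c, hc⟩⁻¹⁻¹, (inferInstance : T₀.Normal).conj_mem y hy _, ?_⟩
      rw [map_mul, map_mul, map_inv, map_inv, e, map_inv, inv_inv]
      show c⁻¹ * (c * x * c⁻¹) * c = x
      group
  have h81 : 3 ^ 4 ∣ Nat.card N := Sylow.prime_pow_dvd_card_normalizer
    (by rw [hG]; norm_num) (by rw [hTc]; norm_num)
  have hNG : Nat.card N ∣ Nat.card G := Subgroup.card_subgroup_dvd_card N
  let O : Set G := {y | ∃ g ∈ N, g * v * g⁻¹ = y}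
  have hNO : Nat.card N = Nat.card O * Nat.card C := by
    rw [← Nat.card_prod]
    choose f hfN hf using fun y : O => y.2
    refine (Nat.card_eq_of_bijective (fun p : O × C => (⟨f p.1 * p.2, mul_mem (hfN p.1) (hCN p.2.2)⟩ : N))
      ⟨?_, ?_⟩).symm
    · rintro ⟨y, c⟩ ⟨y', c'⟩ e
      have e' : f y * (c : G) = f y' * c' := congrArg Subtype.val e
      have ey : y = y' := by
        refine Subtype.ext ?_
        have hc : (c : G) * v * (c : G)⁻¹ = v :=
          mul_inv_eq_iff_eq_mul.2 (Subgroup.mem_centralizer_singleton_iff.1 c.2)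
        have hc' : (c' : G) * v * (c' : G)⁻¹ = v :=
          mul_inv_eq_iff_eq_mul.2 (Subgroup.mem_centralizer_singleton_iff.1 c'.2)
        calc (y : G) = f y * ((c : G) * v * (c : G)⁻¹) * (f y)⁻¹ := by rw [hc, hf]
          _ = (f y * c) * v * (f y * c)⁻¹ := by group
          _ = f y' * ((c' : G) * v * (c' : G)⁻¹) * (f y')⁻¹ := by rw [e']; group
          _ = y' := by rw [hc', hf]
      subst ey
      exact Prod.ext rfl (Subtype.ext (mul_left_cancel e'))
    · rintro ⟨g, hg⟩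
      let y : O := ⟨g * v * g⁻¹, g, hg, rfl⟩
      refine ⟨(y, ⟨(f y)⁻¹ * g, Subgroup.mem_centralizer_singleton_iff.2 ?_⟩), Subtype.ext (mul_inv_cancel_left _ _)⟩
      calc (f y)⁻¹ * g * v = (f y)⁻¹ * (g * v * g⁻¹) * g := by group
        _ = v * ((f y)⁻¹ * g) := by rw [show g * v * g⁻¹ = f y * v * (f y)⁻¹ from (hf y).symm]; group
  have hvT : v ∈ T := ⟨⟨v, Subgroup.mem_centralizer_singleton_iff.2 rfl⟩, by
    show fxProj Ω v _ ∈ (P : Subgroup (Im Ω v))
    rw [(hker _).2 (Subgroup.mem_zpowers v)]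
    exact one_mem _, rfl⟩
  have hzT : Subgroup.zpowers v ≤ T := Subgroup.zpowers_le.2 hvT
  have hOv : v ∈ O := ⟨1, one_mem _, by group⟩
  have hfus : ∀ y ∈ O, y ∈ Subgroup.zpowers v → y = v := by
    rintro _ ⟨g, -, rfl⟩ hgv
    have hfx : ∀ b : Ω, v • b = b → v • g⁻¹ • b = g⁻¹ • b := fun b hb => by
      have h1 : (g * v * g⁻¹) • b = b := (Subgroup.zpowers_le (H := MulAction.stabilizer G b)).2 hb hgv
      rw [mul_smul, mul_smul] at h1
      exact eq_inv_smul_iff.2 h1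
    have h3 := three_fixed h.setup (X := {v}) (Set.singleton_subset_iff.2 hv)
    obtain ⟨c, hc, e1, e2⟩ := (Cfsg.Agent.S1125.result h.setup {v} (Set.singleton_subset_iff.2 hv.1) h3).1
      a (t • a) (g⁻¹ • a) (g⁻¹ • t • a) (fun y hy => by
        rw [Set.mem_singleton_iff] at hy; subst hy
        exact ⟨hv.1.1, hv.1.2, hfx a hv.1.1, hfx (t • a) hv.1.2⟩)
      (smul_ne h.setup).symm (fun e => smul_ne h.setup (MulAction.injective g⁻¹ e).symm)
    have hd : g * c ∈ Dd a t :=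
      ⟨show (g * c) • a = a by rw [mul_smul, e1, smul_inv_smul],
        show (g * c) • t • a = t • a by rw [mul_smul, e2, smul_inv_smul]⟩
    have hcv : c * v * c⁻¹ = v := mul_inv_eq_iff_eq_mul.2 (Subgroup.mem_centralizer_singleton_iff.1 hc)
    obtain ⟨w, hw, k', hk', he⟩ := h.exists_mul hd
    have e3 : g * v * g⁻¹ = w * (k' * v * k'⁻¹) * w⁻¹ := by
      calc g * v * g⁻¹ = g * (c * v * c⁻¹) * g⁻¹ := by rw [hcv]
        _ = (g * c) * v * (g * c)⁻¹ := by group
        _ = w * (k' * v * k'⁻¹) * w⁻¹ := by rw [he]; group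
    have hkvV : k' * v * k'⁻¹ ∈ Vv a t := by
      rw [show k' * v * k'⁻¹ = w⁻¹ * (g * v * g⁻¹) * w by rw [e3]; group]
      exact mul_mem (mul_mem (inv_mem hw) ((Subgroup.zpowers_le.2 hv) hgv)) hw
    have hK : k' * v * k'⁻¹ * v⁻¹ ∈ Kk a t := by
      rw [show k' * v * k'⁻¹ * v⁻¹ = k' * (v * k'⁻¹ * v⁻¹) by group]
      exact mul_mem hk' (h.Kk_conj_Vv hv (inv_mem hk'))
    have e4 := h.Kk_inf_Vv hK (mul_mem hkvV (inv_mem hv))
    rw [e3, mul_inv_eq_one.1 e4]
    exact mul_inv_eq_iff_eq_mul.2 (h.zas_comm hW hw hv)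
  have hOT : O ⊆ (T : Set G) := by
    rintro _ ⟨g, hg, rfl⟩
    exact (Subgroup.mem_normalizer_iff.1 hg v).1 hvT
  have hO25 : O.ncard ≤ 25 := by
    have hsub : O ⊆ insert v ((T : Set G) \ (Subgroup.zpowers v : Set G)) := by
      intro y hy
      by_cases hyz : y ∈ Subgroup.zpowers v
      · exact Or.inl (hfus y hy hyz)
      · exact Or.inr ⟨hOT hy, hyz⟩
    refine (Set.ncard_le_ncard hsub (Set.toFinite _)).trans ((Set.ncard_insert_le _ _).trans ?_)
    rw [Set.ncard_sdiff (show (Subgroup.zpowers v : Set G) ⊆ T from hzT) (Set.toFinite _),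
      ← Nat.card_coe_set_eq, ← Nat.card_coe_set_eq]
    change Nat.card T - Nat.card (Subgroup.zpowers v) + 1 ≤ 25
    rw [hTc, Nat.card_zpowers, hord]
  have hU : Nat.card (Q ⊓ C : Subgroup G) ∣ Nat.card (O \ {v} : Set G) := by
    refine zas_dvd_of_free _ _ (fun q hq y hy => ?_) fun q hq y hy hqy => ?_
    · obtain ⟨⟨g, hg, rfl⟩, hne⟩ := hy
      refine ⟨⟨q * g, mul_mem (hCN hq.2) hg, by group⟩, fun e => hne ?_⟩
      have hqv : q⁻¹ * v * q = v := by
        rw [mul_assoc, ← Subgroup.mem_centralizer_singleton_iff.1 hq.2, inv_mul_cancel_left]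
      rw [Set.mem_singleton_iff] at e ⊢
      calc g * v * g⁻¹ = q⁻¹ * (q * (g * v * g⁻¹) * q⁻¹) * q := by group
        _ = v := by rw [e, hqv]
    · by_contra hq1
      refine hy.2 (hfus y hy.1 ?_)
      obtain ⟨z, hz, rfl⟩ := hOT hy.1
      have hza : (z : G) • a = a := fix_eq h.setup hq.1 hq1 (by
        rw [smul_smul, show q * (z : G) = z * q from hqy, mul_smul, show q • a = a from h.setup.le hq.1])
      refine (hker z).1 ?_
      have h1 : orderOf (fxProj Ω v z) ∣ Nat.card (P : Subgroup (Im Ω v)) :=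
        Subgroup.orderOf_dvd_natCard _ hz
      have h2' : orderOf (fxProj Ω v z) ∣ Nat.card (MulAction.stabilizer (Im Ω v) (fxBase hv)) :=
        Subgroup.orderOf_dvd_natCard _ (Subtype.ext hza : fxProj Ω v z • fxBase hv = fxBase hv)
      change Nat.card (P : Subgroup (Im Ω v)) = 9 at hPc
      have h3 := Nat.dvd_gcd h1 h2'
      rw [hPc, hcardstab] at h3
      exact orderOf_eq_one_iff.1 (Nat.dvd_one.1 h3)
  rw [hC, Nat.card_coe_set_eq, Set.ncard_sdiff_singleton_of_mem hOv] at hU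
  rw [hNO, hCc, Nat.card_coe_set_eq] at h81 hNG
  rw [hG] at hNG
  have hpos : 0 < O.ncard := (Set.ncard_pos (Set.toFinite _)).2 ⟨v, hOv⟩
  generalize O.ncard = o at *
  interval_cases o <;> revert hU h81 hNG <;> norm_num

end Cfsg.Lib.RankOneSuzuki
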