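import Cfsg.Agent.Lib.RankOneSuzuki.Setup
import Cfsg.Agent.S1137
import Cfsg.Agent.S1138

/-!
# Suzuki's rank-one theorem: the action of `Ww` on a normal 2-subgroup of `Q`

`S` is a 2-group between `Zz` and `Q` normalised by `Dd`.  If `S` is abelian then `Ww` centralises it.
Otherwise `S` is a Suzuki 2-group, an element of `Ww` centralising a point outside `Zz` centralises `S`,
`Ww` centralises `S` when `|S| = q²`, and `|Ww : C(S)|` divides `q + 1` when `|S| = q³`.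
-/

set_option autoImplicit false
set_option linter.unusedSectionVars false
set_option linter.style.haveILetI false

namespace Cfsg.Lib.RankOneSuzuki

open Cfsg Cfsg.Lib.Linear.RankOne

universe u v

variable {G : Type u} {Ω : Type v} [Group G] [MulAction G Ω]

/-- A 2-group between `Zz` and `Q` normalised by the two-point stabiliser. -/
structure TwoSub (a : Ω) (t : G) (Q S : Subgroup G) : Prop where
  le : S ≤ Q
  Zz_le : Zz G a ≤ S
  two : IsPGroup 2 S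
  conj : ∀ d ∈ Dd a t, ∀ x ∈ S, d * x * d⁻¹ ∈ S

variable [Finite G] [FaithfulSMul G Ω] {a : Ω} {t : G} {Q S : Subgroup G}

theorem Hyp.invol_of_sq (h : Hyp G Ω a t Q) (hT : TwoSub a t Q S) {x : G} (hx : x ∈ S)
    (hx2 : x * x = 1) : x ∈ Zz G a :=
  h.mem_Zz.2 ⟨h.setup.le (hT.le hx), hx2⟩

theorem TwoSub.eq_one_of_odd_pow (hT : TwoSub a t Q S) {x : G} (hx : x ∈ S) {m : ℕ} (hm : Odd m)
    (h1 : x ^ m = 1) : x = 1 := by
  obtain ⟨i, hi⟩ := hT.two ⟨x, hx⟩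
  have hi' : x ^ 2 ^ i = 1 := congrArg Subtype.val hi
  have h2 : orderOf x ∣ 1 := (Nat.Coprime.pow_left i (Nat.coprime_two_left.2 hm)) ▸
    Nat.dvd_gcd (orderOf_dvd_of_pow_eq_one hi') (orderOf_dvd_of_pow_eq_one h1)
  exact orderOf_eq_one_iff.1 (Nat.dvd_one.1 h2)

/-- If the commutator of `w` and a point commutes with `w`, it is trivial. -/
theorem TwoSub.commute_of_double (hT : TwoSub a t Q S) (hodd : Odd (Nat.card (Dd a t))) {w x : G}
    (hw : w ∈ Dd a t) (hx : x ∈ S)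
    (hc : w * (x⁻¹ * (w * x * w⁻¹)) = x⁻¹ * (w * x * w⁻¹) * w) : w * x = x * w := by
  set y := x⁻¹ * (w * x * w⁻¹) with hy
  have h1 : w * x * w⁻¹ = x * y := by rw [hy, mul_inv_cancel_left]
  have h2 : ∀ i : ℕ, w ^ i * x * (w ^ i)⁻¹ = x * y ^ i := by
    intro i
    induction i with
    | zero => simp
    | succ i ih =>
      have hc' : w * y ^ i * w⁻¹ = y ^ i := by
        rw [(Commute.pow_right (show Commute w y from hc) i).eq, mul_inv_cancel_right]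
      calc w ^ (i + 1) * x * (w ^ (i + 1))⁻¹ = w * (w ^ i * x * (w ^ i)⁻¹) * w⁻¹ := by
            rw [pow_succ']; group
        _ = (w * x * w⁻¹) * (w * y ^ i * w⁻¹) := by rw [ih]; group
        _ = x * y ^ (i + 1) := by rw [h1, hc', pow_succ', mul_assoc]
  have hm : Odd (orderOf w) := Odd.of_dvd_nat hodd (Subgroup.orderOf_dvd_natCard _ hw)
  have h3 := h2 (orderOf w)
  rw [pow_orderOf_eq_one, one_mul, inv_one, mul_one, eq_comm, mul_eq_left] at h3
  have h4 := hT.eq_one_of_odd_pow (mul_mem (inv_mem hx) (hT.conj w hw x hx)) hm h3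
  rw [inv_mul_eq_one, eq_mul_inv_iff_mul_eq] at h4
  exact h4.symm

/-- An element of `Ww` fixing a coset of `Zz` fixes its members. -/
theorem Hyp.commute_of_coset (h : Hyp G Ω a t Q) (hT : TwoSub a t Q S) {w x : G} (hw : w ∈ Ww a t)
    (hx : x ∈ S) (hc : x⁻¹ * (w * x * w⁻¹) ∈ Zz G a) : w * x = x * w :=
  hT.commute_of_double h.setup.odd_card hw.1.1 hx ((h.mem_Ww.1 hw).2 _ hc).symm

/-- An abelian `S` is centralised by `Ww`. -/
theorem Hyp.Ww_centralizes (h : Hyp G Ω a t Q) (hT : TwoSub a t Q S)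
    (hab : ∀ x ∈ S, ∀ y ∈ S, x * y = y * x) {w x : G} (hw : w ∈ Ww a t) (hx : x ∈ S) :
    w * x = x * w := by
  obtain ⟨i, hi⟩ := hT.two ⟨x, hx⟩
  have hi' : x ^ 2 ^ i = 1 := congrArg Subtype.val hi
  clear hi
  induction i generalizing x with
  | zero => rw [pow_zero, pow_one] at hi'; rw [hi', one_mul, mul_one]
  | succ i ih =>
    have h2 : x ^ 2 ∈ S := pow_mem hx 2
    have hc := ih h2 (by rw [← pow_mul, ← pow_succ', hi'])
    have hcx : w * x * w⁻¹ ∈ S := hT.conj w hw.1.1 x hx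
    refine h.commute_of_coset hT hw hx (h.invol_of_sq hT (mul_mem (inv_mem hx) hcx) ?_)
    have e1 : (w * x * w⁻¹) * (w * x * w⁻¹) = x * x := by
      rw [show (w * x * w⁻¹) * (w * x * w⁻¹) = w * x ^ 2 * w⁻¹ by rw [pow_two]; group, hc,
        mul_inv_cancel_right, pow_two]
    calc x⁻¹ * (w * x * w⁻¹) * (x⁻¹ * (w * x * w⁻¹))
        = x⁻¹ * x⁻¹ * ((w * x * w⁻¹) * (w * x * w⁻¹)) := by
          have := hab _ (inv_mem hx) _ hcx
          calc x⁻¹ * (w * x * w⁻¹) * (x⁻¹ * (w * x * w⁻¹))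
              = x⁻¹ * ((w * x * w⁻¹) * x⁻¹) * (w * x * w⁻¹) := by simp only [mul_assoc]
            _ = x⁻¹ * (x⁻¹ * (w * x * w⁻¹)) * (w * x * w⁻¹) := by rw [← this]
            _ = _ := by simp only [mul_assoc]
      _ = 1 := by rw [e1]; group

theorem Hyp.isSuzuki (h : Hyp G Ω a t Q) (hT : TwoSub a t Q S)
    (hab : ¬ ∀ x ∈ S, ∀ y ∈ S, x * y = y * x) : Cfsg.IsSuzukiTwoGroup S := by
  classical
  obtain ⟨s, r, hs, hs1, -⟩ := h.exists_s
  obtain ⟨n, hn, hcard⟩ := h.two_pow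
  let c : Kk a t →* MulAut S :=
    { toFun := fun k =>
        { toFun := fun x => ⟨(k : G) * x * (k : G)⁻¹, hT.conj _ (h.Kk_le k.2) x x.2⟩
          invFun := fun x => ⟨(k : G)⁻¹ * x * (k : G)⁻¹⁻¹, hT.conj _ (inv_mem (h.Kk_le k.2)) x x.2⟩
          left_inv := fun x => Subtype.ext (by simp [mul_assoc])
          right_inv := fun x => Subtype.ext (by simp [mul_assoc])
          map_mul' := fun x y => Subtype.ext (by simp [mul_assoc]) }
      map_one' := MulEquiv.ext fun x => Subtype.ext (by simp)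
      map_mul' := fun k k' => MulEquiv.ext fun x => Subtype.ext (by simp [mul_assoc]) }
  haveI := h.isCyclic_Kk
  refine ⟨inferInstance, hT.two, ?_, ?_, c.range,
    isCyclic_of_surjective c.rangeRestrict c.rangeRestrict_surjective, ?_⟩
  · push Not at hab
    obtain ⟨x, hx, y, hy, hne⟩ := hab
    exact ⟨⟨x, hx⟩, ⟨y, hy⟩, fun e => hne (congrArg Subtype.val e)⟩
  · obtain ⟨u, hu, u', hu', hne⟩ := exists_two_invol h.setup h.two
    exact ⟨⟨u, hT.Zz_le (h.invol_iff.1 hu).1⟩, ⟨u', hT.Zz_le (h.invol_iff.1 hu').1⟩,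
      fun e => hne (congrArg Subtype.val e), fun e => hu.2.1 (congrArg Subtype.val e), Subtype.ext hu.2.2,
      fun e => hu'.2.1 (congrArg Subtype.val e), Subtype.ext hu'.2.2⟩
  · intro x y hx hx2 hy hy2
    have hx' : (x : G) ∈ Zz G a := h.invol_of_sq hT x.2 (congrArg Subtype.val hx2)
    have hy' : (y : G) ∈ Zz G a := h.invol_of_sq hT y.2 (congrArg Subtype.val hy2)
    have hx1 : (x : G) ≠ 1 := fun e => hx (Subtype.ext e)
    obtain ⟨k, hk, hke⟩ := h.Kk_trans hx' hx1 hy' (fun e => hy (Subtype.ext e))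
    refine ⟨⟨c ⟨k, hk⟩, _, rfl⟩, Subtype.ext hke, ?_⟩
    rintro ⟨_, ⟨k', rfl⟩⟩ hk'
    refine Subtype.ext (congrArg c (Subtype.ext ?_))
    have e : (k' : G) * x * (k' : G)⁻¹ = k * x * k⁻¹ := (congrArg Subtype.val hk').trans hke.symm
    have h1 := h.Kk_free (mul_mem (inv_mem hk) k'.2) (h.Zz_le hx') hx1 (by
      calc k⁻¹ * (k' : G) * x = k⁻¹ * ((k' : G) * x * (k' : G)⁻¹) * k' := by group
        _ = x * (k⁻¹ * k') := by rw [e]; group)
    exact (inv_mul_eq_one.1 h1).symm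

/-- The facts about a non-abelian `S`. -/
theorem Hyp.suzuki_facts (h : Hyp G Ω a t Q) (hT : TwoSub a t Q S)
    (hab : ¬ ∀ x ∈ S, ∀ y ∈ S, x * y = y * x) :
    (∀ x ∈ S, x * x ∈ Zz G a) ∧ (∀ x ∈ S, ∀ y ∈ S, x⁻¹ * y⁻¹ * x * y ∈ Zz G a) ∧
      (Nat.card S = Nat.card (Zz G a) ^ 2 ∨ Nat.card S = Nat.card (Zz G a) ^ 3) ∧
      ∀ x ∈ S, (∀ y ∈ S, x * y = y * x) → x ∈ Zz G a := by
  have hP := h.isSuzuki hT hab
  obtain ⟨hinv, hZ2⟩ := Cfsg.Agent.S1137.result hP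
  obtain ⟨hsq, hcm, hcard, -⟩ := Cfsg.Agent.S1138.result hP
  have hz : ∀ x : S, x ∈ Subgroup.center S → (x : G) ∈ Zz G a := fun x hx =>
    h.invol_of_sq hT x.2 (congrArg Subtype.val (hZ2 x hx))
  have hcz : Nat.card (Subgroup.center S) = Nat.card (Zz G a) :=
    Nat.card_congr
      ⟨fun x => ⟨x.1.1, hz x.1 x.2⟩,
        fun z => ⟨⟨z.1, hT.Zz_le z.2⟩, Subgroup.mem_center_iff.2 fun y =>
          Subtype.ext (h.Zz_central z.2 (hT.le y.2)).symm⟩,
        fun _ => rfl, fun _ => rfl⟩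
  rw [hcz] at hcard
  exact ⟨fun x hx => hz _ (hsq ⟨x, hx⟩), fun x hx y hy => hz _ (hcm ⟨x, hx⟩ ⟨y, hy⟩), hcard,
    fun x hx hc => hz ⟨x, hx⟩ (Subgroup.mem_center_iff.2 fun y => Subtype.ext (hc y y.2).symm)⟩

/-- An element of `Ww` centralising a point of `S` outside `Zz` centralises `S`. -/
theorem Hyp.Ww_fix_all (h : Hyp G Ω a t Q) (hT : TwoSub a t Q S) {w x : G} (hw : w ∈ Ww a t)
    (hx : x ∈ S) (hxZ : x ∉ Zz G a) (hc : w * x = x * w) : ∀ y ∈ S, w * y = y * w := by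
  by_cases hab : ∀ x ∈ S, ∀ y ∈ S, x * y = y * x
  · exact fun y hy => h.Ww_centralizes hT hab hw hy
  obtain ⟨hsq, hcm, -, -⟩ := h.suzuki_facts hT hab
  intro x₀ hx₀
  by_contra hne
  set y := x₀⁻¹ * (w * x₀ * w⁻¹) with hy
  have hyS : y ∈ S := mul_mem (inv_mem hx₀) (hT.conj w hw.1.1 x₀ hx₀)
  have hyw : w * y ≠ y * w := fun e => hne (hT.commute_of_double h.setup.odd_card hw.1.1 hx₀ e)
  have hyZ : y * y ≠ 1 := fun e => hyw ((h.mem_Ww.1 hw).2 _ (h.invol_of_sq hT hyS e)).symm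
  have hxx : x * x ≠ 1 := fun e => hxZ (h.invol_of_sq hT hx e)
  obtain ⟨k, hk, hke⟩ := h.Kk_trans (hsq x hx) hxx (hsq y hyS) hyZ
  set x' := k * x * k⁻¹ with hx'
  have hx'S : x' ∈ S := hT.conj k (h.Kk_le hk) x hx
  have hx'w : w * x' = x' * w := by
    have e1 := h.Ww_comm hw hk
    have e2 : k⁻¹ * w = w * k⁻¹ := h.Ww_comm hw (inv_mem hk)
    calc w * x' = (w * k) * x * k⁻¹ := by rw [hx']; group
      _ = k * (w * x) * k⁻¹ := by rw [← e1]; group
      _ = k * x * (w * k⁻¹) := by rw [hc]; group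
      _ = x' * w := by rw [← e2, hx']; group
  -- `x'` commutes with the commutator of `x₀` and `w`
  have hcom : x' * y = y * x' := by
    have hcw := (h.mem_Ww.1 hw).2 _ (hcm x' hx'S x₀ hx₀)
    have e1 : w * (x'⁻¹ * x₀⁻¹ * x' * x₀) * w⁻¹ = x'⁻¹ * x₀⁻¹ * x' * x₀ := by
      rw [← hcw, mul_inv_cancel_right]
    have e2 : w * x' * w⁻¹ = x' := by rw [hx'w, mul_inv_cancel_right]
    set u := w * x₀ * w⁻¹ with hu
    have e3 : x'⁻¹ * u⁻¹ * x' * u = x'⁻¹ * x₀⁻¹ * x' * x₀ := by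
      calc x'⁻¹ * u⁻¹ * x' * u = (w * x' * w⁻¹)⁻¹ * u⁻¹ * (w * x' * w⁻¹) * u := by rw [e2]
        _ = w * (x'⁻¹ * x₀⁻¹ * x' * x₀) * w⁻¹ := by rw [hu]; group
        _ = _ := e1
    have e4 : u⁻¹ * x' * u = x₀⁻¹ * x' * x₀ := by
      have := congrArg (x' * ·) e3
      simpa [mul_assoc] using this
    have e5 : y⁻¹ * (x₀⁻¹ * (x₀ * x' * x₀⁻¹) * x₀) * y = u⁻¹ * (x₀ * x' * x₀⁻¹) * u := by
      rw [hy]; group
    -- conjugation by `u` and by `x₀` agree on `x'` hence on its conjugates by central factors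
    have hz : x' * x₀ * x'⁻¹ * x₀⁻¹ ∈ Zz G a := by
      have := hcm x'⁻¹ (inv_mem hx'S) x₀⁻¹ (inv_mem hx₀)
      simpa using this
    have e6 : x₀ * x' * x₀⁻¹ = (x' * x₀ * x'⁻¹ * x₀⁻¹)⁻¹ * x' := by group
    have hzi := inv_mem hz
    set z := (x' * x₀ * x'⁻¹ * x₀⁻¹)⁻¹ with hzdef
    have hzu := h.Zz_central hzi (hT.le (hT.conj w hw.1.1 x₀ hx₀))
    have hzx := h.Zz_central hzi (hT.le hx₀)
    rw [← hu] at hzu
    have e7 : u⁻¹ * (z * x') * u = z * (u⁻¹ * x' * u) := by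
      calc u⁻¹ * (z * x') * u = u⁻¹ * (z * u) * (u⁻¹ * x' * u) := by group
        _ = _ := by rw [hzu]; group
    rw [e6, e7, e4] at e5
    have e8 : z * (x₀⁻¹ * x' * x₀) = x' := by
      calc z * (x₀⁻¹ * x' * x₀) = x₀⁻¹ * (x₀ * z) * x₀⁻¹ * (x' * x₀) := by group
        _ = x₀⁻¹ * (z * x') * x₀ := by rw [← hzx]; group
        _ = x₀⁻¹ * (x₀ * x' * x₀⁻¹) * x₀ := by rw [e6]
        _ = x' := by group
    rw [e8] at e5
    have e9 : x₀⁻¹ * (z * x') * x₀ = x' := by rw [← e6]; group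
    rw [e9] at e5
    calc x' * y = y * (y⁻¹ * x' * y) := by group
      _ = y * x' := by rw [e5]
  -- an involution outside `Zz`
  have hxy : (x'⁻¹ * y) * (x'⁻¹ * y) = 1 := by
    have e1 : y * x'⁻¹ = x'⁻¹ * y := ((Commute.inv_left (show Commute x' y from hcom)).eq).symm
    have e2 : x' * x' = y * y := by rw [hx', ← hke]; group
    calc (x'⁻¹ * y) * (x'⁻¹ * y) = x'⁻¹ * (y * x'⁻¹) * y := by group
      _ = (x' * x')⁻¹ * (y * y) := by rw [e1]; group
      _ = 1 := by rw [e2, inv_mul_cancel]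
  have hmem := h.invol_of_sq hT (mul_mem (inv_mem hx'S) hyS) hxy
  refine hyw ?_
  have e3 : w * (x'⁻¹ * y) = (x'⁻¹ * y) * w := ((h.mem_Ww.1 hw).2 _ hmem).symm
  calc w * y = w * x' * (x'⁻¹ * y) := by group
    _ = x' * (w * (x'⁻¹ * y)) := by rw [hx'w, mul_assoc]
    _ = y * w := by rw [e3]; group

/-- An element of `Kk * Ww` fixing a non-trivial coset of `Zz` in `S` lies in `Ww` and centralises `S`. -/
theorem Hyp.coset_fix (h : Hyp G Ω a t Q) (hT : TwoSub a t Q S) {k w x : G} (hk : k ∈ Kk a t)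
    (hw : w ∈ Ww a t) (hx : x ∈ S) (hxZ : x ∉ Zz G a)
    (hc : x⁻¹ * (k * w * x * (k * w)⁻¹) ∈ Zz G a) : k = 1 ∧ ∀ y ∈ S, w * y = y * w := by
  by_cases hk1 : k = 1
  · subst hk1
    rw [one_mul] at hc
    exact ⟨rfl, h.Ww_fix_all hT hw hx hxZ (h.commute_of_coset hT hw hx hc)⟩
  -- commutation with `k` is onto on `Zz`
  let φ : Zz G a → Zz G a := fun z =>
    ⟨(z : G)⁻¹ * (k * z * k⁻¹), mul_mem (inv_mem z.2) (h.Zz_conj (h.Kk_le hk).1 z.2)⟩
  have hφ : Function.Injective φ := by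
    intro z z' e
    have e' : (z : G)⁻¹ * (k * z * k⁻¹) = (z' : G)⁻¹ * (k * z' * k⁻¹) := congrArg Subtype.val e
    by_contra hne
    have e1 : k * ((z' : G) * (z : G)⁻¹) = ((z' : G) * (z : G)⁻¹) * k := by
      calc k * ((z' : G) * (z : G)⁻¹)
          = (z' : G) * ((z' : G)⁻¹ * (k * z' * k⁻¹)) * (k * z * k⁻¹)⁻¹ * k := by group
        _ = ((z' : G) * (z : G)⁻¹) * k := by rw [← e']; group
    refine hk1 (h.Kk_free hk (h.Zz_le (mul_mem z'.2 (inv_mem z.2))) ?_ e1)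
    rw [Ne, mul_inv_eq_one]
    exact fun e2 => hne (Subtype.ext e2).symm
  obtain ⟨z, hz⟩ := (Finite.injective_iff_surjective.1 hφ) ⟨_, hc⟩
  have hz' : (z : G)⁻¹ * (k * z * k⁻¹) = x⁻¹ * (k * w * x * (k * w)⁻¹) := congrArg Subtype.val hz
  have hzw : w * (z : G) * w⁻¹ = z := by rw [← (h.mem_Ww.1 hw).2 _ z.2, mul_inv_cancel_right]
  have h1 : k * w * (x * (z : G)⁻¹) = (x * (z : G)⁻¹) * (k * w) := by
    have hzx : (z : G)⁻¹ * x = x * (z : G)⁻¹ := h.Zz_central (inv_mem z.2) (hT.le hx)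
    calc k * w * (x * (z : G)⁻¹)
        = x * (x⁻¹ * (k * w * x * (k * w)⁻¹)) * (k * (w * (z : G) * w⁻¹) * k⁻¹)⁻¹ * (k * w) := by group
      _ = x * ((z : G)⁻¹ * (k * z * k⁻¹)) * (k * (z : G) * k⁻¹)⁻¹ * (k * w) := by rw [hzw, hz']
      _ = (x * (z : G)⁻¹) * (k * w) := by group
  have hne : x * (z : G)⁻¹ ≠ 1 := fun e => hxZ (by rw [mul_inv_eq_one] at e; rw [e]; exact z.2)
  exact absurd (h.eq_one_of_commute hk hw (mul_mem (hT.le hx) (inv_mem (h.Zz_le z.2))) hne h1) hk1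

/-- `(q - 1) |Ww|` divides `(|S : Zz| - 1) |C_Ww(S)|` for non-abelian `S`. -/
theorem Hyp.card_Ww_dvd_aux (h : Hyp G Ω a t Q) (hT : TwoSub a t Q S)
    (hab : ¬ ∀ x ∈ S, ∀ y ∈ S, x * y = y * x) :
    Nat.card (Kk a t) * Nat.card (Ww a t) ∣
      (Nat.card S / Nat.card (Zz G a) - 1) *
        Nat.card (Ww a t ⊓ Subgroup.centralizer (S : Set G) : Subgroup G) := by
  classical
  obtain ⟨-, hcm, -, -⟩ := h.suzuki_facts hT hab
  let H : Subgroup G :=
    { carrier := {g | ∃ k ∈ Kk a t, ∃ w ∈ Ww a t, g = k * w}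
      one_mem' := ⟨1, one_mem _, 1, one_mem _, (one_mul 1).symm⟩
      mul_mem' := by
        rintro _ _ ⟨k, hk, w, hw, rfl⟩ ⟨k', hk', w', hw', rfl⟩
        refine ⟨k * k', mul_mem hk hk', w * w', mul_mem hw hw', ?_⟩
        calc k * w * (k' * w') = k * (w * k') * w' := by group
          _ = k * k' * (w * w') := by rw [← h.Ww_comm hw hk']; group
      inv_mem' := by
        rintro _ ⟨k, hk, w, hw, rfl⟩
        exact ⟨k⁻¹, inv_mem hk, w⁻¹, inv_mem hw, by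
          rw [mul_inv_rev, h.Ww_comm (inv_mem hw) (inv_mem hk)]⟩ }
  have hHD : H ≤ Dd a t := by
    rintro _ ⟨k, hk, w, hw, rfl⟩
    exact mul_mem (h.Kk_le hk) hw.1.1
  have hcardH : Nat.card H = Nat.card (Kk a t) * Nat.card (Ww a t) := by
    rw [← Nat.card_prod]
    refine (Nat.card_congr (Equiv.ofBijective
      (fun p : Kk a t × Ww a t => (⟨(p.1 : G) * p.2, p.1, p.1.2, p.2, p.2.2, rfl⟩ : H))
      ⟨fun p p' e => ?_, ?_⟩)).symm
    · have e' : (p.1 : G) * p.2 = p'.1 * p'.2 := congrArg Subtype.val e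
      have h1 : (p'.1 : G)⁻¹ * p.1 = (p'.2 : G) * (p.2 : G)⁻¹ := by
        rw [eq_mul_inv_iff_mul_eq, mul_assoc, e', inv_mul_cancel_left]
      have h2 : (p'.1 : G)⁻¹ * p.1 = 1 := h.Kk_inf_Vv (mul_mem (inv_mem p'.1.2) p.1.2)
        (h1 ▸ (mul_mem p'.2.2 (inv_mem p.2.2)).1)
      have h3 : (p.1 : G) = p'.1 := (inv_mul_eq_one.1 h2).symm
      exact Prod.ext (Subtype.ext h3) (Subtype.ext (mul_left_cancel (h3 ▸ e')))
    · rintro ⟨_, k, hk, w, hw, rfl⟩
      exact ⟨(⟨k, hk⟩, ⟨w, hw⟩), rfl⟩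
  haveI hN : ((Zz G a).subgroupOf S).Normal := ⟨fun z hz g => by
    show (g : G) * (z : G) * (g : G)⁻¹ ∈ Zz G a
    have hz' : (z : G) ∈ Zz G a := hz
    rw [show (g : G) * (z : G) = (z : G) * g from (h.Zz_central hz' (hT.le g.2)).symm,
      mul_inv_cancel_right]
    exact hz'⟩
  let T := {c : S ⧸ (Zz G a).subgroupOf S // c ≠ 1}
  let cj : H → S → S := fun g x => ⟨(g : G) * x * (g : G)⁻¹, hT.conj _ (hHD g.2) x x.2⟩
  have hcj : ∀ g : H, ∀ x y : S, (x : S ⧸ (Zz G a).subgroupOf S) = y →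
      (cj g x : S ⧸ (Zz G a).subgroupOf S) = cj g y := by
    intro g x y e
    rw [QuotientGroup.eq] at e ⊢
    show ((g : G) * x * (g : G)⁻¹)⁻¹ * ((g : G) * y * (g : G)⁻¹) ∈ Zz G a
    rw [show ((g : G) * x * (g : G)⁻¹)⁻¹ * ((g : G) * y * (g : G)⁻¹) =
      (g : G) * ((x : G)⁻¹ * y) * (g : G)⁻¹ by group]
    exact h.Zz_conj (hHD g.2).1 e
  have hne : ∀ (g : H) (x : S), (x : S ⧸ (Zz G a).subgroupOf S) ≠ 1 →
      (cj g x : S ⧸ (Zz G a).subgroupOf S) ≠ 1 := by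
    intro g x hx e
    refine hx ?_
    rw [QuotientGroup.eq_one_iff] at e ⊢
    show (x : G) ∈ Zz G a
    have h1 := h.Zz_conj (inv_mem (hHD g.2).1) (show (g : G) * x * (g : G)⁻¹ ∈ Zz G a from e)
    rwa [show (g : G)⁻¹ * ((g : G) * x * (g : G)⁻¹) * (g : G)⁻¹⁻¹ = (x : G) by group] at h1
  letI : MulAction H T :=
    { smul := fun g c => ⟨(cj g c.1.out : S ⧸ (Zz G a).subgroupOf S),
        hne g _ (by rw [QuotientGroup.out_eq']; exact c.2)⟩
      one_smul := fun c => Subtype.ext (by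
        show (cj 1 c.1.out : S ⧸ (Zz G a).subgroupOf S) = c.1
        rw [show cj 1 c.1.out = c.1.out from Subtype.ext (by simp [cj]), QuotientGroup.out_eq'])
      mul_smul := fun g g' c => Subtype.ext (by
        show (cj (g * g') c.1.out : S ⧸ (Zz G a).subgroupOf S) =
          cj g ((cj g' c.1.out : S ⧸ (Zz G a).subgroupOf S)).out
        rw [hcj g _ _ (QuotientGroup.out_eq' (cj g' c.1.out : S ⧸ (Zz G a).subgroupOf S))]
        congr 1
        exact Subtype.ext (by simp [cj, mul_assoc])) }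
  set C := (Ww a t ⊓ Subgroup.centralizer (S : Set G) : Subgroup G) with hCdef
  have hCH : C ≤ H := fun c hc => ⟨1, one_mem _, c, hc.1, (one_mul c).symm⟩
  have hstab : ∀ c : T, Nat.card (MulAction.stabilizer H c) = Nat.card C := by
    intro c
    refine Nat.card_congr
      ⟨fun g => ⟨((g : H) : G), ?_⟩, fun g => ⟨⟨g, hCH g.2⟩, ?_⟩, fun _ => rfl, fun _ => rfl⟩
    · obtain ⟨k, hk, w, hw, e⟩ := (g : H).2
      have hg : (cj g.1 c.1.out : S ⧸ (Zz G a).subgroupOf S) = c.1.out := by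
        rw [QuotientGroup.out_eq']; exact congrArg Subtype.val g.2
      rw [eq_comm, QuotientGroup.eq] at hg
      have hg' : (c.1.out : G)⁻¹ * (((g : H) : G) * (c.1.out : G) * ((g : H) : G)⁻¹) ∈ Zz G a := hg
      rw [e] at hg' ⊢
      obtain ⟨rfl, hw'⟩ := h.coset_fix hT hk hw c.1.out.2 (fun hz => c.2 (by
        rw [← QuotientGroup.out_eq' c.1, QuotientGroup.eq_one_iff]; exact hz)) hg'
      rw [one_mul]
      exact ⟨hw, Subgroup.mem_centralizer_iff.2 fun y hy => (hw' y hy).symm⟩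
    · refine Subtype.ext ?_
      show (cj ⟨g, _⟩ c.1.out : S ⧸ (Zz G a).subgroupOf S) = c.1
      conv_rhs => rw [← QuotientGroup.out_eq' c.1]
      congr 1
      refine Subtype.ext ?_
      show (g : G) * (c.1.out : G) * (g : G)⁻¹ = c.1.out
      rw [← Subgroup.mem_centralizer_iff.1 g.2.2 _ c.1.out.2, mul_inv_cancel_right]
  have hT' : Nat.card T = Nat.card S / Nat.card (Zz G a) - 1 := by
    haveI := Fintype.ofFinite (S ⧸ (Zz G a).subgroupOf S)
    rw [Nat.card_eq_fintype_card, Fintype.card_subtype_compl, Fintype.card_subtype_eq,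
      Subgroup.card_eq_card_quotient_mul_card_subgroup ((Zz G a).subgroupOf S),
      Nat.card_congr (Subgroup.subgroupOfEquivOfLe hT.Zz_le).toEquiv,
      Nat.mul_div_cancel _ Nat.card_pos, Nat.card_eq_fintype_card]
  rw [← hcardH, ← hT']
  haveI := Fintype.ofFinite (Quotient (MulAction.orbitRel H T))
  rw [Nat.card_congr (MulAction.selfEquivSigmaOrbits H T), Nat.card_sigma, Finset.sum_mul]
  refine Finset.dvd_sum fun o _ => dvd_of_eq ?_
  rw [← hstab o.out, ← Nat.card_prod]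
  exact (Nat.card_congr (MulAction.orbitProdStabilizerEquivGroup H o.out)).symm

/-- `Ww` centralises `S` of order `q²`. -/
theorem Hyp.Ww_centralizes_sq (h : Hyp G Ω a t Q) (hT : TwoSub a t Q S)
    (hcard : Nat.card S = Nat.card (Zz G a) ^ 2) {w : G} (hw : w ∈ Ww a t) :
    w ∈ Subgroup.centralizer (S : Set G) := by
  by_cases hab : ∀ x ∈ S, ∀ y ∈ S, x * y = y * x
  · exact Subgroup.mem_centralizer_iff.2 fun y hy => (h.Ww_centralizes hT hab hw hy).symm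
  obtain ⟨n, hn, hq⟩ := h.two_pow
  have hK := h.card_Kk
  have h4 : 4 ≤ Nat.card (Zz G a) := by
    rw [hq]; exact (Nat.pow_le_pow_right (by norm_num) hn : 2 ^ 2 ≤ 2 ^ n)
  have h1 := h.card_Ww_dvd_aux hT hab
  rw [hcard, pow_two, Nat.mul_div_cancel _ (by omega : 0 < Nat.card (Zz G a)),
    show Nat.card (Zz G a) - 1 = Nat.card (Kk a t) by omega] at h1
  have h2 := Nat.le_of_dvd Nat.card_pos (Nat.dvd_of_mul_dvd_mul_left (by omega) h1)
  have e := Subgroup.eq_of_le_of_card_ge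
    (inf_le_left : Ww a t ⊓ Subgroup.centralizer (S : Set G) ≤ Ww a t) h2
  exact (e.symm ▸ hw : w ∈ Ww a t ⊓ Subgroup.centralizer (S : Set G)).2

/-- `|Ww : C_Ww(S)|` divides `q + 1` for `|S| = q³`. -/
theorem Hyp.card_Ww_dvd_cube (h : Hyp G Ω a t Q) (hT : TwoSub a t Q S)
    (hcard : Nat.card S = Nat.card (Zz G a) ^ 3) :
    Nat.card (Ww a t) ∣
      (Nat.card (Zz G a) + 1) *
        Nat.card (Ww a t ⊓ Subgroup.centralizer (S : Set G) : Subgroup G) := by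
  obtain ⟨n, hn, hq⟩ := h.two_pow
  have hK := h.card_Kk
  have h4 : 4 ≤ Nat.card (Zz G a) := by
    rw [hq]; exact (Nat.pow_le_pow_right (by norm_num) hn : 2 ^ 2 ≤ 2 ^ n)
  by_cases hab : ∀ x ∈ S, ∀ y ∈ S, x * y = y * x
  · rw [inf_eq_left.2 (show Ww a t ≤ Subgroup.centralizer (S : Set G) from fun w hw =>
      Subgroup.mem_centralizer_iff.2 fun y hy => (h.Ww_centralizes hT hab hw hy).symm)]
    exact dvd_mul_left _ _
  have h1 := h.card_Ww_dvd_aux hT hab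
  rw [hcard, show Nat.card (Zz G a) ^ 3 = Nat.card (Zz G a) ^ 2 * Nat.card (Zz G a) by ring,
    Nat.mul_div_cancel _ (by omega : 0 < Nat.card (Zz G a)),
    show Nat.card (Zz G a) ^ 2 - 1 = Nat.card (Kk a t) * (Nat.card (Zz G a) + 1) by
      rw [show Nat.card (Kk a t) = Nat.card (Zz G a) - 1 by omega, mul_comm, ← Nat.sq_sub_sq, one_pow],
    mul_assoc] at h1
  exact Nat.dvd_of_mul_dvd_mul_left (by omega) h1

end Cfsg.Lib.RankOneSuzuki
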