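import Mathlib

/-!
# Suzuki's rank-one theorem, Part B: two fixed-point tools

Fixed points of a permutation of prime order modulo the prime, and the non-trivial fixed point of an
automorphism normalising a fixed-point-free automorphism of odd prime order of an elementary abelian 2-group.
-/

set_option autoImplicit false
set_option linter.style.haveILetI false

namespace Cfsg.Lib.RankOneSuzuki

theorem zas_modEq_fixed {X : Type*} [Finite X] {ℓ : ℕ} (hℓ : ℓ.Prime) (σ : Equiv.Perm X)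
    (hσ : σ ^ ℓ = 1) : Nat.card X ≡ Nat.card {x : X // σ x = x} [MOD ℓ] := by
  haveI : Fact ℓ.Prime := ⟨hℓ⟩
  have hdvd : orderOf σ ∣ ℓ := orderOf_dvd_of_pow_eq_one hσ
  have hP : IsPGroup ℓ (Subgroup.zpowers σ) := by
    rcases hℓ.eq_one_or_self_of_dvd _ hdvd with e | e
    · exact IsPGroup.of_card (n := 0) (by rw [Nat.card_zpowers, e, pow_zero])
    · exact IsPGroup.of_card (n := 1) (by rw [Nat.card_zpowers, e, pow_one])
  refine (hP.card_modEq_card_fixedPoints X).trans (congrArg (· % ℓ) (Nat.card_congr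
    (Equiv.subtypeEquivRight fun x => ⟨fun h => h ⟨σ, Subgroup.mem_zpowers σ⟩, fun h g => ?_⟩)))
  obtain ⟨j, hj⟩ := g.2
  show (g : Equiv.Perm X) x = x
  rw [← hj]
  exact Function.IsFixedPt.perm_zpow h j

theorem zas_exists_fixed {X : Type*} [Finite X] {ℓ : ℕ} (hℓ : ℓ.Prime) (σ : Equiv.Perm X)
    (hσ : σ ^ ℓ = 1) (hX : ¬ ℓ ∣ Nat.card X) : ∃ x, σ x = x := by
  by_contra hne
  push Not at hne
  haveI : IsEmpty {x : X // σ x = x} := ⟨fun x => hne x x.2⟩
  have h := zas_modEq_fixed hℓ σ hσ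
  rw [Nat.card_of_isEmpty (α := {x : X // σ x = x})] at h
  exact hX (Nat.modEq_zero_iff_dvd.1 h)

open Multiplicative in
theorem zas_fixed_of_fpf {E : Type*} [CommGroup E] [Nontrivial E] (hE : ∀ x : E, x * x = 1)
    {r ℓ : ℕ} [Fact r.Prime] (hr2 : Odd r) (hℓ : ℓ.Prime) (ρ : Multiplicative (ZMod r) →* MulAut E)
    (hfpf : ∀ x : E, ρ (ofAdd 1) x = x → x = 1) (V : MulAut E) (hV : V ^ ℓ = 1)
    (c : ZMod r) (hc : ∀ a : ZMod r, V * ρ (ofAdd a) * V⁻¹ = ρ (ofAdd (c * a))) (hc1 : c ≠ 1) :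
    ∃ x : E, x ≠ 1 ∧ V x = x := by
  classical
  haveI : NeZero r := ⟨(Fact.out : r.Prime).ne_zero⟩
  by_contra hne
  push Not at hne
  have hfix : ∀ x : E, V x = x → x = 1 := fun x hx => by_contra fun h => hne x h hx
  have hpow : ∀ (j : ℕ) (a : ZMod r), V ^ j * ρ (ofAdd a) = ρ (ofAdd (c ^ j * a)) * V ^ j := by
    intro j
    induction j with
    | zero => intro a; simp
    | succ j ih =>
      intro a
      rw [pow_succ', mul_assoc, ih a, ← mul_assoc, mul_inv_eq_iff_eq_mul.1 (hc _), mul_assoc,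
        pow_succ' c, mul_assoc c]
  -- the norm of `V` vanishes
  have hN : ∀ x : E, ∏ j ∈ Finset.range ℓ, (V ^ j) x = 1 := by
    intro x
    refine hfix _ ?_
    rw [map_prod]
    have e : ∀ j, V ((V ^ j) x) = (V ^ (j + 1)) x := fun j => by rw [pow_succ']; rfl
    simp only [e]
    refine mul_right_cancel (b := (V ^ 0) x) ?_
    rw [← Finset.prod_range_succ' (fun j => (V ^ j) x), Finset.prod_range_succ, hV, pow_zero]
  -- the norm of `ρ` vanishes
  have hR : ∀ y : E, ∏ a : ZMod r, ρ (ofAdd a) y = 1 := by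
    intro y
    refine hfpf _ ?_
    rw [map_prod]
    refine Fintype.prod_equiv (Equiv.addLeft (1 : ZMod r)) _ _ fun a => ?_
    show (ρ (ofAdd 1) * ρ (ofAdd a)) y = _
    rw [← map_mul, ← ofAdd_add]
    rfl
  -- `c ^ j` is not `1` below `ℓ`
  have hcl : c ^ ℓ = 1 := by
    by_contra hcl
    have h1 := hpow ℓ 1
    rw [hV, one_mul, mul_one, mul_one] at h1
    have h2 : ρ (ofAdd (c ^ ℓ - 1)) = 1 := by
      rw [ofAdd_sub, map_div, ← h1, div_self']
    obtain ⟨x, hx⟩ := exists_ne (1 : E)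
    refine hx (hfpf x ?_)
    have h3 : (ofAdd (1 : ZMod r)) = (ofAdd (c ^ ℓ - 1)) ^ ((c ^ ℓ - 1)⁻¹ : ZMod r).val := by
      rw [← ofAdd_nsmul, nsmul_eq_mul, ZMod.natCast_zmod_val, inv_mul_cancel₀ (sub_ne_zero.2 hcl)]
    rw [h3, map_pow, h2, one_pow]
    rfl
  have hcj : ∀ j, 0 < j → j < ℓ → c ^ j ≠ 1 := by
    intro j h0 hlt e
    have h1 : orderOf c ∣ 1 := by
      rw [← (hℓ.coprime_iff_not_dvd.2 fun h => absurd (Nat.le_of_dvd h0 h) (by omega))]
      exact Nat.dvd_gcd (orderOf_dvd_of_pow_eq_one hcl) (orderOf_dvd_of_pow_eq_one e)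
    exact hc1 (orderOf_eq_one_iff.1 (Nat.dvd_one.1 h1))
  obtain ⟨x, hx⟩ := exists_ne (1 : E)
  have key : ∏ a : ZMod r, ρ (ofAdd a) (∏ j ∈ Finset.range ℓ, (V ^ j) (ρ (ofAdd (-a)) x)) = 1 :=
    Finset.prod_eq_one fun a _ => by rw [hN, map_one]
  simp only [map_prod] at key
  rw [Finset.prod_comm, ← Finset.prod_erase_mul (a := 0) _ _ (Finset.mem_range.2 hℓ.pos)] at key
  have h0 : ∏ j ∈ (Finset.range ℓ).erase 0,
      ∏ a : ZMod r, ρ (ofAdd a) ((V ^ j) (ρ (ofAdd (-a)) x)) = 1 := by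
    refine Finset.prod_eq_one fun j hj => ?_
    rw [Finset.mem_erase, Finset.mem_range] at hj
    have hd : (1 : ZMod r) - c ^ j ≠ 0 := sub_ne_zero.2 (Ne.symm (hcj j (by omega) hj.2))
    rw [← hR ((V ^ j) x)]
    refine Fintype.prod_equiv (Equiv.mulLeft₀ _ hd) _ _ fun a => ?_
    show ρ (ofAdd a) ((V ^ j * ρ (ofAdd (-a))) x) = ρ (ofAdd ((1 - c ^ j) * a)) ((V ^ j) x)
    rw [hpow]
    show (ρ (ofAdd a) * ρ (ofAdd (c ^ j * -a))) ((V ^ j) x) = _
    rw [← map_mul, ← ofAdd_add]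
    congr 3
    ring
  rw [h0, one_mul] at key
  have h1 : ∀ a : ZMod r, ρ (ofAdd a) ((V ^ 0) (ρ (ofAdd (-a)) x)) = x := fun a => by
    show (ρ (ofAdd a) * ρ (ofAdd (-a))) x = x
    rw [← map_mul, ← ofAdd_add, add_neg_cancel, ofAdd_zero, map_one]
    rfl
  simp only [h1, Finset.prod_const, Finset.card_univ, ZMod.card] at key
  obtain ⟨m, rfl⟩ := hr2
  rw [pow_succ, pow_mul, pow_two, hE, one_pow, one_mul] at key
  exact hx key

end Cfsg.Lib.RankOneSuzuki
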