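import Cfsg.Agent.Lib.RankOneSuzuki.SetupField
import Cfsg.Agent.Lib.RankOneSuzuki.SetupWbar
import Cfsg.Agent.Lib.RankOneSuzuki.ZasTools

/-!
# Suzuki's rank-one theorem, Part B: the centraliser in `Q` of an element of prime order of `Vv`

`Q` is a 2-group and `Ww` is trivial.  For `v` in `Vv` of prime order `ℓ` the centraliser of `v` in `Zz` has
order `q₀` with `q = q₀ ^ ℓ`.  If `Q` is abelian of order `q ^ m` then `|C_Q(v)| = q₀ ^ m`; if `|Q| = q ^ 3`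
then `|C_Q(v)| > q₀ ^ 2`, and `|C_Q(v)| = 8` for `q₀ = 2`, `ℓ = 3`.
-/

set_option autoImplicit false
set_option linter.unusedSectionVars false
set_option linter.style.haveILetI false

namespace Cfsg.Lib.RankOneSuzuki

open Cfsg Cfsg.Lib.Linear.RankOne

universe u v

/-- Cardinality from a surjection multiplicative on a subgroup. -/
theorem zas_card_of_surj {M : Type u} [Group M] [Finite M] {A B Z : Subgroup M} (f : M → M)
    (hmul : ∀ x ∈ A, ∀ y ∈ A, f (x * y) = f x * f y) (hmem : ∀ x ∈ A, f x ∈ Z)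
    (hsurj : ∀ z ∈ Z, ∃ x ∈ A, f x = z) (hBA : B ≤ A) (hker : ∀ x ∈ A, f x = 1 ↔ x ∈ B) :
    Nat.card A = Nat.card B * Nat.card Z := by
  let φ : A →* Z := MonoidHom.mk' (fun x => ⟨f x, hmem x x.2⟩) fun x y => Subtype.ext (hmul x x.2 y y.2)
  have hs : Function.Surjective φ := fun z => by
    obtain ⟨x, hx, e⟩ := hsurj z z.2
    exact ⟨⟨x, hx⟩, Subtype.ext e⟩
  rw [Subgroup.card_eq_card_quotient_mul_card_subgroup φ.ker,
    Nat.card_congr (QuotientGroup.quotientKerEquivOfSurjective φ hs).toEquiv, mul_comm]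
  congr 1
  refine Nat.card_congr ⟨fun x => ⟨x.1.1, (hker _ x.1.2).1 (congrArg Subtype.val x.2)⟩,
    fun x => ⟨⟨x.1, hBA x.2⟩, Subtype.ext ((hker _ (hBA x.2)).2 x.2)⟩, fun _ => rfl, fun _ => rfl⟩

variable {G : Type u} {Ω : Type v} [Group G] [MulAction G Ω]

/-- The elements of `Q` killed by `2 ^ j`, for an abelian `Q`. -/
def zasLayer {Q : Subgroup G} (hab : ∀ x ∈ Q, ∀ y ∈ Q, x * y = y * x) (j : ℕ) : Subgroup G where
  carrier := {x | x ∈ Q ∧ x ^ 2 ^ j = 1}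
  one_mem' := ⟨one_mem Q, one_pow _⟩
  mul_mem' {x y} hx hy := ⟨mul_mem hx.1 hy.1, by
    rw [(show Commute x y from hab x hx.1 y hy.1).mul_pow, hx.2, hy.2, one_mul]⟩
  inv_mem' {x} hx := ⟨inv_mem hx.1, by rw [inv_pow, hx.2, inv_one]⟩

theorem mem_zasLayer {Q : Subgroup G} {hab : ∀ x ∈ Q, ∀ y ∈ Q, x * y = y * x} {j : ℕ} {x : G} :
    x ∈ zasLayer hab j ↔ x ∈ Q ∧ x ^ 2 ^ j = 1 := Iff.rfl

/-- A set normalised by `v` of order prime to `orderOf v` has a point centralised by `v`. -/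
theorem zas_exists_commute [Finite G] {v : G} {ℓ : ℕ} (hℓ : ℓ.Prime) (hv : v ^ ℓ = 1) (X : Set G)
    (hX : ∀ x ∈ X, v * x * v⁻¹ ∈ X) (hcard : ¬ ℓ ∣ Nat.card X) : ∃ x ∈ X, v * x = x * v := by
  let σ : Equiv.Perm X := Equiv.ofBijective (fun x => ⟨v * x * v⁻¹, hX x x.2⟩)
    (Finite.injective_iff_bijective.1 fun x y e => Subtype.ext
      (mul_left_cancel (mul_right_cancel (congrArg Subtype.val e : v * x.1 * v⁻¹ = v * y.1 * v⁻¹))))
  have hj : ∀ (j : ℕ) (x : X), ((σ ^ j) x : G) = v ^ j * x * (v ^ j)⁻¹ := by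
    intro j
    induction j with
    | zero => intro x; simp
    | succ j ih =>
      intro x
      rw [pow_succ', Equiv.Perm.mul_apply]
      show v * ((σ ^ j) x : G) * v⁻¹ = _
      rw [ih, pow_succ']
      group
  obtain ⟨x, hx⟩ := zas_exists_fixed hℓ σ (Equiv.ext fun x => Subtype.ext (by
    rw [hj, hv, inv_one, one_mul, mul_one]; rfl)) hcard
  exact ⟨x, x.2, mul_inv_eq_iff_eq_mul.1 (congrArg Subtype.val hx)⟩

/-- The number of centralised points of a set normalised by `v`, modulo the order of `v`. -/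
theorem zas_modEq_commute [Finite G] {v : G} {ℓ : ℕ} (hℓ : ℓ.Prime) (hv : v ^ ℓ = 1) (X : Set G)
    (hX : ∀ x ∈ X, v * x * v⁻¹ ∈ X) :
    Nat.card X ≡ Nat.card {x : G | x ∈ X ∧ v * x = x * v} [MOD ℓ] := by
  let σ : Equiv.Perm X := Equiv.ofBijective (fun x => ⟨v * x * v⁻¹, hX x x.2⟩)
    (Finite.injective_iff_bijective.1 fun x y e => Subtype.ext
      (mul_left_cancel (mul_right_cancel (congrArg Subtype.val e : v * x.1 * v⁻¹ = v * y.1 * v⁻¹))))
  have hj : ∀ (j : ℕ) (x : X), ((σ ^ j) x : G) = v ^ j * x * (v ^ j)⁻¹ := by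
    intro j
    induction j with
    | zero => intro x; simp
    | succ j ih =>
      intro x
      rw [pow_succ', Equiv.Perm.mul_apply]
      show v * ((σ ^ j) x : G) * v⁻¹ = _
      rw [ih, pow_succ']
      group
  refine (zas_modEq_fixed hℓ σ (Equiv.ext fun x => Subtype.ext (by
    rw [hj, hv, inv_one, one_mul, mul_one]; rfl))).trans (congrArg (· % ℓ) (Nat.card_congr
      ⟨fun x => ⟨x.1.1, x.1.2, mul_inv_eq_iff_eq_mul.1 (congrArg Subtype.val x.2)⟩,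
       fun x => ⟨⟨x.1, x.2.1⟩, Subtype.ext (mul_inv_eq_iff_eq_mul.2 x.2.2)⟩,
       fun _ => rfl, fun _ => rfl⟩))

variable [Finite G] [FaithfulSMul G Ω] {a : Ω} {t : G} {Q : Subgroup G}

theorem Hyp.zas_twoSub (h : Hyp G Ω a t Q) (hQ : IsPGroup 2 Q) : TwoSub a t Q Q :=
  ⟨le_rfl, h.Zz_le, hQ, fun d hd x hx => h.setup.conj_mem d hd.1 x hx⟩

theorem Hyp.zas_card_centralizer_Zz (h : Hyp G Ω a t Q) (hW : Ww a t = ⊥) {n : ℕ} {F : Type} [Field F]
    [Fintype F] (M : FieldModel a t n F) {v : G} (hv : v ∈ Vv a t) {ℓ : ℕ} (hℓ : 0 < ℓ)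
    (hord : orderOf v = ℓ) :
    ∃ k : ℕ, n = k * ℓ ∧ Nat.card (Zz G a ⊓ Subgroup.centralizer {v} : Subgroup G) = 2 ^ k := by
  classical
  set d : Dd a t := ⟨v, hv.1⟩ with hd
  set τ := M.σ d with hτ
  have hdℓ : d ^ ℓ = 1 := Subtype.ext (by rw [SubmonoidClass.coe_pow, ← hord]; exact pow_orderOf_eq_one v)
  have hτo : orderOf τ = ℓ := by
    rw [orderOf_eq_iff hℓ]
    refine ⟨by rw [hτ, ← map_pow, hdℓ, map_one], fun j hj hj0 e => ?_⟩
    have hvj : ((d ^ j : Dd a t) : G) ∈ Vv a t := by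
      rw [SubmonoidClass.coe_pow]; exact pow_mem hv j
    have hvW := (M.σ_ker (d ^ j) hvj).1 (by rw [map_pow]; exact e)
    rw [hW, Subgroup.mem_bot, SubmonoidClass.coe_pow] at hvW
    have := orderOf_le_of_pow_eq_one hj0 (show v ^ j = 1 from hvW)
    omega
  haveI : Finite (F ≃+* F) := Finite.of_injective (fun f : F ≃+* F => (f : F → F)) DFunLike.coe_injective
  letI : Fintype (Subgroup.zpowers τ) := Fintype.ofFinite _
  haveI : FaithfulSMul (Subgroup.zpowers τ) F := ⟨fun {x y} e => Subtype.ext (RingEquiv.ext e)⟩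
  have h1 := FixedPoints.finrank_eq_card (Subgroup.zpowers τ) F
  rw [← Nat.card_eq_fintype_card, Nat.card_zpowers, hτo] at h1
  have h2 := Module.natCard_eq_pow_finrank (K := FixedPoints.subfield (Subgroup.zpowers τ) F) (V := F)
  rw [h1, M.card] at h2
  obtain ⟨k, -, hk⟩ := (Nat.dvd_prime_pow Nat.prime_two).1
    (h2 ▸ dvd_pow_self _ hℓ.ne' :
      Nat.card (FixedPoints.subfield (Subgroup.zpowers τ) F) ∣ 2 ^ n)
  refine ⟨k, Nat.pow_right_injective le_rfl (a₁ := n) (a₂ := k * ℓ) (by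
    show (2 : ℕ) ^ n = 2 ^ (k * ℓ)
    rw [h2, hk, ← pow_mul]), ?_⟩
  rw [← hk]
  have hτe : ∀ z : Zz G a, v * (z : G) * v⁻¹ = z ↔ τ (M.e z) = M.e z := by
    intro z
    have hs : ((M.s : Zz G a) : G) = v * M.s * v⁻¹ := by
      have h3 : v ∈ Dd a t ⊓ Subgroup.centralizer {((M.s : Zz G a) : G)} := M.centralizer_s ▸ hv
      rw [Subgroup.mem_centralizer_singleton_iff.1 h3.2, mul_inv_cancel_right]
    have h4 := M.conj_D d z ⟨_, h.Zz_conj hv.1.1 z.2⟩ M.s rfl hs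
    rw [M.map_s, one_mul] at h4
    constructor
    · intro e
      have e' : (⟨_, h.Zz_conj hv.1.1 z.2⟩ : Zz G a) = z := Subtype.ext e
      rw [e'] at h4
      exact h4.symm
    · intro e
      exact congrArg Subtype.val (M.e.injective (h4.trans e) : (⟨_, h.Zz_conj hv.1.1 z.2⟩ : Zz G a) = z)
  refine Nat.card_congr
    ⟨fun z => ⟨M.e ⟨z.1, z.2.1⟩, ?_⟩,
     fun x => ⟨(M.e.symm x.1 : G), (M.e.symm x.1).2, ?_⟩, fun z => ?_, fun x => ?_⟩
  · rintro ⟨g, hg⟩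
    obtain ⟨j, rfl⟩ := hg
    have e : τ (M.e ⟨z.1, z.2.1⟩) = M.e ⟨z.1, z.2.1⟩ := (hτe ⟨z.1, z.2.1⟩).1
      (mul_inv_eq_iff_eq_mul.2 (Subgroup.mem_centralizer_singleton_iff.1 z.2.2).symm)
    have hstab : τ ∈ MulAction.stabilizer (F ≃+* F) (M.e ⟨z.1, z.2.1⟩) := e
    exact Subgroup.zpow_mem _ hstab j
  · refine Subgroup.mem_centralizer_singleton_iff.2 (mul_inv_eq_iff_eq_mul.1 ((hτe _).2 ?_)).symm
    rw [M.e.apply_symm_apply]
    exact x.2 ⟨τ, Subgroup.mem_zpowers τ⟩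
  · exact Subtype.ext (by simp)
  · exact Subtype.ext (by simp)

/-- The orders in an abelian `Q`. -/
theorem Hyp.zas_abelian (h : Hyp G Ω a t Q) (hQ : IsPGroup 2 Q) (hab : ∀ x ∈ Q, ∀ y ∈ Q, x * y = y * x) :
    ∃ m : ℕ, 1 ≤ m ∧ Nat.card Q = Nat.card (Zz G a) ^ m ∧
      ∀ v ∈ Dd a t, ∀ ℓ : ℕ, ℓ.Prime → Odd ℓ → v ^ ℓ = 1 →
        Nat.card (Q ⊓ Subgroup.centralizer {v} : Subgroup G) =
          Nat.card (Zz G a ⊓ Subgroup.centralizer {v} : Subgroup G) ^ m := by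
  classical
  obtain ⟨N, hN⟩ := hQ.exists_card_eq
  obtain ⟨n, hn, hq⟩ := h.two_pow
  have key : ∀ j, ∃ i : ℕ, (1 ≤ j → 1 ≤ i) ∧ Nat.card (zasLayer hab j) = Nat.card (Zz G a) ^ i ∧
      ∀ v ∈ Dd a t, ∀ ℓ : ℕ, ℓ.Prime → Odd ℓ → v ^ ℓ = 1 →
        Nat.card (zasLayer hab j ⊓ Subgroup.centralizer {v} : Subgroup G) =
          Nat.card (Zz G a ⊓ Subgroup.centralizer {v} : Subgroup G) ^ i := by
    intro j
    induction j with
    | zero =>
      have e : zasLayer hab 0 = ⊥ := (Subgroup.eq_bot_iff_forall _).2 fun x hx => by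
        simpa using (mem_zasLayer.1 hx).2
      refine ⟨0, fun h => h, by rw [e, Subgroup.card_bot, pow_zero], fun v _ ℓ _ _ _ => ?_⟩
      rw [e, bot_inf_eq, Subgroup.card_bot, pow_zero]
    | succ j ih =>
      obtain ⟨i, hi1, hi, hiv⟩ := ih
      have hle : zasLayer hab j ≤ zasLayer hab (j + 1) := fun x hx => ⟨hx.1, by
        rw [pow_succ, pow_mul, hx.2, one_pow]⟩
      have hf : ∀ x ∈ zasLayer hab (j + 1), x ^ 2 ^ j ∈ Zz G a := fun x hx => by
        refine h.mem_Zz.2 ⟨pow_mem (h.setup.le hx.1) _, ?_⟩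
        rw [← pow_add, ← two_mul, ← pow_succ', hx.2]
      by_cases hex : ∃ x ∈ zasLayer hab (j + 1), x ^ 2 ^ j ≠ 1
      swap
      · push Not at hex
        have e : zasLayer hab (j + 1) = zasLayer hab j := le_antisymm (fun x hx => ⟨hx.1, hex x hx⟩) hle
        refine ⟨i, fun _ => ?_, by rw [e, hi], fun v hv ℓ hℓ hℓo hvl => by rw [e, hiv v hv ℓ hℓ hℓo hvl]⟩
        rcases Nat.eq_zero_or_pos j with rfl | hj
        · exfalso
          obtain ⟨s, r, hs, hs1, -⟩ := h.exists_s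
          exact hs1 (by
            have := hex s ⟨h.Zz_le hs, by rw [zero_add, pow_one, pow_two]; exact (h.mem_Zz.1 hs).2⟩
            simpa using this)
        · exact hi1 hj
      obtain ⟨x₀, hx₀, hx₀1⟩ := hex
      have hmul : ∀ x ∈ zasLayer hab (j + 1), ∀ y ∈ zasLayer hab (j + 1),
          (x * y) ^ 2 ^ j = x ^ 2 ^ j * y ^ 2 ^ j :=
        fun x hx y hy => (show Commute x y from hab x hx.1 y hy.1).mul_pow _
      have hsurj : ∀ z ∈ Zz G a, ∃ x ∈ zasLayer hab (j + 1), x ^ 2 ^ j = z := by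
        intro z hz
        by_cases hz1 : z = 1
        · exact ⟨1, one_mem _, by rw [hz1, one_pow]⟩
        obtain ⟨k, hk, hke⟩ := h.Kk_trans (hf x₀ hx₀) hx₀1 hz hz1
        refine ⟨k * x₀ * k⁻¹, ⟨h.setup.conj_mem k (h.Kk_le hk).1 x₀ hx₀.1, ?_⟩, ?_⟩
        · rw [conj_pow, hx₀.2, mul_one, mul_inv_cancel]
        · rw [conj_pow, hke]
      refine ⟨i + 1, fun _ => Nat.succ_pos i, ?_, fun v hv ℓ hℓ hℓo hvl => ?_⟩
      · rw [zas_card_of_surj (fun x => x ^ 2 ^ j) hmul hf hsurj hle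
          (fun x hx => ⟨fun e => ⟨hx.1, e⟩, fun e => e.2⟩), hi, pow_succ]
      · rw [zas_card_of_surj (A := zasLayer hab (j + 1) ⊓ Subgroup.centralizer {v})
          (B := zasLayer hab j ⊓ Subgroup.centralizer {v}) (Z := Zz G a ⊓ Subgroup.centralizer {v})
          (fun x => x ^ 2 ^ j) (fun x hx y hy => hmul x hx.1 y hy.1)
          (fun x hx => ⟨hf x hx.1, pow_mem hx.2 _⟩) ?_ (inf_le_inf_right _ hle)
          (fun x hx => ⟨fun e => ⟨⟨hx.1.1, e⟩, hx.2⟩, fun e => e.1.2⟩), hiv v hv ℓ hℓ hℓo hvl, pow_succ]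
        intro z hz
        obtain ⟨x₁, hx₁, hx₁e⟩ := hsurj z hz.1
        have hzc : v * z * v⁻¹ = z := mul_inv_eq_iff_eq_mul.2 (Subgroup.mem_centralizer_singleton_iff.1 hz.2).symm
        obtain ⟨x, hx, hxc⟩ := zas_exists_commute hℓ hvl
          {x | x ∈ zasLayer hab (j + 1) ∧ x ^ 2 ^ j = z} (fun x hx =>
            ⟨⟨h.setup.conj_mem v hv.1 x hx.1.1, by rw [conj_pow, hx.1.2, mul_one, mul_inv_cancel]⟩,
              by rw [conj_pow, hx.2, hzc]⟩) (by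
            have e : Nat.card {x | x ∈ zasLayer hab (j + 1) ∧ x ^ 2 ^ j = z} = Nat.card (zasLayer hab j) :=
              Nat.card_congr ⟨fun x => ⟨x₁⁻¹ * x.1, mem_zasLayer.2 ⟨mul_mem (inv_mem hx₁.1) x.2.1.1, by
                  rw [hmul _ (inv_mem hx₁) _ x.2.1, inv_pow, hx₁e, x.2.2, inv_mul_cancel]⟩⟩,
                fun y => ⟨x₁ * y.1, mul_mem hx₁ (hle y.2), by
                  rw [hmul _ hx₁ _ (hle y.2), hx₁e, (mem_zasLayer.1 y.2).2, mul_one]⟩,
                fun x => Subtype.ext (mul_inv_cancel_left x₁ x.1),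
                fun y => Subtype.ext (inv_mul_cancel_left x₁ y.1)⟩
            rw [e, hi, hq, ← pow_mul]
            intro hdvd
            have := (Nat.prime_dvd_prime_iff_eq hℓ Nat.prime_two).1 (hℓ.dvd_of_dvd_pow hdvd)
            rw [this] at hℓo
            exact absurd hℓo (by decide))
        exact ⟨x, ⟨hx.1, Subgroup.mem_centralizer_singleton_iff.2 hxc.symm⟩, hx.2⟩
  obtain ⟨i, hi1, hi, hiv⟩ := key (N + 1)
  have e : zasLayer hab (N + 1) = Q := le_antisymm (fun x hx => hx.1) fun x hx => ⟨hx, by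
    have h1 : x ^ Nat.card Q = 1 := congrArg Subtype.val (pow_card_eq_one' (x := (⟨x, hx⟩ : Q)))
    rw [hN] at h1
    rw [pow_succ, pow_mul, h1, one_pow]⟩
  rw [e] at hi hiv
  exact ⟨i, hi1 (Nat.succ_pos N), hi, hiv⟩

end Cfsg.Lib.RankOneSuzuki
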