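import Cfsg.Agent.Lib.RankOneSuzuki.ZasProj
import Cfsg.Agent.Lib.RankOneSuzuki.ZasFix
import Cfsg.Agent.Lib.RankOneSuzuki.Concl
import Cfsg.Agent.Lib.Perm.SuzUnique.Zassenhaus
import Cfsg.Agent.S0338
import Cfsg.Agent.S0340
import Cfsg.Agent.S0885

/-!
# Suzuki's rank-one theorem, Part B: the normal subgroup of index `|Vv|`

The kernel of a `ZasHom` is a simple Zassenhaus group on `Ω`, so it is `PSL₂(q)` or a Suzuki group and
`|Q|` is `q` or `q ^ 2`.
-/

set_option autoImplicit false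
set_option linter.unusedSectionVars false
set_option linter.style.haveILetI false

namespace Cfsg.Lib.RankOneSuzuki

open Cfsg Cfsg.Lib.Linear.RankOne

universe u v

/-- A sharply three-transitive faithful action on `q + 1` points, `q` a power of two, gives `PSL(2, q)`. -/
theorem zas_psl_of_sharp {G : Type u} {Ω : Type v} [Group G] [MulAction G Ω] [FaithfulSMul G Ω] [Fintype Ω]
    {n : ℕ} (hn : 2 ≤ n) (hcard : Fintype.card Ω = 2 ^ n + 1)
    (htr : MulAction.IsMultiplyPretransitive G Ω 3)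
    (hsharp : ∀ g : G, ∀ a b c : Ω, a ≠ b → a ≠ c → b ≠ c → g • a = a → g • b = b → g • c = c → g = 1) :
    ∃ (F : Type) (_ : Field F) (_ : Fintype F), (∃ n : ℕ, 2 ≤ n ∧ Fintype.card F = 2 ^ n) ∧
      Nonempty (G ≃* Matrix.ProjectiveSpecialLinearGroup (Fin 2) F) := by
  classical
  let φ := MulAction.toPermHom G Ω
  have hφ : Function.Injective φ := MulAction.toPerm_injective
  have htr' : MulAction.IsMultiplyPretransitive φ.range Ω 3 := by
    rw [MulAction.isMultiplyPretransitive_iff]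
    intro x y
    obtain ⟨g, hg⟩ := (MulAction.isMultiplyPretransitive_iff.1 htr) x y
    exact ⟨⟨φ g, g, rfl⟩, DFunLike.ext _ _ fun i => DFunLike.congr_fun hg i⟩
  have hodd : Odd (Fintype.card Ω) := by
    rw [hcard]; exact ((Nat.even_pow).2 ⟨even_two, by omega⟩).add_one
  have h3 : 3 ≤ Fintype.card Ω := by
    have := Nat.pow_le_pow_right (show 1 ≤ 2 by norm_num) hn
    omega
  obtain ⟨k, hk, hΩ, F, iF, iFF, hF, ⟨ψ⟩⟩ :=
    Cfsg.Agent.Lib.Perm.SharpThree.recognition φ.range hodd h3 htr' (by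
      rintro ⟨_, g, rfl⟩ a b c hab hac hbc ha hb hc
      exact Subtype.ext ((congrArg φ (hsharp g a b c hab hac hbc ha hb hc)).trans (map_one φ)))
  have hroots : ∀ r : Fˣ, ∃ t : Fˣ, t ^ Fintype.card (Fin 2) = r := fun r => ⟨r ^ (2 ^ (k - 1)), by
    rw [Fintype.card_fin, ← pow_mul, ← pow_succ, Nat.sub_add_cancel hk, ← hF,
      show Fintype.card F = Fintype.card Fˣ + 1 by
        rw [Fintype.card_units, Nat.sub_add_cancel Fintype.card_pos],
      pow_succ, pow_card_eq_one, one_mul]⟩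
  let τ := MulEquiv.ofBijective (Matrix.ProjectiveSpecialLinearGroup.toPGL (n := Fin 2) (R := F))
    ⟨Matrix.ProjectiveSpecialLinearGroup.toPGL_injective,
      Matrix.ProjectiveSpecialLinearGroup.toPGL_surj_of_roots hroots⟩
  exact ⟨F, iF, iFF, ⟨n, hn, by rw [hF]; omega⟩, ⟨((MonoidHom.ofInjective hφ).trans ψ).trans τ.symm⟩⟩

variable {G : Type u} {Ω : Type v} [Group G] [MulAction G Ω] [Finite G] [FaithfulSMul G Ω]
  {a : Ω} {t : G} {Q : Subgroup G} {A : Type u} [CommGroup A]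

theorem ZasHom.map_eq (Z : ZasHom G a t Q A) (h : Hyp G Ω a t Q) (g : G) :
    ∃ x ∈ Vv a t, Z.f g = Z.f x := by
  have hstab : ∀ g : G, g • a = a → ∃ x ∈ Vv a t, Z.f g = Z.f x := by
    intro g hg
    obtain ⟨q, hq, d, hd, rfl⟩ := decomp h.setup hg
    obtain ⟨x, hx, k, hk, rfl⟩ := h.exists_mul hd
    exact ⟨x, hx, by rw [map_mul, map_mul, Z.on_Q q hq, Z.on_Kk k hk, one_mul, mul_one]⟩
  by_cases hg : g • a = a
  · exact hstab g hg
  obtain ⟨q, hq, hqe⟩ := exists_orbit h.setup hg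
  obtain ⟨x, hx, he⟩ := hstab ((q * t)⁻¹ * g) (by rw [mul_smul, inv_smul_eq_iff, mul_smul, hqe])
  refine ⟨x, hx, ?_⟩
  rw [← he, map_mul, map_inv, map_mul, Z.on_Q q hq, Z.on_t, one_mul, inv_one, one_mul]

theorem ZasHom.mem_Kk (Z : ZasHom G a t Q A) (h : Hyp G Ω a t Q) {d : G} (hd : d ∈ Dd a t)
    (hf : Z.f d = 1) : d ∈ Kk a t := by
  obtain ⟨x, hx, k, hk, rfl⟩ := h.exists_mul hd
  rw [map_mul, Z.on_Kk k hk, mul_one] at hf
  rw [Z.inj x hx hf, one_mul]
  exact hk

theorem ZasHom.odd_index (Z : ZasHom G a t Q A) (h : Hyp G Ω a t Q) : Odd Z.f.ker.index := by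
  rw [Subgroup.index_ker]
  let r : Vv a t →* A := Z.f.comp (Vv a t).subtype
  have e : Z.f.range = r.range := by
    ext y
    constructor
    · rintro ⟨g, rfl⟩
      obtain ⟨x, hx, he⟩ := Z.map_eq h g
      exact ⟨⟨x, hx⟩, he.symm⟩
    · rintro ⟨x, rfl⟩
      exact ⟨x, rfl⟩
  rw [e]
  exact Odd.of_dvd_nat h.setup.odd_card ((Subgroup.card_range_dvd r).trans (Subgroup.card_dvd_of_le h.Vv_le))

theorem ZasHom.card_stab_two (Z : ZasHom G a t Q A) (h : Hyp G Ω a t Q) :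
    Nat.card (MulAction.stabilizer Z.f.ker a ⊓ MulAction.stabilizer Z.f.ker (t • a) : Subgroup Z.f.ker) =
      Nat.card (Kk a t) :=
  Nat.card_congr ⟨fun g => ⟨g.1.1, Z.mem_Kk h ⟨g.2.1, g.2.2⟩ g.1.2⟩,
    fun k => ⟨⟨k.1, Z.on_Kk _ k.2⟩, (h.Kk_le k.2).1, (h.Kk_le k.2).2⟩, fun _ => rfl, fun _ => rfl⟩

theorem ZasHom.isZassenhaus (Z : ZasHom G a t Q A) (h : Hyp G Ω a t Q) :
    Cfsg.IsZassenhausGroup Z.f.ker Ω := by
  classical
  haveI := finite_pts h.setup
  have hne := smul_ne h.setup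
  have hQ0 : ∀ {q : G}, q ∈ Q → q ∈ Z.f.ker := fun {q} hq => Z.on_Q q hq
  have ht0 : t ∈ Z.f.ker := Z.on_t
  have hto : ∀ b : Ω, b ≠ a → ∃ g : Z.f.ker, g • a = b := by
    intro b hb
    obtain ⟨q, hq, he⟩ := exists_orbit h.setup hb
    exact ⟨⟨q * t, mul_mem (hQ0 hq) ht0⟩, by show (q * t) • a = b; rw [mul_smul]; exact he⟩
  have hmove : ∀ x y : Ω, x ≠ y → ∃ g : Z.f.ker, g • x = a ∧ g • y = t • a := by
    intro x y hxy
    obtain ⟨g, hg⟩ : ∃ g : Z.f.ker, g • x = a := by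
      by_cases hx : x = a
      · exact ⟨1, by rw [one_smul, hx]⟩
      · obtain ⟨g, hg⟩ := hto x hx
        exact ⟨g⁻¹, by rw [inv_smul_eq_iff, hg]⟩
    have hy : g • y ≠ a := fun e => hxy (MulAction.injective g (hg.trans e.symm))
    obtain ⟨q, hq, he⟩ := exists_map h.setup hy hne
    refine ⟨⟨q, hQ0 hq⟩ * g, ?_, ?_⟩
    · rw [mul_smul, hg]; exact (h.setup.le hq : q • a = a)
    · rw [mul_smul]; exact he
  have htr : MulAction.IsMultiplyPretransitive Z.f.ker Ω 2 := by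
    refine MulAction.is_two_pretransitive_iff.mpr fun {b₁ b₂ c₁ c₂} hb hc => ?_
    obtain ⟨g, g1, g2⟩ := hmove b₁ b₂ hb
    obtain ⟨g', g1', g2'⟩ := hmove c₁ c₂ hc
    exact ⟨g'⁻¹ * g, by rw [mul_smul, g1, inv_smul_eq_iff, g1'], by rw [mul_smul, g2, inv_smul_eq_iff, g2']⟩
  refine ⟨⟨fun {x y} e => Subtype.ext (eq_of_smul_eq_smul fun b : Ω => e b)⟩, htr, ?_, ?_, ?_⟩
  · intro g x y z hxy hyz hxz hx hy hz
    obtain ⟨c, c1, c2⟩ := hmove x y hxy
    set g' := c * g * c⁻¹ with hg'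
    have hfa : g' • a = a := by
      have e : (c * g * c⁻¹) • c • x = c • x := by rw [mul_smul, mul_smul, inv_smul_smul, hx]
      rwa [c1] at e
    have hft : g' • (t • a : Ω) = t • a := by
      have e : (c * g * c⁻¹) • c • y = c • y := by rw [mul_smul, mul_smul, inv_smul_smul, hy]
      rwa [c2] at e
    have hfz : g' • c • z = c • z := by rw [hg', mul_smul, mul_smul, inv_smul_smul, hz]
    have hk : (g' : G) ∈ Kk a t := Z.mem_Kk h ⟨hfa, hft⟩ g'.2
    have h1 := h.eq_one_of_fix hk (one_mem _) (b := c • z)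
      (fun e => hxz (MulAction.injective c (c1.trans e.symm)))
      (fun e => hyz (MulAction.injective c (c2.trans e.symm))) (by rw [mul_one]; exact hfz)
    exact conj_eq_one_iff.1 (Subtype.ext h1 : g' = 1)
  · have h2 : 1 < Nat.card (Kk a t) := by
      have := h.card_Kk
      obtain ⟨n, hn, e⟩ := h.two_pow
      have := Nat.pow_le_pow_right (show 1 ≤ 2 by norm_num) hn
      omega
    obtain ⟨k, hk⟩ := (Finite.one_lt_card_iff_nontrivial.1 h2).exists_pair_ne.elim fun x hx =>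
      hx.elim fun y hxy => (show ∃ k : Kk a t, k ≠ 1 from
        if e : x = 1 then ⟨y, fun e' => hxy (e.trans e'.symm)⟩ else ⟨x, e⟩)
    exact ⟨⟨k.1, Z.on_Kk _ k.2⟩, fun e => hk (Subtype.ext (congrArg (fun y : Z.f.ker => (y : G)) e)),
      a, t • a, hne.symm, (h.Kk_le k.2).1, (h.Kk_le k.2).2⟩
  · intro N hN hNt
    by_contra hreg
    push Not at hreg
    obtain ⟨s, hs, s', hs', hss⟩ := exists_two_invol h.setup h.two
    have hmem : ∀ {s : G}, s ∈ Cfsg.involutionsIn (MulAction.stabilizer G a : Set G) → s ∈ Z.f.ker :=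
      fun hs => hQ0 (h.Zz_le (h.invol_iff.1 hs).1)
    -- the involutions invert `N`
    have hinv : ∀ (s : G) (hs : s ∈ Cfsg.involutionsIn (MulAction.stabilizer G a : Set G)) (u : Z.f.ker),
        u ∈ N → s * (u : G) * s⁻¹ = (u : G)⁻¹ := by
      intro s hs u hu
      let σ : N →* N := MonoidHom.mk'
        (fun x => ⟨⟨s, hmem hs⟩ * (x : Z.f.ker) * ⟨s, hmem hs⟩⁻¹, hN.conj_mem _ x.2 _⟩)
        (fun x y => Subtype.ext (by simp [mul_assoc]))
      have hσv : ∀ x : N, (((σ x : N) : Z.f.ker) : G) = s * ((x : Z.f.ker) : G) * s⁻¹ := fun x => rfl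
      have hfpf : MonoidHom.FixedPointFree σ := by
        intro x hx
        have e : s * ((x : Z.f.ker) : G) * s⁻¹ = ((x : Z.f.ker) : G) := by rw [← hσv, hx]
        have h1 : s • ((x : Z.f.ker) : G) • a = ((x : Z.f.ker) : G) • a := by
          nth_rewrite 2 [← e]
          rw [mul_smul, mul_smul, inv_smul_eq_iff.2 (show a = s • a from hs.1.symm)]
        have h2 : ((x : Z.f.ker) : G) • a = a := invol_fix_eq h.setup hs.1 hs.2.1 hs.2.2 h1
        have h3 : x ∈ MulAction.stabilizer N a := h2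
        rw [hreg a, Subgroup.mem_bot] at h3
        exact h3
      have hinvol : Function.Involutive σ := fun x => Subtype.ext (Subtype.ext (by
        rw [hσv, hσv]
        calc s * (s * ((x : Z.f.ker) : G) * s⁻¹) * s⁻¹ = (s * s) * ((x : Z.f.ker) : G) * (s * s)⁻¹ := by group
          _ = _ := by rw [hs.2.2, one_mul, inv_one, mul_one]))
      have := congrFun (hfpf.coe_eq_inv_of_involutive hinvol) ⟨u, hu⟩
      exact congrArg (fun y : N => ((y : Z.f.ker) : G)) this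
    refine hss ?_
    have hfix : ∀ b : Ω, (s⁻¹ * s') • b = b := by
      intro b
      obtain ⟨u, hu⟩ := hNt.exists_smul_eq a b
      have e1 := hinv s hs u.1 u.2
      have e2 := hinv s' hs' u.1 u.2
      have hub : ((u : Z.f.ker) : G) • a = b := hu
      have hsa : ∀ {x : G}, x ∈ Cfsg.involutionsIn (MulAction.stabilizer G a : Set G) → x • a = a := fun hx => hx.1
      have h1 : ∀ {x : G}, x ∈ Cfsg.involutionsIn (MulAction.stabilizer G a : Set G) →
          x * ((u : Z.f.ker) : G) * x⁻¹ = ((u : Z.f.ker) : G)⁻¹ → x • b = ((u : Z.f.ker) : G)⁻¹ • a := by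
        intro x hx e
        rw [← e, mul_smul, mul_smul, inv_smul_eq_iff.2 (hsa hx).symm, hub]
      rw [mul_smul, inv_smul_eq_iff, h1 hs e1, h1 hs' e2]
    have hone : s⁻¹ * s' = 1 := eq_of_smul_eq_smul fun b : Ω => by rw [hfix, one_smul]
    exact inv_mul_eq_one.1 hone

theorem ZasHom.result (Z : ZasHom G a t Q A) (h : Hyp G Ω a t Q) (hQ : IsPGroup 2 Q) :
    Concl G ∧ Nat.card Q ≤ Nat.card (Zz G a) ^ 2 := by
  classical
  haveI := finite_pts h.setup
  letI := Fintype.ofFinite Ω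
  have hZ := Z.isZassenhaus h
  haveI := hZ.1
  have hΩ : Fintype.card Ω = Nat.card Q + 1 := by rw [← Nat.card_eq_fintype_card, card_pts h.setup]
  obtain ⟨N, hN⟩ := hQ.exists_card_eq
  have hQle : Nat.card (Zz G a) ≤ Nat.card Q := Subgroup.card_le_of_le h.Zz_le
  obtain ⟨n, hn, hq⟩ := h.two_pow
  have hn4 : 4 ≤ 2 ^ n := le_trans (by norm_num) (Nat.pow_le_pow_right (by norm_num : 1 ≤ 2) hn)
  haveI hsimple : IsSimpleGroup Z.f.ker := Cfsg.Agent.S0338.main hZ (by
    rw [hΩ, hN]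
    refine ((Nat.even_pow).2 ⟨even_two, fun e => ?_⟩).add_one
    rw [e, pow_zero] at hN
    omega)
  have hne : a ≠ t • a := (smul_ne h.setup).symm
  set U : Subgroup Z.f.ker := Q.subgroupOf Z.f.ker with hU
  have hQker : Q ≤ Z.f.ker := fun q hq => Z.on_Q q hq
  have hUc : Nat.card U = Nat.card Q := Nat.card_congr (Subgroup.subgroupOfEquivOfLe hQker).toEquiv
  have hUa : U ≤ MulAction.stabilizer Z.f.ker a := fun u hu => h.setup.le hu
  have hUfix : ∀ u ∈ U, u ≠ 1 → ∀ c : Ω, u • c = c → c = a := fun u hu hu1 c hc =>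
    fix_eq h.setup hu (fun e => hu1 (Subtype.ext e)) hc
  have hUn : ∀ g ∈ MulAction.stabilizer Z.f.ker a, ∀ u ∈ U, g * u * g⁻¹ ∈ U := fun g hg u hu =>
    h.setup.conj_mem _ hg _ hu
  have hUreg : ∀ c d : Ω, c ≠ a → d ≠ a → ∃! u : U, (u : Z.f.ker) • c = d := by
    intro c d hc hd
    obtain ⟨q, hq, hu⟩ := Cfsg.Lib.Linear.RankOne.regular h.setup c d hc hd
    exact ⟨⟨⟨q, hQker q.2⟩, q.2⟩, hq, fun u hu' => Subtype.ext (Subtype.ext
      (congrArg (fun y : Q => (y : G)) (hu ⟨u.1.1, u.2⟩ hu')))⟩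
  set q := Nat.card (Zz G a) with hqdef
  have hD : Nat.card (MulAction.stabilizer Z.f.ker a ⊓ MulAction.stabilizer Z.f.ker (t • a) :
      Subgroup Z.f.ker) + 1 = q := by rw [Z.card_stab_two h, h.card_Kk]
  have hoddD : Odd (Nat.card (MulAction.stabilizer Z.f.ker a ⊓ MulAction.stabilizer Z.f.ker (t • a) :
      Subgroup Z.f.ker)) := by
    rw [Z.card_stab_two h]
    exact Odd.of_dvd_nat h.setup.odd_card (Subgroup.card_dvd_of_le h.Kk_le)
  rcases Cfsg.Agent.S0885.result hZ hne (Nat.card Q) _ hΩ rfl hoddD U hUa (by rw [hUc, hΩ]) hUfix with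
    hle | ⟨h2, ⟨x, y, hxy⟩, -⟩
  · -- `|Q| = q`
    have hQq : Nat.card Q = q := by
      rw [hN, hq] at hQle ⊢
      have hnN : n ≤ N := (Nat.pow_le_pow_iff_right (by norm_num)).1 hQle
      rcases Nat.lt_or_eq_of_le hnN with hlt | e
      · exfalso
        have := Nat.pow_le_pow_right (show 1 ≤ 2 by norm_num) (show n + 1 ≤ N by omega)
        rw [pow_succ] at this
        rw [hq] at hD
        omega
      · rw [e]
    refine ⟨⟨Z.f.ker, inferInstance, Z.odd_index h, Or.inl ?_⟩, hQq.le.trans (Nat.le_self_pow two_ne_zero _)⟩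
    have hsharp : ∀ g : Z.f.ker, ∀ a b c : Ω, a ≠ b → a ≠ c → b ≠ c → g • a = a → g • b = b → g • c = c → g = 1 :=
      fun g a b c hab hac hbc => hZ.2.2.1 g a b c hab hbc hac
    refine zas_psl_of_sharp hn (by rw [hΩ, hQq, hq]) ?_ hsharp
    have hK : ∀ c d : Ω, c ≠ a → c ≠ t • a → d ≠ a → d ≠ t • a →
        ∃ g : Z.f.ker, g • a = a ∧ g • (t • a : Ω) = t • a ∧ g • c = d := by
      intro c d hc hc' hd hd'
      set D0 : Subgroup Z.f.ker := MulAction.stabilizer Z.f.ker a ⊓ MulAction.stabilizer Z.f.ker (t • a) with hD0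
      let e : D0 → {d : Ω // d ∉ ({a, t • a} : Finset Ω)} := fun g => ⟨(g : Z.f.ker) • c, fun e => by
        rcases Finset.mem_insert.1 e with e | e
        · exact hc (MulAction.injective (g : Z.f.ker) (e.trans g.2.1.symm))
        · exact hc' (MulAction.injective (g : Z.f.ker) ((Finset.mem_singleton.1 e).trans g.2.2.symm))⟩
      have hinj : Function.Injective e := by
        intro x y hxy
        have hxy' : (x : Z.f.ker) • c = (y : Z.f.ker) • c := congrArg Subtype.val hxy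
        refine Subtype.ext (inv_mul_eq_one.1 (hsharp ((y : Z.f.ker)⁻¹ * x) a (t • a) c hne hc.symm hc'.symm
          ?_ ?_ ?_)).symm
        · rw [mul_smul, x.2.1, inv_smul_eq_iff, y.2.1]
        · rw [mul_smul, x.2.2, inv_smul_eq_iff, y.2.2]
        · rw [mul_smul, hxy', inv_smul_smul]
      have hb : Function.Bijective e := by
        haveI := Fintype.ofFinite D0
        refine (Fintype.bijective_iff_injective_and_card _).2 ⟨hinj, ?_⟩
        rw [Fintype.card_subtype_compl, Fintype.card_coe, Finset.card_pair hne, ← Nat.card_eq_fintype_card, hΩ, hQq]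
        omega
      obtain ⟨g, hg⟩ := hb.2 ⟨d, by simp [hd, hd']⟩
      exact ⟨g, g.2.1, g.2.2, congrArg Subtype.val hg⟩
    rw [MulAction.isMultiplyPretransitive_iff]
    intro x y
    have h2tr : ∀ {p q r s : Ω}, p ≠ q → r ≠ s → ∃ g : Z.f.ker, g • p = r ∧ g • q = s :=
      MulAction.is_two_pretransitive_iff.1 hZ.2.1
    have key : ∀ z : Fin 3 ↪ Ω, ∃ g : Z.f.ker, g • z 0 = a ∧ g • z 1 = t • a ∧ g • z 2 ≠ a ∧ g • z 2 ≠ t • a := by
      intro z
      obtain ⟨g, g1, g2⟩ := h2tr (show z 0 ≠ z 1 from z.injective.ne (by decide)) hne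
      exact ⟨g, g1, g2, fun e => absurd (MulAction.injective g (e.trans g1.symm)) (z.injective.ne (by decide)),
        fun e => absurd (MulAction.injective g (e.trans g2.symm)) (z.injective.ne (by decide))⟩
    obtain ⟨g, g0, g1, g2, g2'⟩ := key x
    obtain ⟨g', g0', g1', h2', h2''⟩ := key y
    obtain ⟨k, k0, k1, k2⟩ := hK _ _ g2 g2' h2' h2''
    refine ⟨g'⁻¹ * k * g, DFunLike.ext _ _ fun i => ?_⟩
    show (g'⁻¹ * k * g) • x i = y i
    rw [mul_smul, mul_smul, inv_smul_eq_iff]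
    fin_cases i
    · exact (congrArg (k • ·) g0).trans (k0.trans g0'.symm)
    · exact (congrArg (k • ·) g1).trans (k1.trans g1'.symm)
    · exact k2
  · -- a Suzuki group
    let S : Cfsg.Lib.ZasSuzuki.ZSetup Z.f.ker Ω := Cfsg.Lib.ZasSuzuki.setupOfRegular hZ hne U hUa hUn hUreg h2
      ⟨x, x.2, y, y.2, fun e => hxy (Subtype.ext e)⟩
    refine ⟨⟨Z.f.ker, inferInstance, Z.odd_index h, Or.inr (Or.inl (Cfsg.Lib.SuzUnique.isoSuzuki S))⟩, ?_⟩
    have h3 : Nat.card U = (Nat.card (MulAction.stabilizer Z.f.ker a ⊓ MulAction.stabilizer Z.f.ker (t • a) :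
        Subgroup Z.f.ker) + 1) ^ 2 := S.h_eq_sq
    rw [hD, hUc] at h3
    exact h3.le

end Cfsg.Lib.RankOneSuzuki
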