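import Cfsg.Agent.Lib.RankOneSuzuki.ZasFix
import Cfsg.Agent.Lib.RankOneSuzuki.ZasCube
import Cfsg.Agent.Lib.RankOneSuzuki.ZasChar
import Cfsg.Agent.Lib.RankOneSuzuki.ZasKernel
import Cfsg.Agent.Lib.RankOneSuzuki.ZasFermat

/-!
# Suzuki's rank-one theorem, Part B: trivial `Ww`

If `Q` is a 2-group and `Ww` is trivial then `|Q| ≤ q ^ 2` and the group has the normal subgroup of index
`|Vv|` isomorphic to `PSL₂(q)` or `Sz(q)`.  Induction on the order of the group.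
-/

set_option autoImplicit false
set_option linter.unusedSectionVars false
set_option linter.style.haveILetI false

namespace Cfsg.Lib.RankOneSuzuki

open Cfsg Cfsg.Lib.Linear.RankOne

universe u v

variable {G : Type u} {Ω : Type v} [Group G] [MulAction G Ω] [Finite G] [FaithfulSMul G Ω]
  {a : Ω} {t : G} {Q : Subgroup G}

/-- The centraliser in `Q` of an element of prime order of `Vv` when `|Q| = q ^ m`, `m ≥ 3`. -/
theorem Hyp.zas_cent (h : Hyp G Ω a t Q) (hQ : IsPGroup 2 Q) (hW : Ww a t = ⊥) {n m : ℕ} (hn : 2 ≤ n)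
    (hq : Nat.card (Zz G a) = 2 ^ n) (hm : Nat.card Q = (2 ^ n) ^ m) (hm3 : 3 ≤ m) {v : G}
    (hv : v ∈ Vv a t) {ℓ : ℕ} (hℓ : ℓ.Prime) (hℓo : Odd ℓ) (hord : orderOf v = ℓ) {k : ℕ}
    (hnk : n = k * ℓ) (hq0 : Nat.card (Zz G a ⊓ Subgroup.centralizer {v} : Subgroup G) = 2 ^ k) :
    (2 ^ k) ^ 2 < Nat.card (Q ⊓ Subgroup.centralizer {v} : Subgroup G) ∧
      (k = 1 → ℓ ∣ 2 ^ m + 1 → Nat.card (Q ⊓ Subgroup.centralizer {v} : Subgroup G) = 2 ^ m) := by
  have h2n : 2 ≤ 2 ^ n := le_trans (by norm_num) (Nat.pow_le_pow_right (by norm_num : 1 ≤ 2) hn)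
  have hk : 1 ≤ k := by
    by_contra hk
    obtain rfl : k = 0 := by omega
    omega
  by_cases hab : ∀ x ∈ Q, ∀ y ∈ Q, x * y = y * x
  · obtain ⟨m', -, hm', hv'⟩ := h.zas_abelian hQ hab
    rw [hq, hm] at hm'
    obtain rfl : m = m' := Nat.pow_right_injective h2n hm'
    rw [hv' v hv.1 ℓ hℓ hℓo (hord ▸ pow_orderOf_eq_one v), hq0]
    exact ⟨Nat.pow_lt_pow_right (Nat.one_lt_two_pow (by omega)) hm3, fun h1 _ => by rw [h1, pow_one]⟩
  obtain ⟨hsq, -, hcard, -⟩ := h.suzuki_facts (h.zas_twoSub hQ) hab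
  obtain rfl : m = 3 := by
    rcases hcard with e | e <;> rw [hq, hm] at e <;> have := Nat.pow_right_injective h2n e <;> omega
  have hc : Nat.card Q = Nat.card (Zz G a) ^ 3 := by rw [hm, hq]
  obtain ⟨h1, h8⟩ := h.zas_cube hQ hc hsq hW hv hℓ hℓo hord (k := k) (by rw [hq, hnk]) hq0
  refine ⟨h1, fun hk1 hdvd => ?_⟩
  rw [show 2 ^ 3 + 1 = 3 ^ 2 by norm_num] at hdvd
  have e := (Nat.prime_dvd_prime_iff_eq hℓ Nat.prime_three).1 (hℓ.dvd_of_dvd_pow hdvd)
  rw [h8 hk1 e]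
  norm_num

/-- The inductive step: there is a homomorphism on `Vv`. -/
theorem Hyp.zas_step (h : Hyp G Ω a t Q) (hQ : IsPGroup 2 Q) (hW : Ww a t = ⊥)
    (ih : ∀ x : G, ∀ hx : x ∈ Vv a t, Hyp (Im Ω x) (Fx Ω x) (fxBase hx) (fxT h hx) (fxQ Ω Q x) →
      Nat.card (Im Ω x) < Nat.card G → IsPGroup 2 (fxQ Ω Q x) → Ww (fxBase hx) (fxT h hx) = ⊥ →
      Nat.card (fxQ Ω Q x) ≤ Nat.card (Zz (Im Ω x) (fxBase hx)) ^ 2) :
    ∃ (A : Type u) (_ : CommGroup A), Nonempty (ZasHom G a t Q A) := by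
  classical
  haveI : Fact (Nat.Prime 2) := ⟨Nat.prime_two⟩
  obtain ⟨n, F, _, _, hn, hq, ⟨M⟩⟩ := h.exists_fieldModel
  obtain ⟨N, hN⟩ := hQ.exists_card_eq
  rcases h.zas_char hQ hW M hn hN with hA | ⟨k, d, hk, hd, hd3, rfl⟩
  · exact hA
  have hm : Nat.card Q = (2 ^ n) ^ (k * d) := by rw [hN, ← pow_mul]
  have hm3 : 3 ≤ k * d := le_trans hd3 (Nat.le_mul_of_pos_left d (by omega))
  have hVodd : Odd (Nat.card (Vv a t)) :=
    Odd.of_dvd_nat h.setup.odd_card (Subgroup.card_dvd_of_le h.Vv_le)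
  -- every element of prime order of `Vv` centralises only two elements of `Zz`
  have key : ∀ v ∈ Vv a t, ∀ ℓ : ℕ, ℓ.Prime → orderOf v = ℓ →
      n = ℓ ∧ Nat.card (Zz G a ⊓ Subgroup.centralizer {v} : Subgroup G) = 2 := by
    intro v hv ℓ hℓ hord
    have hℓo : Odd ℓ := hVodd.of_dvd_nat (hord ▸ Subgroup.orderOf_dvd_natCard (Vv a t) hv)
    obtain ⟨k₀, hnk, hq0⟩ := h.zas_card_centralizer_Zz hW M hv hℓ.pos hord
    rcases Nat.lt_or_ge k₀ 2 with hlt | hge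
    · obtain rfl : k₀ = 1 := by
        rcases Nat.eq_zero_or_pos k₀ with rfl | hpos
        · omega
        · omega
      exact ⟨by rw [hnk, one_mul], by rw [hq0, pow_one]⟩
    exfalso
    have hv1 : v ≠ 1 := fun e => hℓ.ne_one (by rw [← hord, e, orderOf_one])
    obtain ⟨hI, hlt⟩ := h.ind hv hv1 (by
      rw [hq0]; exact le_trans (by norm_num) (Nat.pow_le_pow_right (by norm_num : 1 ≤ 2) hge))
    have hQ' : IsPGroup 2 (fxQ Ω Q v) := by
      obtain ⟨i, hi⟩ := (hQ.to_le (inf_le_left : Q ⊓ Subgroup.centralizer {v} ≤ Q)).exists_card_eq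
      exact IsPGroup.of_card (n := i) (by rw [h.card_fxQ hv, hi])
    set Z0 : Subgroup G := Zz G a ⊓ Subgroup.centralizer {v} with hZ0
    -- the induced `Ww` is trivial
    have hW' : Ww (fxBase hv) (fxT h hv) = ⊥ := by
      refine (Subgroup.eq_bot_iff_forall _).2 fun y hy => ?_
      obtain ⟨d', hd', rfl, hdz⟩ := h.exists_of_mem_Ww hv hI hy
      obtain ⟨v₀, hv₀, hgen⟩ := h.zas_gen hW
      let H : Subgroup G := Vv a t ⊓ Subgroup.centralizer (Z0 : Set G)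
      haveI : IsCyclic (Vv a t) := ⟨⟨⟨v₀, hv₀⟩, fun x => by
        obtain ⟨j, hj⟩ := hgen x.1 x.2
        exact ⟨(j : ℤ), Subtype.ext (by rw [hj]; simp)⟩⟩⟩
      haveI : IsCyclic H := isCyclic_of_injective (Subgroup.inclusion (inf_le_left : H ≤ Vv a t))
        (Subgroup.inclusion_injective _)
      obtain ⟨⟨c, hcH⟩, hc⟩ := IsCyclic.exists_generator (α := H)
      have hHc : ∀ x ∈ H, x ∈ Subgroup.zpowers c := fun x hx => by
        obtain ⟨j, hj⟩ := hc ⟨x, hx⟩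
        exact ⟨j, congrArg Subtype.val hj⟩
      have hvH : v ∈ H := ⟨hv, Subgroup.mem_centralizer_iff.2 fun z hz =>
        Subgroup.mem_centralizer_singleton_iff.1 hz.2⟩
      have hdV : (d' : G) ∈ Vv a t := by
        obtain ⟨s, -, hs, -, -, -, hV⟩ := h.exists_s
        have hsv : s ∈ Subgroup.centralizer {v} := by
          have h1 : v ∈ Dd a t ⊓ Subgroup.centralizer {s} := hV ▸ hv
          exact Subgroup.mem_centralizer_singleton_iff.2 (Subgroup.mem_centralizer_singleton_iff.1 h1.2).symm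
        rw [hV]
        exact ⟨hd', Subgroup.mem_centralizer_singleton_iff.2 (hdz s hs hsv).symm⟩
      have hdH : (d' : G) ∈ H := ⟨hdV, Subgroup.mem_centralizer_iff.2 fun z hz => hdz z hz.1 hz.2⟩
      have hcZ : Zz G a ⊓ Subgroup.centralizer {c} = Z0 := by
        refine le_antisymm ?_ ?_
        · intro z hz
          refine ⟨hz.1, Subgroup.mem_centralizer_singleton_iff.2 ?_⟩
          obtain ⟨j, hj⟩ := hHc v hvH
          rw [← hj]
          exact ((show Commute z c from Subgroup.mem_centralizer_singleton_iff.1 hz.2).zpow_right j).eq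
        · intro z hz
          exact ⟨hz.1, Subgroup.mem_centralizer_singleton_iff.2 (Subgroup.mem_centralizer_iff.1 hcH.2 z hz)⟩
      obtain ⟨k₁, hnk₁, hq1⟩ := h.zas_card_centralizer_Zz hW M hcH.1 (orderOf_pos c) rfl
      rw [hcZ, hq0] at hq1
      obtain rfl : k₀ = k₁ := Nat.pow_right_injective le_rfl hq1
      have hoc : orderOf c = ℓ := Nat.eq_of_mul_eq_mul_left (by omega) (hnk₁.symm.trans hnk)
      have hzp : Subgroup.zpowers v = Subgroup.zpowers c :=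
        Subgroup.eq_of_le_of_card_ge (Subgroup.zpowers_le.2 (hHc v hvH))
          (by rw [Nat.card_zpowers, Nat.card_zpowers, hoc, hord])
      refine (fxProj_eq_one_iff v d').2 fun b => ?_
      exact (Subgroup.zpowers_le (H := MulAction.stabilizer G b.1)).2 b.2 (hzp ▸ hHc _ hdH)
    -- the involutions of the induced point stabiliser
    have hZ' : Nat.card (Zz (Im Ω v) (fxBase hv)) ≤ 2 ^ k₀ := by
      have hsurj : ∀ y : Zz (Im Ω v) (fxBase hv), ∃ z : Z0,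
          fxProj Ω v ⟨z, z.2.2⟩ = (y : Im Ω v) := by
        intro y
        obtain ⟨g, hg, hgy⟩ := hI.Zz_le y.2
        have h1 : fxProj Ω v (g * g) = 1 := by
          rw [map_mul, hgy]; exact (hI.mem_Zz.1 y.2).2
        have hgQ : (g : G) ∈ Q := hg
        have h2 := h.eq_one_of_fxProj hv (g := g * g) (mul_mem hgQ hgQ) h1
        exact ⟨⟨g, h.invol_of_sq (h.zas_twoSub hQ) hgQ (congrArg Subtype.val h2), g.2⟩, hgy⟩
      choose f hf using hsurj
      rw [← hq0]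
      exact Nat.card_le_card_of_injective f fun y y' e => Subtype.ext (by rw [← hf y, ← hf y', e])
    have h1 := ih v hv hI hlt hQ' hW'
    rw [h.card_fxQ hv] at h1
    have h2 := (h.zas_cent hQ hW hn hq hm hm3 hv hℓ hℓo hord hnk hq0).1
    have h3 := Nat.pow_le_pow_left hZ' 2
    omega
  by_cases hco : Nat.Coprime (Nat.card (Vv a t)) (Nat.card Q + 1)
  · exact h.zas_transfer hQ hW hco
  exfalso
  obtain ⟨ℓ, hℓ, hℓV, hℓQ⟩ := Nat.Prime.not_coprime_iff_dvd.1 hco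
  haveI : Fact ℓ.Prime := ⟨hℓ⟩
  obtain ⟨⟨v, hv⟩, hord⟩ := exists_prime_orderOf_dvd_card' (G := Vv a t) ℓ hℓV
  rw [← Subgroup.orderOf_coe] at hord
  obtain ⟨rfl, hq0⟩ := key v hv ℓ hℓ hord
  have hVv : Nat.card (Vv a t) = n := by
    obtain ⟨e, he, hen, -⟩ := h.index_dvd M hn
    rw [hW, Subgroup.card_bot, mul_one] at he
    exact Nat.dvd_antisymm (he ▸ hen) hℓV
  have hdvd : n ∣ 2 ^ (k * d) + 1 := by
    rw [hm, pow_right_comm] at hℓQ
    rw [← ZMod.natCast_eq_zero_iff] at hℓQ ⊢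
    push_cast at hℓQ ⊢
    rwa [ZMod.pow_card] at hℓQ
  have hℓo : Odd n := hVodd.of_dvd_nat hℓV
  have hC := (h.zas_cent hQ hW hn hq hm hm3 hv hℓ hℓo hord (k := 1) (by rw [one_mul])
    (by rw [hq0, pow_one])).2 rfl hdvd
  exact h.zas_no_fermat hW hv hℓ hord hVv hq hk hd hd3 hN hdvd hq0 hC

theorem zas_bound_aux (N : ℕ) :
    ∀ {G : Type v} {Ω : Type v} [Group G] [MulAction G Ω] [Finite G] [FaithfulSMul G Ω] {a : Ω}
      {t : G} {Q : Subgroup G}, Nat.card G ≤ N → Hyp G Ω a t Q → IsPGroup 2 Q → Ww a t = ⊥ →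
      Nat.card Q ≤ Nat.card (Zz G a) ^ 2 := by
  induction N with
  | zero =>
    intro G Ω _ _ _ _ a t Q hle _ _ _
    exact absurd hle (Nat.not_le.2 Nat.card_pos)
  | succ N ih =>
    intro G Ω _ _ _ _ a t Q hle h hQ hW
    obtain ⟨A, _, ⟨Z⟩⟩ := h.zas_step hQ hW fun x hx hI hlt h2 h3 => ih (by omega) hI h2 h3
    exact (Z.result h hQ).2

/-- Suzuki's theorem for trivial `Ww`. -/
theorem Hyp.concl_of_Ww_eq_bot (h : Hyp G Ω a t Q) (hQ : IsPGroup 2 Q) (hW : Ww a t = ⊥) : Concl G := by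
  obtain ⟨A, _, ⟨Z⟩⟩ := h.zas_step hQ hW fun x hx hI _ h2 h3 => zas_bound_aux _ le_rfl hI h2 h3
  exact (Z.result h hQ).1

end Cfsg.Lib.RankOneSuzuki
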