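import Cfsg.Agent.Lib.RankOneSuzuki.TwoMain
import Cfsg.Agent.Lib.RankOneSuzuki.ZasMain
import Cfsg.Agent.Lib.RankOneSuzuki.UnitaryMain

/-!
# Suzuki's rank-one theorem
-/

set_option autoImplicit false
set_option linter.unusedSectionVars false

namespace Cfsg.Lib.RankOneSuzuki

open Cfsg

universe u v

variable {G : Type u} {Ω : Type v} [Group G] [MulAction G Ω] [Finite G] [FaithfulSMul G Ω]
  {a : Ω} {t : G} {Q : Subgroup G}

/-- Suzuki: a rank-one group with two commuting involutions has a normal subgroup of odd index isomorphic to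
`PSL₂(q)`, `Sz(q)` or `PSU₃(q)`. -/
theorem Hyp.concl (h : Hyp G Ω a t Q) : Concl G := by
  by_cases hW : Ww a t = ⊥
  · exact h.concl_of_Ww_eq_bot h.isPGroup_two hW
  · exact h.concl_of_Ww_ne_bot h.isPGroup_two hW

end Cfsg.Lib.RankOneSuzuki
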