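import Cfsg.Agent.Lib.RankOneSuzuki.Setup
import Cfsg.Agent.S1125

/-!
# Suzuki's rank-one theorem: the centraliser of an element fixing three points

For `v ∈ Vv`, `v ≠ 1`, centralising at least four elements of `Zz`, the action of `C(v)` on the fixed points
of `v` gives a smaller group satisfying the hypotheses, whose regular subgroup is isomorphic to `C_Q(v)`.
-/

set_option autoImplicit false
set_option linter.unusedSectionVars false

namespace Cfsg.Lib.RankOneSuzuki

open Cfsg Cfsg.Lib.Linear.RankOne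

universe u v

variable {G : Type u} [Group G]

/-- The fixed points of an element. -/
def Fx (Ω : Type v) [MulAction G Ω] (x : G) : Type v := {b : Ω // x • b = b}

variable {Ω : Type v} [MulAction G Ω]

instance fxAction (x : G) : MulAction (Subgroup.centralizer {x}) (Fx Ω x) where
  smul g b := ⟨(g : G) • b.1, by
    rw [smul_smul, ← Subgroup.mem_centralizer_singleton_iff.mp g.2, mul_smul, b.2]⟩
  one_smul b := Subtype.ext (one_smul G b.1)
  mul_smul g g' b := Subtype.ext (mul_smul (g : G) g' b.1)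

theorem fx_smul_val (x : G) (g : Subgroup.centralizer {x}) (b : Fx Ω x) :
    (g • b).1 = (g : G) • b.1 := rfl

variable (Ω) in
/-- The permutation group induced on the fixed points. -/
def fxHom (x : G) : Subgroup.centralizer {x} →* Equiv.Perm (Fx Ω x) :=
  MulAction.toPermHom (Subgroup.centralizer {x}) (Fx Ω x)

variable (Ω) in
/-- The group induced on the fixed points. -/
abbrev Im (x : G) : Subgroup (Equiv.Perm (Fx Ω x)) := (fxHom Ω x).range

variable (Ω) in
/-- The projection to the induced group. -/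
def fxProj (x : G) : Subgroup.centralizer {x} →* Im Ω x := (fxHom Ω x).rangeRestrict

theorem fxProj_surjective (x : G) : Function.Surjective (fxProj Ω x) :=
  (fxHom Ω x).rangeRestrict_surjective

theorem fxProj_smul (x : G) (g : Subgroup.centralizer {x}) (b : Fx Ω x) :
    (fxProj Ω x g • b).1 = (g : G) • b.1 := rfl

theorem fxProj_eq_one_iff (x : G) (g : Subgroup.centralizer {x}) :
    fxProj Ω x g = 1 ↔ ∀ b : Fx Ω x, (g : G) • b.1 = b.1 := by
  constructor
  · intro hg b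
    rw [← fxProj_smul x g b, hg, one_smul]
  · exact fun hg => Subtype.ext (Equiv.ext fun b => Subtype.ext (hg b))

instance finite_im [Finite G] (x : G) : Finite (Im Ω x) :=
  Finite.of_surjective _ (fxProj_surjective x)

variable [Finite G] [FaithfulSMul G Ω] {a : Ω} {t : G} {Q : Subgroup G}

theorem Hyp.t_mem_centralizer (_h : Hyp G Ω a t Q) {x : G} (hx : x ∈ Vv a t) :
    t ∈ Subgroup.centralizer {x} :=
  Subgroup.mem_centralizer_singleton_iff.2 (Subgroup.mem_centralizer_singleton_iff.1 hx.2).symm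

/-- The base point among the fixed points. -/
def fxBase {x : G} (hx : x ∈ Vv a t) : Fx Ω x := ⟨a, hx.1.1⟩

/-- The regular subgroup of the induced group. -/
def fxQ (Ω : Type v) [MulAction G Ω] (Q : Subgroup G) (x : G) : Subgroup (Im Ω x) :=
  (Q.subgroupOf (Subgroup.centralizer {x})).map (fxProj Ω x)

/-- The image of `t`. -/
def fxT (h : Hyp G Ω a t Q) {x : G} (hx : x ∈ Vv a t) : Im Ω x :=
  fxProj Ω x ⟨t, h.t_mem_centralizer hx⟩

/-- An element of `Q` in the kernel is trivial. -/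
theorem Hyp.eq_one_of_fxProj (h : Hyp G Ω a t Q) {x : G} (hx : x ∈ Vv a t)
    {g : Subgroup.centralizer {x}} (hg : (g : G) ∈ Q) (h1 : fxProj Ω x g = 1) : g = 1 :=
  Subtype.ext (eq_one_of_fix_ta h.setup hg ((fxProj_eq_one_iff x g).1 h1 ⟨t • a, hx.1.2⟩))

theorem Hyp.card_fxQ (h : Hyp G Ω a t Q) {x : G} (hx : x ∈ Vv a t) :
    Nat.card (fxQ Ω Q x) = Nat.card (Q ⊓ Subgroup.centralizer {x} : Subgroup G) := by
  let f : Q.subgroupOf (Subgroup.centralizer {x}) →* Im Ω x := (fxProj Ω x).comp (Subgroup.subtype _)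
  have hf : Function.Injective f := (injective_iff_map_eq_one _).2 fun g hg =>
    Subtype.ext (h.eq_one_of_fxProj hx g.2 hg)
  have e : f.range = fxQ Ω Q x := by
    rw [MonoidHom.range_comp, Subgroup.range_subtype]; rfl
  rw [← e, ← Nat.card_congr (MonoidHom.ofInjective hf).toEquiv]
  exact Nat.card_congr
    ⟨fun g => ⟨(g : Subgroup.centralizer {x}), g.2, g.1.2⟩, fun g => ⟨⟨g, g.2.2⟩, g.2.1⟩,
      fun _ => rfl, fun _ => rfl⟩

/-- The induced group satisfies the hypotheses. -/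
theorem Hyp.ind (h : Hyp G Ω a t Q) {x : G} (hx : x ∈ Vv a t) (hx1 : x ≠ 1)
    (h4 : 4 ≤ Nat.card (Zz G a ⊓ Subgroup.centralizer {x} : Subgroup G)) :
    Hyp (Im Ω x) (Fx Ω x) (fxBase hx) (fxT h hx) (fxQ Ω Q x) ∧ Nat.card (Im Ω x) < Nat.card G := by
  classical
  have hne := smul_ne h.setup
  have hta : (fxT h hx • fxBase hx : Fx Ω x).1 = t • a := rfl
  have hstab : ∀ g : Subgroup.centralizer {x},
      fxProj Ω x g ∈ MulAction.stabilizer (Im Ω x) (fxBase hx) ↔ (g : G) ∈ MulAction.stabilizer G a :=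
    fun g => ⟨fun e => congrArg Subtype.val e, fun e => Subtype.ext e⟩
  have hstab2 : ∀ g : Subgroup.centralizer {x},
      fxProj Ω x g ∈ MulAction.stabilizer (Im Ω x) (fxT h hx • fxBase hx) ↔
        (g : G) ∈ MulAction.stabilizer G (t • a) :=
    fun g => ⟨fun e => congrArg Subtype.val e, fun e => Subtype.ext e⟩
  have h3 := three_fixed h.setup (X := {x}) (Set.singleton_subset_iff.2 hx)
  have htr := (Cfsg.Agent.S1125.result h.setup {x} (Set.singleton_subset_iff.2 hx.1) h3).1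
  refine ⟨⟨{ two_transitive := ?_, mul_self := ?_, ne_one := ?_, not_mem := ?_, le := ?_, conj_mem := ?_
             inf_eq_bot := ?_, sup_eq := ?_, even_card := ?_, odd_card := ?_ }, ?_⟩, ?_⟩
  · refine MulAction.is_two_pretransitive_iff.mpr fun {b₁ b₂ c₁ c₂} hb hc => ?_
    obtain ⟨g, hg, e1, e2⟩ := htr b₁.1 b₂.1 c₁.1 c₂.1 (fun y hy => by
      rw [Set.mem_singleton_iff] at hy; subst hy; exact ⟨b₁.2, b₂.2, c₁.2, c₂.2⟩)
      (fun e => hb (Subtype.ext e)) (fun e => hc (Subtype.ext e))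
    exact ⟨fxProj Ω x ⟨g, hg⟩, Subtype.ext e1, Subtype.ext e2⟩
  · rw [fxT, ← map_mul, show (⟨t, h.t_mem_centralizer hx⟩ : Subgroup.centralizer {x}) *
      ⟨t, h.t_mem_centralizer hx⟩ = 1 from Subtype.ext h.setup.mul_self, map_one]
  · intro e
    exact hne ((fxProj_eq_one_iff x _).1 e (fxBase hx))
  · intro e
    exact hne (congrArg Subtype.val e)
  · rintro _ ⟨g, hg, rfl⟩
    exact (hstab g).2 (h.setup.le hg)
  · intro y hy z hz
    obtain ⟨g, rfl⟩ := fxProj_surjective x y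
    obtain ⟨q, hq, rfl⟩ := hz
    exact ⟨g * q * g⁻¹, h.setup.conj_mem _ ((hstab g).1 hy) _ hq, by rw [map_mul, map_mul, map_inv]⟩
  · rw [Subgroup.eq_bot_iff_forall]
    rintro _ ⟨⟨g, hg, rfl⟩, he⟩
    have : (g : G) = 1 := eq_one_of_mem_D h.setup hg ⟨h.setup.le hg, (hstab2 g).1 he⟩
    rw [show g = 1 from Subtype.ext this, map_one]
  · refine le_antisymm (sup_le ?_ inf_le_left) fun y hy => ?_
    · rintro _ ⟨g, hg, rfl⟩
      exact (hstab g).2 (h.setup.le hg)
    obtain ⟨g, rfl⟩ := fxProj_surjective x y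
    obtain ⟨q, hq, d, hd, he⟩ := decomp h.setup ((hstab g).1 hy)
    have hgx : x * (g : G) = g * x := (Subgroup.mem_centralizer_singleton_iff.1 g.2).symm
    have hqx : q * x = x * q := by
      have hq' : x * q * x⁻¹ ∈ Q := h.setup.conj_mem x hx.1.1 q hq
      have e1 : q⁻¹ * (x * q * x⁻¹) = d * x * d⁻¹ * x⁻¹ := by
        calc q⁻¹ * (x * q * x⁻¹) = q⁻¹ * (x * (g : G)) * d⁻¹ * x⁻¹ := by rw [he]; group
          _ = q⁻¹ * ((g : G) * x) * d⁻¹ * x⁻¹ := by rw [hgx]
          _ = d * x * d⁻¹ * x⁻¹ := by rw [he]; group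
      have e2 := eq_one_of_mem_D h.setup (mul_mem (inv_mem hq) hq')
        (e1 ▸ mul_mem (mul_mem (mul_mem hd hx.1) (inv_mem hd)) (inv_mem hx.1))
      rw [inv_mul_eq_one, eq_mul_inv_iff_mul_eq] at e2
      exact e2
    have hdx : d * x = x * d := by
      have : d = q⁻¹ * (g : G) := by rw [he, inv_mul_cancel_left]
      rw [this, mul_assoc, ← hgx, ← mul_assoc, ← mul_assoc,
        (Commute.inv_left (show Commute q x from hqx)).eq]
    rw [show g = (⟨q, Subgroup.mem_centralizer_singleton_iff.2 hqx⟩ : Subgroup.centralizer {x}) *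
      ⟨d, Subgroup.mem_centralizer_singleton_iff.2 hdx⟩ from Subtype.ext he, map_mul]
    exact Subgroup.mul_mem_sup ⟨_, hq, rfl⟩ ⟨(hstab _).2 hd.1, (hstab2 _).2 hd.2⟩
  · have hp : Nat.card (Zz G a ⊓ Subgroup.centralizer {x} : Subgroup G) ∣ Nat.card (fxQ Ω Q x) := by
      rw [h.card_fxQ hx]
      exact Subgroup.card_dvd_of_le (inf_le_inf_right _ h.Zz_le)
    obtain ⟨n, -, hn⟩ := h.two_pow
    have h1 : Nat.card (Zz G a ⊓ Subgroup.centralizer {x} : Subgroup G) ∣ 2 ^ n :=
      hn ▸ Subgroup.card_dvd_of_le inf_le_left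
    obtain ⟨i, -, hi⟩ := (Nat.dvd_prime_pow Nat.prime_two).1 h1
    refine even_iff_two_dvd.2 (dvd_trans ?_ hp)
    rw [hi] at h4 ⊢
    exact dvd_pow_self 2 fun e => by rw [e] at h4; omega
  · let D₁ : Subgroup (Subgroup.centralizer {x}) := (Dd a t).subgroupOf _
    have e : MulAction.stabilizer (Im Ω x) (fxBase hx) ⊓
        MulAction.stabilizer (Im Ω x) (fxT h hx • fxBase hx) = D₁.map (fxProj Ω x) := by
      ext y
      constructor
      · intro hy
        obtain ⟨g, rfl⟩ := fxProj_surjective x y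
        exact ⟨g, ⟨(hstab g).1 hy.1, (hstab2 g).1 hy.2⟩, rfl⟩
      · rintro ⟨g, hg, rfl⟩
        exact ⟨(hstab g).2 hg.1, (hstab2 g).2 hg.2⟩
    rw [e]
    refine Odd.of_dvd_nat h.setup.odd_card ((Subgroup.card_map_dvd D₁ (fxProj Ω x)).trans ?_)
    rw [← Subgroup.card_map_of_injective (Subgroup.subtype_injective (Subgroup.centralizer {x}))
      (K := D₁)]
    exact Subgroup.card_dvd_of_le (Subgroup.map_le_iff_le_comap.2 le_rfl)
  · haveI := Fintype.ofFinite (Zz G a ⊓ Subgroup.centralizer {x} : Subgroup G)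
    rw [Nat.card_eq_fintype_card] at h4
    obtain ⟨u, hu, u', hu', hne'⟩ : ∃ u : (Zz G a ⊓ Subgroup.centralizer {x} : Subgroup G), u ≠ 1 ∧
        ∃ u' : (Zz G a ⊓ Subgroup.centralizer {x} : Subgroup G), u' ≠ 1 ∧ u ≠ u' := by
      obtain ⟨p, q, r, hpq, hpr, hqr⟩ := Fintype.two_lt_card_iff.1 (by omega :
        2 < Fintype.card (Zz G a ⊓ Subgroup.centralizer {x} : Subgroup G))
      by_cases hp : p = 1
      · exact ⟨q, fun e => hpq (hp.trans e.symm), r, fun e => hpr (hp.trans e.symm), hqr⟩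
      by_cases hq : q = 1
      · exact ⟨p, hp, r, fun e => hqr (hq.trans e.symm), hpr⟩
      exact ⟨p, hp, q, hq, hpq⟩
    let i : (Zz G a ⊓ Subgroup.centralizer {x} : Subgroup G) →* Subgroup.centralizer {x} :=
      Subgroup.inclusion inf_le_right
    have hi : ∀ y : (Zz G a ⊓ Subgroup.centralizer {x} : Subgroup G), (i y : G) ∈ Q := fun y => h.Zz_le y.2.1
    have hinj : ∀ y, fxProj Ω x (i y) = 1 → y = 1 := fun y hy =>
      Subtype.ext (congrArg (Subtype.val : Subgroup.centralizer {x} → G) (h.eq_one_of_fxProj hx (hi y) hy) :)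
    have hsq : ∀ y, i y * i y = 1 := fun y => Subtype.ext ((h.mem_Zz.1 y.2.1).2)
    refine ⟨fxProj Ω x (i u), fxProj Ω x (i u'), fun e => hu (hinj u e), fun e => hu' (hinj u' e), ?_,
      by rw [← map_mul, hsq, map_one], by rw [← map_mul, hsq, map_one], ?_⟩
    · intro e
      refine hne' (inv_mul_eq_one.1 (hinj (u⁻¹ * u') ?_))
      rw [map_mul, map_mul, map_inv, map_inv, e, inv_mul_cancel]
    · rw [← map_mul (fxProj Ω x) (i u), ← map_mul (fxProj Ω x) (i u')]
      congr 1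
      exact Subtype.ext (h.Zz_central u.2.1 (hi u'))
  · have h1 : (⟨x, Subgroup.mem_centralizer_singleton_iff.2 rfl⟩ : Subgroup.centralizer {x}) ∈
        (fxProj Ω x).ker := (fxProj_eq_one_iff x _).2 fun b => b.2
    have h2' : 1 < Nat.card (fxProj Ω x).ker := by
      haveI : Nontrivial (fxProj Ω x).ker :=
        ⟨⟨⟨_, h1⟩, 1, fun e => hx1 (congrArg (fun y : (fxProj Ω x).ker => ((y : Subgroup.centralizer {x}) : G)) e)⟩⟩
      exact Finite.one_lt_card
    have h3' := Subgroup.card_eq_card_quotient_mul_card_subgroup (fxProj Ω x).ker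
    rw [Nat.card_congr (QuotientGroup.quotientKerEquivOfSurjective _ (fxProj_surjective x)).toEquiv] at h3'
    have h4' : Nat.card (Subgroup.centralizer ({x} : Set G)) ≤ Nat.card G :=
      Nat.card_le_card_of_injective _ Subtype.val_injective
    have h5 : Nat.card (Im Ω x) < Nat.card (Im Ω x) * Nat.card (fxProj Ω x).ker :=
      lt_mul_of_one_lt_right Nat.card_pos h2'
    omega

/-- A member of the `Ww` of the induced group comes from an element of `Dd` centralising `C_Zz(x)`. -/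
theorem Hyp.exists_of_mem_Ww (h : Hyp G Ω a t Q) {x : G} (hx : x ∈ Vv a t)
    (hI : Hyp (Im Ω x) (Fx Ω x) (fxBase hx) (fxT h hx) (fxQ Ω Q x)) {y : Im Ω x}
    (hy : y ∈ Ww (fxBase hx) (fxT h hx)) :
    ∃ d : Subgroup.centralizer {x}, (d : G) ∈ Dd a t ∧ fxProj Ω x d = y ∧
      ∀ z ∈ Zz G a, z ∈ Subgroup.centralizer {x} → z * (d : G) = (d : G) * z := by
  obtain ⟨d, rfl⟩ := fxProj_surjective x y
  obtain ⟨hyD, hyZ⟩ := hI.mem_Ww.1 hy
  have hd : (d : G) ∈ Dd a t := ⟨congrArg Subtype.val hyD.1, congrArg Subtype.val hyD.2⟩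
  refine ⟨d, hd, rfl, fun z hz hzC => ?_⟩
  set z' : Subgroup.centralizer {x} := ⟨z, hzC⟩ with hz'
  have hzZ : fxProj Ω x z' ∈ Zz (Im Ω x) (fxBase hx) := hI.mem_Zz.2
    ⟨Subtype.ext (h.mem_Zz.1 hz).1, by
      rw [← map_mul, show z' * z' = 1 from Subtype.ext (h.mem_Zz.1 hz).2, map_one]⟩
  have hc := hyZ _ hzZ
  have h1 : (d * z' * d⁻¹) * z'⁻¹ = 1 := by
    refine h.eq_one_of_fxProj hx (g := (d * z' * d⁻¹) * z'⁻¹)
      (h.Zz_le (mul_mem (h.Zz_conj hd.1 hz) (inv_mem hz))) ?_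
    rw [map_mul, map_mul, map_mul, map_inv, map_inv, ← hc]
    group
  have h2 : (d : G) * z * (d : G)⁻¹ * z⁻¹ = 1 := congrArg Subtype.val h1
  rw [mul_inv_eq_one, mul_inv_eq_iff_eq_mul] at h2
  exact h2.symm

end Cfsg.Lib.RankOneSuzuki
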