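import Cfsg.Agent.Lib.RankOneSuzuki.Setup
import Cfsg.Agent.Lib.RankOneSuzuki.Concl
import Cfsg.Agent.Lib.StrongEmb.RankOne
import Cfsg.Agent.S1163
import Cfsg.Prelude.Def_Exceptional
import Cfsg.Prelude.Def_Involutions

/-!
# Suzuki's rank-one theorem: simple groups with a strongly embedded subgroup

A strongly embedded subgroup with a normal subgroup regular on the other cosets gives the rank-one set-up,
and in a simple group the normal subgroup of the conclusion is the whole group.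
-/

set_option autoImplicit false
set_option linter.style.haveILetI false
set_option linter.unusedSectionVars false

namespace Cfsg.Lib.RankOneSuzuki

open Cfsg Cfsg.Lib.Invol

universe u

variable {G : Type u} [Group G] [Finite G] [IsSimpleGroup G] {H Q : Subgroup G}

/-- A simple group acts faithfully on the cosets of a strongly embedded subgroup. -/
theorem faithful_of_stronglyEmbedded (hH : IsStronglyEmbedded H) : FaithfulSMul G (G ⧸ H) := by
  have hcore : H.normalCore = ⊥ := by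
    rcases (Subgroup.normalCore_normal H).eq_bot_or_eq_top with e | e
    · exact e
    · exact absurd (eq_top_iff.2 (e ▸ H.normalCore_le)) hH.1
  refine ⟨fun {x y} hxy => ?_⟩
  have h1 : MulAction.toPermHom G (G ⧸ H) x = MulAction.toPermHom G (G ⧸ H) y := Equiv.ext hxy
  have h2 : x⁻¹ * y ∈ H.normalCore := by
    rw [Subgroup.normalCore_eq_ker, MonoidHom.mem_ker, map_mul, map_inv, h1, inv_mul_cancel]
  rw [hcore, Subgroup.mem_bot, inv_mul_eq_one] at h2
  exact h2

/-- The rank-one set-up on the cosets of a strongly embedded subgroup. -/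
theorem exists_hyp_of_stronglyEmbedded (hH : IsStronglyEmbedded H) (hQH : Q ≤ H)
    (hQn : (Q.subgroupOf H).Normal)
    (htrans : ∀ g₁ g₂ : G, g₁ ∉ H → g₂ ∉ H → ∃ u ∈ Q, g₂⁻¹ * (u * g₁) ∈ H)
    (hreg : ∀ g : G, g ∉ H → ∀ u ∈ Q, g⁻¹ * (u * g) ∈ H → u = 1) :
    ∃ t : G, Hyp G (G ⧸ H) (QuotientGroup.mk 1) t Q := by
  set a : G ⧸ H := QuotientGroup.mk 1 with ha
  obtain ⟨t, htH, ht2⟩ := se_exists_outside hH
  have hstab : MulAction.stabilizer G a = H := by
    ext g
    rw [MulAction.mem_stabilizer_iff, ha, smul_coset_one_eq]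
  have hne : ∀ x : G ⧸ H, x ≠ a → ∀ g : G, QuotientGroup.mk g = x → g ∉ H := by
    intro x hx g hg hgH
    refine hx (hg ▸ ?_)
    rw [ha, QuotientGroup.eq]
    simpa using H.inv_mem hgH
  -- `Q` is transitive on the other points, and regular
  have hQtr : ∀ x y : G ⧸ H, x ≠ a → y ≠ a → ∃ u ∈ Q, u • x = y := by
    intro x y hx hy
    obtain ⟨g, rfl⟩ := QuotientGroup.mk_surjective x
    obtain ⟨g', rfl⟩ := QuotientGroup.mk_surjective y
    obtain ⟨u, hu, hug⟩ := htrans g g' (hne _ hx g rfl) (hne _ hy g' rfl)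
    refine ⟨u, hu, ?_⟩
    rw [MulAction.Quotient.smul_mk, smul_eq_mul, eq_comm, QuotientGroup.eq]
    exact hug
  have hta : t • a ≠ a := fun e => htH (smul_coset_one_eq.1 e)
  have hQreg : ∀ u ∈ Q, u • (t • a) = t • a → u = 1 := by
    intro u hu e
    rw [ha, MulAction.Quotient.smul_mk, smul_eq_mul, mul_one] at e
    exact hreg t htH u hu (by simpa [mul_assoc] using smul_coset_eq_iff.1 e)
  have hfixQ : ∀ u ∈ Q, u • a = a := fun u hu => smul_coset_one_eq.2 (hQH hu)
  -- the two point stabiliser has odd order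
  have hDodd : Odd (Nat.card ↥(MulAction.stabilizer G a ⊓ MulAction.stabilizer G (t • a))) := by
    rw [hstab, MulAction.stabilizer_smul_eq_stabilizer_map_conj, hstab]
    exact hH.2.2 t htH
  have hsup : Q ⊔ (MulAction.stabilizer G a ⊓ MulAction.stabilizer G (t • a)) = MulAction.stabilizer G a := by
    refine le_antisymm (sup_le (hQH.trans hstab.ge) inf_le_left) fun g hg => ?_
    have hgta : g • t • a ≠ a := fun e => hta (MulAction.injective g (e.trans
      (MulAction.mem_stabilizer_iff.1 hg).symm))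
    obtain ⟨u, hu, hue⟩ := hQtr _ _ hgta hta
    have h1 : u * g ∈ MulAction.stabilizer G a ⊓ MulAction.stabilizer G (t • a) := by
      refine ⟨?_, ?_⟩
      · change (u * g) • a = a
        rw [mul_smul, MulAction.mem_stabilizer_iff.1 hg, hfixQ u hu]
      · change (u * g) • t • a = t • a
        rw [mul_smul, hue]
    rw [← inv_mul_cancel_left u g]
    exact Subgroup.mul_mem_sup (Q.inv_mem hu) h1
  have hdisj : Q ⊓ MulAction.stabilizer G (t • a) = ⊥ := by
    rw [eq_bot_iff]
    intro u hu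
    exact Subgroup.mem_bot.2 (hQreg u hu.1 hu.2)
  have hconj : ∀ g ∈ MulAction.stabilizer G a, ∀ x ∈ Q, g * x * g⁻¹ ∈ Q := by
    intro g hg x hx
    rw [hstab] at hg
    exact hQn.conj_mem ⟨x, hQH hx⟩ hx ⟨g, hg⟩
  have hQeven : Even (Nat.card Q) := by
    by_contra hcon
    rw [Nat.not_even_iff_odd] at hcon
    obtain ⟨s, hs, hs2⟩ := exists_involution_of_even hH.2.1
    set D := MulAction.stabilizer G a ⊓ MulAction.stabilizer G (t • a) with hD
    have hsS : s ∈ Q ⊔ D := by rw [hsup, hstab]; exact hs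
    have hDn : D ≤ Subgroup.normalizer (Q : Set G) := fun d hd => Subgroup.mem_normalizer_iff.2
      fun x => ⟨hconj d hd.1 x, fun hx => by
        simpa [mul_assoc] using hconj d⁻¹ (inv_mem hd.1) _ hx⟩
    obtain ⟨u, hu, d, hd, rfl⟩ : ∃ u ∈ Q, ∃ d ∈ D, u * d = s := by
      have h1 : s ∈ ((Q ⊔ D : Subgroup G) : Set G) := hsS
      rw [Subgroup.coe_mul_of_right_le_normalizer_left Q D hDn] at h1
      exact Set.mem_mul.1 h1
    have h2 : u * (d * u * d⁻¹) * (d * d) = 1 := by
      have := pow_orderOf_eq_one (u * d)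
      rw [hs2, pow_two] at this
      calc u * (d * u * d⁻¹) * (d * d) = u * d * (u * d) := by group
        _ = 1 := this
    have hdd : d * d ∈ Q := by
      have h3 : u * (d * u * d⁻¹) ∈ Q := mul_mem hu (hconj d hd.1 u hu)
      have h4 : d * d = (u * (d * u * d⁻¹))⁻¹ := eq_inv_of_mul_eq_one_right h2
      exact h4 ▸ inv_mem h3
    have hdd1 : d * d = 1 := by
      have : d * d ∈ Q ⊓ MulAction.stabilizer G (t • a) := ⟨hdd, mul_mem hd.2 hd.2⟩
      rw [hdisj] at this
      exact Subgroup.mem_bot.1 this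
    have hd1 : d = 1 := by
      have h5 : orderOf d ∣ 2 := orderOf_dvd_of_pow_eq_one (by rw [pow_two, hdd1])
      have h6 : Odd (orderOf d) := hDodd.of_dvd_nat (Subgroup.orderOf_dvd_natCard D hd)
      rcases (Nat.dvd_prime Nat.prime_two).1 h5 with e | e
      · exact orderOf_eq_one_iff.1 e
      · rw [e] at h6; exact absurd h6 (by decide)
    rw [hd1, mul_one] at hs2
    have h7 := hcon.of_dvd_nat (Subgroup.orderOf_dvd_natCard Q hu)
    rw [hs2] at h7
    exact absurd h7 (by decide)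
  have h2t : MulAction.IsMultiplyPretransitive G (G ⧸ H) 2 := by
    refine MulAction.is_two_pretransitive_iff.mpr fun {b₁ b₂ c₁ c₂} hb hc => ?_
    obtain ⟨g, rfl⟩ := MulAction.exists_smul_eq G a b₁
    obtain ⟨g', rfl⟩ := MulAction.exists_smul_eq G a c₁
    have h1 : g⁻¹ • b₂ ≠ a := fun e => hb (by rw [← e, smul_inv_smul])
    have h2 : g'⁻¹ • c₂ ≠ a := fun e => hc (by rw [← e, smul_inv_smul])
    obtain ⟨u, hu, hue⟩ := hQtr _ _ h1 h2
    refine ⟨g' * u * g⁻¹, ?_, ?_⟩
    · rw [mul_smul, mul_smul, inv_smul_smul, hfixQ u hu]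
    · rw [mul_smul, mul_smul, hue, smul_inv_smul]
  refine ⟨t, ⟨{ two_transitive := h2t, mul_self := ?_, ne_one := ?_, not_mem := ?_,
                le := hQH.trans hstab.ge, conj_mem := hconj, inf_eq_bot := hdisj, sup_eq := hsup,
                even_card := hQeven, odd_card := hDodd }, ?_⟩⟩
  · rw [← pow_two, ← ht2, pow_orderOf_eq_one]
  · rintro rfl
    rw [orderOf_one] at ht2
    omega
  · rw [hstab]; exact htH
  -- two commuting involutions, as `G` is simple
  by_contra hcon
  have hone : ¬ ∃ s t : G, s ∈ H ∧ t ∈ H ∧ orderOf s = 2 ∧ orderOf t = 2 ∧ s ≠ t ∧ Commute s t := by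
    rintro ⟨x, y, -, -, hx, hy, hxy, hc⟩
    refine hcon ⟨x, y, ?_, ?_, hxy, ?_, ?_, hc.eq⟩
    · rintro rfl; rw [orderOf_one] at hx; omega
    · rintro rfl; rw [orderOf_one] at hy; omega
    · rw [← pow_two, ← hx, pow_orderOf_eq_one]
    · rw [← pow_two, ← hy, pow_orderOf_eq_one]
  have hcov := Cfsg.Lib.StrongEmb.oddCore_sup_eq_top hH hone
  rcases (show (oddCore G).Normal from inferInstance).eq_bot_or_eq_top with e | e
  · rw [e, bot_sup_eq] at hcov
    exact hH.1 hcov
  · have hodd : Odd (Nat.card (oddCore G)) := ZStar.odd_card_oddCore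
    rw [e, Subgroup.card_top] at hodd
    exact Nat.not_even_iff_odd.2 hodd
      (hH.2.1.two_dvd.trans H.card_subgroup_dvd_card |> even_iff_two_dvd.2)

/-- In a simple group the three cases of `Concl` are the three simple groups. -/
theorem cases_of_concl (hev : Even (Nat.card G)) (h : Concl G) :
    (∃ (F : Type) (_ : Field F) (_ : Fintype F), CharP F 2 ∧ 4 ≤ Fintype.card F ∧
        Nonempty (G ≃* Matrix.ProjectiveSpecialLinearGroup (Fin 2) F)) ∨
      Cfsg.IsSuzuki G ∨
      (∃ (F : Type) (_ : Field F) (_ : Fintype F) (q : ℕ), Fintype.card F = q ^ 2 ∧ Even q ∧ 4 ≤ q ∧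
        Nonempty (G ≃* Cfsg.PSU 3 F q)) := by
  obtain ⟨L, hLn, hodd, hL⟩ := h
  have htop : L = ⊤ := by
    rcases hLn.eq_bot_or_eq_top with e | e
    · rw [e, Subgroup.index_bot] at hodd
      exact absurd hev (Nat.not_even_iff_odd.2 hodd)
    · exact e
  subst htop
  have e : G ≃* (⊤ : Subgroup G) := Subgroup.topEquiv.symm
  rcases hL with ⟨F, _, _, ⟨n, hn, hF⟩, ⟨φ⟩⟩ | ⟨F, _, _, m, hm, hF, ⟨φ⟩⟩ | ⟨F, _, _, n, hn, hF, ⟨φ⟩⟩
  · refine Or.inl ⟨F, inferInstance, inferInstance, ?_, ?_, ⟨e.trans φ⟩⟩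
    · haveI : Fact (Nat.Prime 2) := ⟨Nat.prime_two⟩
      refine charP_of_card_eq_prime_pow (f := n) ?_
      rw [Fintype.card_eq_nat_card] at *; exact hF
    · rw [hF]
      exact le_trans (by norm_num) (Nat.pow_le_pow_right (by norm_num : 1 ≤ 2) hn)
  · refine Or.inr (Or.inl ⟨inferInstance, m, hm, ?_⟩)
    rw [Nat.card_congr (e.trans φ).toEquiv, (Cfsg.Agent.S1163.result hm hF).1]
    ring
  · exact Or.inr (Or.inr ⟨F, inferInstance, inferInstance, 2 ^ n, hF,
      (Nat.even_pow).2 ⟨even_two, by omega⟩,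
      le_trans (by norm_num) (Nat.pow_le_pow_right (by norm_num : 1 ≤ 2) hn), ⟨e.trans φ⟩⟩)

end Cfsg.Lib.RankOneSuzuki
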