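import Mathlib.Data.Real.Basic
import Mathlib.Data.Nat.Log
import Mathlib.Tactic.Linarith
import Mathlib.Tactic.Positivity
import Mathlib.Tactic.FieldSimp
import Mathlib.Tactic.Ring
import Mathlib.Tactic.NormNum
import Mathlib.Tactic.IntervalCases

/-!
# The arithmetic behind "the regular normal subgroup is a 2-group"

`q = 2 ^ n` is the number of involutions of the point stabiliser plus one, `s` the order of the
Sylow 2-subgroup, `r` the order of its odd complement, `e` the semilinear part and `w` the order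
of the group induced by the linear centraliser.
-/

set_option autoImplicit false

namespace Cfsg.Lib.RankOneSuzuki

theorem cube_le_four_mul_two_pow {n : ℕ} (h : 5 ≤ n) : n ^ 3 ≤ 4 * 2 ^ n := by
  induction n, h using Nat.le_induction with
  | base => norm_num
  | succ m hm ih =>
    have h1 : (m + 1) ^ 3 ≤ 2 * m ^ 3 := by nlinarith [Nat.mul_le_mul hm hm, sq_nonneg m]
    rw [pow_succ 2 m]
    omega

/-- The weight bound: a character cannot fix too large a part of its space. -/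
theorem arith_key {q e w s r n : ℕ} (hn : 2 ≤ n) (hq : q = 2 ^ n) (he : Odd e) (hen : e ∣ n)
    (hs : q ≤ s) (hw : 1 ≤ w) (hw1 : w = 1 ∨ q * ((q - 1) * w + 1) ≤ s)
    (hr : 2 * (q - 1) * w + 1 ≤ r) (hr8 : q = 8 → w = 1 → 29 ≤ r) :
    0 < (r : ℝ) * ((s : ℝ) - 1) - e * w * ((q : ℝ) - 2 + s) ∧
      (r : ℝ) * (e : ℝ) ^ 3 * (s : ℝ) ^ 2 * (w : ℝ) ^ 2 <
        ((r : ℝ) * ((s : ℝ) - 1) - e * w * ((q : ℝ) - 2 + s)) ^ 2 * ((s : ℝ) - e) := by
  have hq4 : 4 ≤ q := hq ▸ (le_trans (by norm_num) (Nat.pow_le_pow_right (by norm_num : 0 < 2) hn))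
  have he1 : 1 ≤ e := he.pos
  have hen' : e ≤ n := Nat.le_of_dvd (by omega) hen
  have hnq : n < q := hq ▸ Nat.lt_two_pow_self
  have hqR : (4 : ℝ) ≤ q := by exact_mod_cast hq4
  have hsR : (q : ℝ) ≤ s := by exact_mod_cast hs
  have hwR : (1 : ℝ) ≤ w := by exact_mod_cast hw
  have heR : (1 : ℝ) ≤ e := by exact_mod_cast he1
  have hrR : 2 * ((q : ℝ) - 1) * w + 1 ≤ r := by
    have : ((2 * (q - 1) * w + 1 : ℕ) : ℝ) ≤ r := by exact_mod_cast hr
    push_cast [Nat.cast_sub (by omega : 1 ≤ q)] at this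
    exact this
  -- `q * w ≤ s` and `(q - 1) * w ≤ s - 1` in every case
  have hqw : (q : ℝ) * w ≤ s ∧ ((q : ℝ) - 1) * w ≤ (s : ℝ) - 1 := by
    rcases hw1 with rfl | h
    · constructor <;> push_cast <;> linarith
    · have h' : ((q * ((q - 1) * w + 1) : ℕ) : ℝ) ≤ s := by exact_mod_cast h
      push_cast [Nat.cast_sub (by omega : 1 ≤ q)] at h'
      constructor <;> nlinarith
  set X := (r : ℝ) * ((s : ℝ) - 1) - e * w * ((q : ℝ) - 2 + s) with hX
  -- reduce to a lower bound for `X`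
  suffices ∃ c : ℝ, 0 < c ∧ c * (r * s) ≤ X ∧ (e : ℝ) ^ 3 * w ^ 2 < c ^ 2 * r * ((s : ℝ) - e) by
    obtain ⟨c, hc, hcX, hlt⟩ := this
    have hrs : (0 : ℝ) < r * s := mul_pos (by nlinarith) (by linarith)
    have hX0 : 0 < X := lt_of_lt_of_le (mul_pos hc hrs) hcX
    have hse : (0 : ℝ) < (s : ℝ) - e := by
      have : (e : ℝ) < s := by exact_mod_cast (show e < s by omega)
      linarith
    refine ⟨hX0, ?_⟩
    have h2 : (c * (r * s)) ^ 2 ≤ X ^ 2 := pow_le_pow_left₀ (mul_pos hc hrs).le hcX 2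
    have h3 : (r : ℝ) * s ^ 2 * ((e : ℝ) ^ 3 * w ^ 2) < r * s ^ 2 * (c ^ 2 * r * ((s : ℝ) - e)) :=
      mul_lt_mul_of_pos_left hlt (mul_pos (by nlinarith) (by nlinarith))
    nlinarith [mul_le_mul_of_nonneg_right h2 hse.le]
  rcases eq_or_lt_of_le he1 with he' | he'
  · -- the semilinear part is trivial
    subst he'
    have h6 : 6 * (w : ℝ) ≤ r := by nlinarith
    have hs3 : 3 * (w : ℝ) ≤ (s : ℝ) - 1 := by nlinarith [hqw.2]
    refine ⟨5 / 12, by norm_num, ?_, ?_⟩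
    · rw [hX]; push_cast
      nlinarith [mul_le_mul_of_nonneg_left h6 (by linarith : (0 : ℝ) ≤ s),
        mul_le_mul_of_nonneg_left hsR (by linarith : (0 : ℝ) ≤ w),
        mul_le_mul_of_nonneg_left (by linarith : (4 : ℝ) ≤ s) (by linarith : (0 : ℝ) ≤ r)]
    · push_cast
      nlinarith [mul_le_mul h6 hs3 (by linarith) (by linarith)]
  have he3 : 3 ≤ e := by obtain ⟨j, rfl⟩ := he; omega
  rcases Nat.lt_or_ge n 5 with hn5 | hn5
  · -- then `n = 3` and `e = 3`
    obtain ⟨rfl, rfl⟩ : n = 3 ∧ e = 3 := by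
      interval_cases n <;> interval_cases e <;> revert he hen <;> decide
    have hq8 : q = 8 := by simpa using hq
    subst hq8
    rcases eq_or_lt_of_le hw with rfl | hw2
    · have : (29 : ℝ) ≤ r := by exact_mod_cast hr8 rfl rfl
      refine ⟨2 / 3, by norm_num, ?_, ?_⟩
      · rw [hX]; push_cast at *
        nlinarith
      · push_cast at *
        nlinarith
    · have h := hw1.resolve_left (by omega)
      have h' : ((8 * ((8 - 1) * w + 1) : ℕ) : ℝ) ≤ s := by exact_mod_cast h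
      push_cast at h'
      refine ⟨1 / 2, by norm_num, ?_, ?_⟩
      · rw [hX]; push_cast at *
        nlinarith [mul_le_mul_of_nonneg_left hrR (by linarith : (0 : ℝ) ≤ s)]
      · push_cast at *
        nlinarith [mul_le_mul_of_nonneg_right hrR (by linarith : (0 : ℝ) ≤ (s : ℝ) - 3),
          mul_le_mul_of_nonneg_left h' (by linarith : (0 : ℝ) ≤ w)]
  have hq32 : 32 ≤ q := hq ▸ (le_trans (by norm_num) (Nat.pow_le_pow_right (by norm_num : 0 < 2) hn5))
  have he4 : 4 * e ≤ q := by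
    have h1 := cube_le_four_mul_two_pow hn5
    have h2 : 25 * n ≤ n ^ 3 := by
      rw [pow_succ, pow_two]
      exact Nat.mul_le_mul_right _ (Nat.mul_le_mul hn5 hn5)
    rw [← hq] at h1
    omega
  have hcube : e ^ 3 ≤ 4 * q :=
    (Nat.pow_le_pow_left hen' 3).trans (hq ▸ cube_le_four_mul_two_pow hn5)
  have hq32R : (32 : ℝ) ≤ q := by exact_mod_cast hq32
  have he4R : 4 * (e : ℝ) ≤ q := by exact_mod_cast he4
  have hcubeR : (e : ℝ) ^ 3 ≤ 4 * q := by exact_mod_cast hcube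
  refine ⟨7 / 10, by norm_num, ?_, ?_⟩
  · have h1 : (e : ℝ) * w * ((q : ℝ) - 2 + s) ≤ (q / 4) * w * (2 * s) := by
      gcongr <;> linarith
    have h2 : (q : ℝ) * w ≤ 32 / 31 * (r / 2) := by nlinarith
    rw [hX]
    nlinarith [mul_le_mul_of_nonneg_left h2 (by linarith : (0 : ℝ) ≤ s)]
  · have h1 : (3 / 4) * (s : ℝ) ≤ s - e := by linarith
    have h2 : (e : ℝ) ^ 3 * w ^ 2 ≤ 4 * s * w := by
      nlinarith [mul_le_mul_of_nonneg_right hcubeR (sq_nonneg (w : ℝ)),
        mul_le_mul_of_nonneg_right hqw.1 (by linarith : (0 : ℝ) ≤ w)]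
    have h3 : 62 * (w : ℝ) ≤ r := by nlinarith
    nlinarith [mul_le_mul h3 h1 (by linarith) (by linarith),
      mul_pos (by linarith : (0 : ℝ) < s) (by linarith : (0 : ℝ) < w)]

/-- The bound in the form used: no weight `β` within the norm bound can absorb the deficit. -/
theorem arith_final {q e w s r n : ℕ} (hn : 2 ≤ n) (hq : q = 2 ^ n) (he : Odd e) (hen : e ∣ n)
    (hs : q ≤ s) (hw : 1 ≤ w) (hw1 : w = 1 ∨ q * ((q - 1) * w + 1) ≤ s)
    (hr : 2 * (q - 1) * w + 1 ≤ r) (hr8 : q = 8 → w = 1 → 29 ≤ r) {β : ℝ}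
    (hβ : ((r : ℝ) * β - 1) ^ 2 * ((s : ℝ) - e) ≤ r * e) :
    (s : ℝ) * e * w * β + ((q : ℝ) - 2) * e * w / r < (s : ℝ) - 1 := by
  obtain ⟨hX, hlt⟩ := arith_key hn hq he hen hs hw hw1 hr hr8
  have hr0 : (0 : ℝ) < r := by exact_mod_cast (show 0 < r by omega)
  by_contra h
  rw [not_lt] at h
  have h1 : (r : ℝ) * ((s : ℝ) - 1) - e * w * ((q : ℝ) - 2 + s) ≤ s * e * w * (r * β - 1) := by
    have h2 := mul_le_mul_of_nonneg_left h hr0.le
    rw [mul_add (r : ℝ), mul_div_cancel₀ _ hr0.ne'] at h2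
    linarith
  have h3 := pow_le_pow_left₀ hX.le h1 2
  have hse : (0 : ℝ) ≤ (s : ℝ) - e := by
    have hen' : e ≤ n := Nat.le_of_dvd (by omega) hen
    have hnq : n < q := hq ▸ Nat.lt_two_pow_self
    have : (e : ℝ) ≤ s := by exact_mod_cast (show e ≤ s by omega)
    linarith
  have h4 := mul_le_mul_of_nonneg_left hβ (sq_nonneg ((s : ℝ) * e * w))
  nlinarith [mul_le_mul_of_nonneg_right h3 hse]

end Cfsg.Lib.RankOneSuzuki
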