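import Cfsg.Agent.Lib.StrongEmb.TwoNilp
import Mathlib.GroupTheory.NoncommPiCoprod

/-!
# Weights of the principal 2-block at an involution

The principal block weighted by the squares of the values at an involution `s` sees only products
of two conjugates of `s`; on the section of a 2-element it is constant on the odd core of the
centraliser.
-/

set_option autoImplicit false
set_option linter.unusedSectionVars false
set_option linter.style.haveILetI false
set_option maxHeartbeats 400000

namespace Cfsg.Lib.RankOneSuzuki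

open Cfsg Cfsg.Lib.Block
open scoped ComplexConjugate Classical

universe u

variable {G : Type u} [Group G] [Fintype G]

/-- The number of ways of writing an element as a product of two conjugates of `s`. -/
noncomputable def pairCount (s z : G) : ℕ :=
  ((Char.classFinset s ×ˢ Char.classFinset s).filter fun p => p.1 * p.2 = z).card

/-- The class function counting products of two conjugates of `s`. -/
noncomputable def sqSum (s z : G) : ℂ :=
  ∑ χ : IrrCharacter G, (χ : G → ℂ) s * (χ : G → ℂ) s / (χ : G → ℂ) 1 * (χ : G → ℂ) z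

theorem conj_apply_self {s : G} (hs : s * s = 1) (χ : IrrCharacter G) :
    conj ((χ : G → ℂ) s) = (χ : G → ℂ) s := by
  rw [← χ.2.isCharacter.apply_inv, inv_eq_of_mul_eq_one_left hs]

theorem apply_eq_re {s : G} (hs : s * s = 1) (χ : IrrCharacter G) :
    (χ : G → ℂ) s = (((χ : G → ℂ) s).re : ℂ) :=
  (Complex.conj_eq_iff_re.1 (conj_apply_self hs χ)).symm

theorem class_sq {s v : G} (hs : s * s = 1) (hv : v ∈ Char.classFinset s) : v * v = 1 := by
  obtain ⟨g, rfl⟩ := isConj_iff.1 (Char.mem_classFinset.1 hv)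
  rw [show g * s * g⁻¹ * (g * s * g⁻¹) = g * (s * s) * g⁻¹ by group, hs]
  group

theorem class_ne_one {s v : G} (hs1 : s ≠ 1) (hv : v ∈ Char.classFinset s) : v ≠ 1 := by
  obtain ⟨g, rfl⟩ := isConj_iff.1 (Char.mem_classFinset.1 hv)
  exact fun h => hs1 (conj_eq_one_iff.1 h)

theorem pairCount_inv {s : G} (hs : s * s = 1) (z : G) : pairCount s z⁻¹ = pairCount s z := by
  refine Finset.card_bij (fun p _ => (p.2, p.1)) (fun p hp => ?_)
    (fun p _ q _ e => by simpa [Prod.ext_iff, and_comm] using e) fun p hp => ?_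
  · obtain ⟨hm, e⟩ := Finset.mem_filter.1 hp
    obtain ⟨h1, h2⟩ := Finset.mem_product.1 hm
    refine Finset.mem_filter.2 ⟨Finset.mem_product.2 ⟨h2, h1⟩, ?_⟩
    rw [← inv_inv z, ← e, mul_inv_rev, inv_eq_of_mul_eq_one_left (class_sq hs h1),
      inv_eq_of_mul_eq_one_left (class_sq hs h2)]
  · obtain ⟨hm, e⟩ := Finset.mem_filter.1 hp
    obtain ⟨h1, h2⟩ := Finset.mem_product.1 hm
    refine ⟨(p.2, p.1), Finset.mem_filter.2 ⟨Finset.mem_product.2 ⟨h2, h1⟩, ?_⟩, rfl⟩
    rw [← e, mul_inv_rev, inv_eq_of_mul_eq_one_left (class_sq hs h1),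
      inv_eq_of_mul_eq_one_left (class_sq hs h2)]

theorem isClassFunction_sqSum (s : G) : IsClassFunction G (sqSum s) := fun g x =>
  Finset.sum_congr rfl fun χ _ => by rw [χ.2.isClassFunction g x]

theorem classInner_sqSum (s : G) (η : IrrCharacter G) :
    classInner (sqSum s) (η : G → ℂ) = (η : G → ℂ) s * (η : G → ℂ) s / (η : G → ℂ) 1 := by
  have e : classInner (sqSum s) (η : G → ℂ) = ∑ χ : IrrCharacter G,
      (χ : G → ℂ) s * (χ : G → ℂ) s / (χ : G → ℂ) 1 * classInner (χ : G → ℂ) (η : G → ℂ) := by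
    simp only [classInner, sqSum, Finset.mul_sum, Finset.sum_mul]
    rw [Finset.sum_comm]
    exact Finset.sum_congr rfl fun χ _ => Finset.sum_congr rfl fun g _ => by ring
  rw [e, Finset.sum_eq_single η]
  · rw [Char.classInner_irr_self η.2, mul_one]
  · intro χ _ hne
    rw [Char.classInner_irr_ne χ.2 η.2 fun e => hne (Subtype.ext e), mul_zero]
  · exact fun e => absurd (Finset.mem_univ _) e

theorem class_card_mul (s : G) :
    ((Char.classFinset s).card : ℂ) * Nat.card (Subgroup.centralizer ({s} : Set G)) = Nat.card G := by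
  rw [Char.card_classFinset]
  exact_mod_cast Subgroup.index_mul_card _

theorem sqSum_eq {s : G} (hs : s * s = 1) (z : G) :
    sqSum s z = (Nat.card (Subgroup.centralizer ({s} : Set G)) : ℂ) ^ 2 / Nat.card G *
      pairCount s z := by
  have h1 := Char.card_class_product s s z⁻¹
  have h2 : ∑ χ : IrrCharacter G, (χ : G → ℂ) s * (χ : G → ℂ) s * conj ((χ : G → ℂ) z⁻¹) /
      (χ : G → ℂ) 1 = sqSum s z :=
    Finset.sum_congr rfl fun χ _ => by rw [χ.2.isCharacter.apply_inv, Complex.conj_conj]; ring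
  rw [h2] at h1
  rw [← pairCount_inv hs z]
  have hcl := class_card_mul s
  have hG : (Nat.card G : ℂ) ≠ 0 := Char.card_cast_ne_zero
  unfold pairCount
  rw [h1]
  field_simp
  linear_combination (-((sqSum s z) * ((Char.classFinset s).card *
    (Nat.card (Subgroup.centralizer ({s} : Set G)) : ℂ) + Nat.card G))) * hcl

variable {M : Ideal AlgInt} (hM : IsPModular 2 M)

include hM in
/-- The weighted principal block at a 2-element sees only products of two conjugates of `s`
lying at that element. -/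
theorem block_weight {s : G} (hs : s * s = 1) {u : G} (hu : ∃ k : ℕ, orderOf u = 2 ^ k)
    (hpair : ∀ i ∈ Char.classFinset s, ∀ j ∈ Char.classFinset s, pPt 2 (i * j) = u → i * j = u) :
    ∑ χ ∈ (principalBlock M G).toFinset,
        (χ : G → ℂ) s * (χ : G → ℂ) s / (χ : G → ℂ) 1 * (χ : G → ℂ) u =
      principalDegSq M (Subgroup.centralizer ({u} : Set G)) *
        (Nat.card (Subgroup.centralizer ({s} : Set G)) : ℂ) ^ 2 /
          (Nat.card (Subgroup.centralizer ({u} : Set G)) * Nat.card G) * pairCount s u := by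
  haveI : Fact (Nat.Prime 2) := ⟨Nat.prime_two⟩
  have hpu : pPt 2 u = u := by
    obtain ⟨k, hk⟩ := hu
    exact (eq_pPt (mul_one u) (Commute.one_right u) hk (by simp)).symm
  set B := (principalBlock M G).toFinset with hB
  set K : G → ℂ := fun g => ∑ χ ∈ B, (χ : G → ℂ) u * conj ((χ : G → ℂ) g) with hK
  have hzero : ∀ g, g ∉ Char.classFinset u → K g * sqSum s g = 0 := by
    intro g hg
    by_cases hc : IsConj u (pPt 2 g)
    · obtain ⟨x, hx⟩ := isConj_iff.1 hc.symm
      rw [← isClassFunction_sqSum s g x, sqSum_eq hs]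
      rcases Nat.eq_zero_or_pos (pairCount s (x * g * x⁻¹)) with h0 | h0
      · rw [h0, Nat.cast_zero, mul_zero, mul_zero]
      · obtain ⟨⟨i, j⟩, hp⟩ := Finset.card_pos.1 h0
        obtain ⟨hm, e⟩ := Finset.mem_filter.1 hp
        obtain ⟨hi, hj⟩ := Finset.mem_product.1 hm
        simp only at e hi hj
        have h1 : pPt 2 (i * j) = u := by rw [e, pPt_conj, hx]
        exact absurd (Char.mem_classFinset.2 (isConj_iff.2 ⟨x, by
          rw [← e, hpair i hi j hj h1]⟩).symm) hg
    · have : K g = 0 := by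
        show ∑ χ ∈ B, (χ : G → ℂ) u * conj ((χ : G → ℂ) g) = 0
        rw [hB, ← finsum_mem_eq_toFinset_sum]
        exact sum_block_mul_conj_eq_zero hM (vInt_indVec hM isPBlock_principal) (by rwa [hpu])
      rw [this, zero_mul]
  have hval : ∀ g ∈ Char.classFinset u, K g * sqSum s g =
      principalDegSq M (Subgroup.centralizer ({u} : Set G)) * sqSum s u := by
    intro g hg
    obtain ⟨x, rfl⟩ := isConj_iff.1 (Char.mem_classFinset.1 hg)
    rw [isClassFunction_sqSum s u x]
    congr 1
    have h := principal_column hM hu hu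
    rw [if_pos (IsConj.refl u), finsum_mem_eq_toFinset_sum] at h
    rw [← h]
    exact Finset.sum_congr rfl fun χ _ => by rw [χ.2.isClassFunction u x]
  have e : ∑ χ ∈ B, (χ : G → ℂ) s * (χ : G → ℂ) s / (χ : G → ℂ) 1 * (χ : G → ℂ) u =
      (Nat.card G : ℂ)⁻¹ * ∑ g : G, K g * sqSum s g := by
    rw [Finset.sum_congr rfl fun χ _ => by rw [← classInner_sqSum s χ]]
    simp only [hK, classInner, Finset.mul_sum, Finset.sum_mul]
    rw [Finset.sum_comm]
    exact Finset.sum_congr rfl fun g _ => Finset.sum_congr rfl fun χ _ => by ring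
  rw [e, ← Finset.sum_subset (Finset.subset_univ (Char.classFinset u)) fun g _ hg => hzero g hg,
    Finset.sum_congr rfl hval, Finset.sum_const, nsmul_eq_mul, sqSum_eq hs]
  have hcl := class_card_mul u
  have hG : (Nat.card G : ℂ) ≠ 0 := Char.card_cast_ne_zero
  have hC : (Nat.card (Subgroup.centralizer ({u} : Set G)) : ℂ) ≠ 0 :=
    Nat.cast_ne_zero.2 Nat.card_pos.ne'
  field_simp
  linear_combination ((pairCount s u : ℂ) *
    principalDegSq M (Subgroup.centralizer ({u} : Set G))) * hcl

include hM in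
/-- The squares at an involution, summed over the principal block. -/
theorem block_sq {s : G} (hs : s * s = 1) (hs1 : s ≠ 1) :
    ∑ χ ∈ (principalBlock M G).toFinset, (χ : G → ℂ) s * (χ : G → ℂ) s =
      principalDegSq M (Subgroup.centralizer ({s} : Set G)) := by
  haveI : Fact (Nat.Prime 2) := ⟨Nat.prime_two⟩
  have hu : ∃ k : ℕ, orderOf s = 2 ^ k := ⟨1, by rw [Invol.orderOf_eq_two_of hs1 hs, pow_one]⟩
  have h := principal_column hM hu hu
  rw [if_pos (IsConj.refl s), finsum_mem_eq_toFinset_sum] at h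
  rw [← h]
  exact Finset.sum_congr rfl fun χ _ => by rw [conj_apply_self hs]

include hM in
/-- The principal block of a group lives on the quotient by any normal subgroup of odd order. -/
theorem principalDegSq_le (K N : Subgroup G) (hNK : N ≤ K)
    (hn : ∀ k ∈ K, ∀ x ∈ N, k * x * k⁻¹ ∈ N) (hodd : Odd (Nat.card N)) :
    ∃ P : ℕ, principalDegSq M K = (P : ℂ) ∧ P * Nat.card N ≤ Nat.card K := by
  haveI : Fact (Nat.Prime 2) := ⟨Nat.prime_two⟩
  letI : Fintype K := Fintype.ofFinite K
  set N' : Subgroup K := N.subgroupOf K with hN'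
  haveI : N'.Normal := ⟨fun x hx k => by
    rw [hN', Subgroup.mem_subgroupOf] at hx ⊢
    exact hn k k.2 x hx⟩
  letI : Fintype N' := Fintype.ofFinite N'
  have hcard : Nat.card N' = Nat.card N :=
    Nat.card_congr (Subgroup.subgroupOfEquivOfLe hNK).toEquiv
  have h2 : ¬ 2 ∣ Nat.card N' := by rw [hcard]; exact hodd.not_two_dvd_nat
  set P := ∑ ψ ∈ (principalBlock M K).toFinset, charDegree (ψ : K → ℂ) ^ 2 with hP
  refine ⟨P, ?_, ?_⟩
  · rw [principalDegSq, finsum_mem_eq_toFinset_sum, hP, Nat.cast_sum]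
    exact Finset.sum_congr rfl fun ψ _ => by rw [Nat.cast_pow]
  have hfix : ∀ ψ ∈ (principalBlock M K).toFinset,
      StrongEmb.TwoNilp.fixDim N' ψ = charDegree (ψ : K → ℂ) := by
    intro ψ hψ
    have h1 := StrongEmb.TwoNilp.avg_eq N' ψ
    rw [Finset.sum_congr rfl (fun (n : N') _ =>
      principal_trivial_on hM h2 (Set.mem_toFinset.1 hψ) n n.2), Finset.sum_const, nsmul_eq_mul,
      Finset.card_univ, ← Nat.card_eq_fintype_card,
      inv_mul_cancel_left₀ (Nat.cast_ne_zero.2 Nat.card_pos.ne'), apply_one_eq_charDegree] at h1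
    exact_mod_cast h1.symm
  have hsum : ∑ ψ : IrrCharacter K, charDegree (ψ : K → ℂ) * StrongEmb.TwoNilp.fixDim N' ψ *
      Nat.card N' = Nat.card K := by
    have h := StrongEmb.TwoNilp.sum_degree_fixDim (G := K) N'
    rw [eq_div_iff (Nat.cast_ne_zero.2 Nat.card_pos.ne')] at h
    simp only [apply_one_eq_charDegree] at h
    rw [← Finset.sum_mul]
    exact_mod_cast h
  calc P * Nat.card N
      = ∑ ψ ∈ (principalBlock M K).toFinset, charDegree (ψ : K → ℂ) *
          StrongEmb.TwoNilp.fixDim N' ψ * Nat.card N' := by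
        rw [hP, Finset.sum_mul, hcard]
        exact Finset.sum_congr rfl fun ψ hψ => by rw [hfix ψ hψ, pow_two]
    _ ≤ _ := Finset.sum_le_sum_of_subset (Finset.subset_univ _)
    _ = _ := hsum

include hM in
/-- The principal block is constant on the odd normal subgroups of the centraliser of a
2-element. -/
theorem apply_mul_odd {u x : G} (hu : ∃ k : ℕ, orderOf u = 2 ^ k) {N : Subgroup G}
    (hNC : N ≤ Subgroup.centralizer ({u} : Set G))
    (hn : ∀ k ∈ Subgroup.centralizer ({u} : Set G), ∀ y ∈ N, k * y * k⁻¹ ∈ N)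
    (hodd : Odd (Nat.card N)) (hx : x ∈ N) {χ : IrrCharacter G}
    (hχ : χ ∈ principalBlock M G) : (χ : G → ℂ) (u * x) = (χ : G → ℂ) u := by
  haveI : Fact (Nat.Prime 2) := ⟨Nat.prime_two⟩
  refine Cfsg.Agent.S0942.result 2 M hM u hu x ?_ χ hχ
  refine ⟨⟨x, hNC hx⟩, Core.le_pPrimeCore'
    (N := N.subgroupOf (Subgroup.centralizer ({u} : Set G))) ⟨fun y hy k => ?_⟩ ?_ hx, rfl⟩
  · rw [Subgroup.mem_subgroupOf] at hy ⊢
    exact hn k k.2 y hy
  · rw [Nat.card_congr (Subgroup.subgroupOfEquivOfLe hNC).toEquiv, Nat.coprime_comm,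
      Nat.prime_two.coprime_iff_not_dvd]
    exact hodd.not_two_dvd_nat

/-- The restriction to a product of two commuting subgroups, paired with a character of one. -/
theorem exists_nat_mult {A R : Subgroup G} [Fintype A] [Fintype R]
    (hc : ∀ (a : A) (x : R), Commute (a : G) x) (χ : IrrCharacter G) (μ : IrrCharacter R) :
    ∃ m : ℕ, ∑ a : A, ∑ x : R, (χ : G → ℂ) ((a : G) * x) * conj ((μ : R → ℂ) x) =
      (m : ℂ) * (Nat.card A * Nat.card R) := by
  let φ : A × R →* G := MonoidHom.noncommCoprod A.subtype R.subtype hc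
  have hf := χ.2.isCharacter.comp φ
  have hμ := μ.2.comp_surjective (MonoidHom.snd A R) Prod.snd_surjective
  obtain ⟨m, hm⟩ := hf.exists_nat_classInner hμ.isCharacter
  refine ⟨m, ?_⟩
  rw [← hm, classInner, Nat.card_prod, Nat.cast_mul, mul_comm,
    mul_inv_cancel_left₀ (mul_ne_zero (Nat.cast_ne_zero.2 Nat.card_pos.ne')
      (Nat.cast_ne_zero.2 Nat.card_pos.ne')), Fintype.sum_prod_type]
  rfl

end Cfsg.Lib.RankOneSuzuki
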