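import Cfsg.Agent.Lib.Char.PermLemma
import Cfsg.Agent.Lib.StrongEmb.TwoNilp
import Mathlib.Algebra.Order.BigOperators.Ring.Finset

/-!
# The norm bound on a fixed-point-free kernel with trivial intersections

A subgroup `R` meeting its conjugates trivially outside `A` can carry only part of the norm of an
irreducible character; if the multiplicities on `R` are constant on the orbits of a
fixed-point-free group `L` and divisible by `k`, the fixed space of `R` is small.
-/

set_option autoImplicit false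
set_option linter.unusedSectionVars false
set_option linter.style.haveILetI false
set_option maxHeartbeats 400000

namespace Cfsg.Lib.RankOneSuzuki

open Cfsg Cfsg.Lib.Block
open scoped ComplexConjugate Classical

universe u

/-- A fixed-point-free automorphism fixes only the trivial irreducible character. -/
theorem eq_one_of_twist_fixed {R : Type u} [Group R] [Finite R] (e : R ≃* R)
    (hfpf : ∀ r, e r = r → r = 1) {μ : IrrCharacter R}
    (hμ : ∀ r, (μ : R → ℂ) (e r) = (μ : R → ℂ) r) : (μ : R → ℂ) = fun _ => 1 := by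
  haveI : Finite (ConjClasses R) := Quotient.finite _
  have hcomp : ∀ χ : IrrCharacter R, IsIrrCharacter R fun r => (χ : R → ℂ) (e.symm r) :=
    fun χ => χ.2.comp_surjective e.symm.toMonoidHom e.symm.surjective
  let f : IrrCharacter R → IrrCharacter R := fun χ => ⟨_, hcomp χ⟩
  let h : ConjClasses R → ConjClasses R := ConjClasses.map e.toMonoidHom
  have hh : Function.Bijective h := by
    rw [← Finite.injective_iff_bijective]
    intro C D hCD
    obtain ⟨a, rfl⟩ := C.exists_rep
    obtain ⟨b, rfl⟩ := D.exists_rep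
    exact ConjClasses.mk_eq_mk_iff_isConj.mpr
      (by simpa using e.symm.toMonoidHom.map_isConj (ConjClasses.mk_eq_mk_iff_isConj.mp hCD))
  have key := Char.brauer_permutation f h hh fun χ g g' hg => by
    show (χ : R → ℂ) (e.symm g') = _
    obtain ⟨c, hc⟩ := isConj_iff.mp
      (e.symm.toMonoidHom.map_isConj (ConjClasses.mk_eq_mk_iff_isConj.mp hg))
    simp only [MulEquiv.coe_toMonoidHom, MulEquiv.symm_apply_apply] at hc
    rw [← hc, χ.2.isClassFunction]
  have h1 : Nat.card {C : ConjClasses R // h C = C} ≤ 1 := by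
    refine Finite.card_le_one_iff_subsingleton.mpr ⟨fun C D => ?_⟩
    suffices ∀ C : ConjClasses R, h C = C → C = ConjClasses.mk 1 from
      Subtype.ext ((this _ C.2).trans (this _ D.2).symm)
    intro C hC
    obtain ⟨g, rfl⟩ := C.exists_rep
    obtain ⟨c, hc⟩ := isConj_iff.mp (ConjClasses.mk_eq_mk_iff_isConj.mp hC).symm
    have hsurj : Function.Surjective fun r : R => (e r)⁻¹ * r := by
      refine Finite.injective_iff_surjective.mp fun r r' hr => ?_
      have h2 : e (r' * r⁻¹) = r' * r⁻¹ := by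
        rw [map_mul, map_inv]
        calc e r' * (e r)⁻¹ = e r' * ((e r)⁻¹ * r) * r⁻¹ := by group
          _ = e r' * ((e r')⁻¹ * r') * r⁻¹ := by rw [show (e r)⁻¹ * r = (e r')⁻¹ * r' from hr]
          _ = r' * r⁻¹ := by group
      exact (mul_inv_eq_one.mp (hfpf _ h2)).symm
    obtain ⟨r, hr⟩ := hsurj c
    simp only at hr
    have h2 : e (r * g * r⁻¹) = r * g * r⁻¹ := by
      rw [map_mul, map_mul, map_inv]
      show e r * e g * (e r)⁻¹ = _
      rw [show e g = c * g * c⁻¹ from hc.symm, ← hr]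
      group
    rw [conj_eq_one_iff.mp (hfpf _ h2)]
  rw [← key] at h1
  haveI := Finite.card_le_one_iff_subsingleton.mp h1
  have hfix : ∀ χ : IrrCharacter R, (∀ r, (χ : R → ℂ) (e r) = (χ : R → ℂ) r) → f χ = χ :=
    fun χ hχ => Subtype.ext (funext fun r => by
      show (χ : R → ℂ) (e.symm r) = _
      rw [← hχ, e.apply_symm_apply])
  exact congrArg (fun z : {χ : IrrCharacter R // f χ = χ} => (z.1 : R → ℂ))
    (Subsingleton.elim ⟨μ, hfix μ hμ⟩
      ⟨⟨fun _ => 1, Char.isIrrCharacter_one⟩, hfix _ fun _ => rfl⟩)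

variable {G : Type u} [Group G] [Fintype G]

/-- The squares of an irreducible character on disjoint conjugates of `R#`. -/
theorem norm_on_ti {R A : Subgroup G} [Fintype R]
    (hTI : ∀ g : G, ∀ x ∈ R, x ≠ 1 → g * x * g⁻¹ ∈ R → g ∈ A) (χ : IrrCharacter G) :
    ∑ x : R, ‖(χ : G → ℂ) x‖ ^ 2 ≤ ‖(χ : G → ℂ) 1‖ ^ 2 + Nat.card A := by
  set d2 := ‖(χ : G → ℂ) 1‖ ^ 2
  set T : Finset ((G ⧸ A) × R) := Finset.univ.filter fun p => p.2 ≠ 1 with hT
  set φ : (G ⧸ A) × R → G := fun p => p.1.out * (p.2 : G) * p.1.out⁻¹ with hφ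
  have hinj : Set.InjOn φ T := by
    rintro ⟨q, x⟩ hx ⟨q', x'⟩ - he
    rw [hT, Finset.coe_filter] at hx
    have hx1 : (x : G) ≠ 1 := fun e => hx.2 (Subtype.ext e)
    simp only [hφ] at he
    have hm : q'.out⁻¹ * q.out ∈ A := hTI _ x x.2 hx1 (by
      rw [show q'.out⁻¹ * q.out * (x : G) * (q'.out⁻¹ * q.out)⁻¹ =
        q'.out⁻¹ * (q.out * (x : G) * q.out⁻¹) * q'.out by group, he]
      simp [mul_assoc])
    obtain rfl : q' = q := by
      rw [← QuotientGroup.out_eq' q, ← QuotientGroup.out_eq' q']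
      exact QuotientGroup.eq.2 hm
    obtain rfl : x = x' := Subtype.ext (mul_left_cancel (mul_right_cancel he))
    rfl
  have htot : ∑ g : G, ‖(χ : G → ℂ) g‖ ^ 2 = Nat.card G := by
    have h := Char.classInner_irr_self χ.2
    rw [Char.classInner_self, Complex.ofReal_eq_one] at h
    have hG : (Nat.card G : ℝ) ≠ 0 := Nat.cast_ne_zero.2 Nat.card_pos.ne'
    field_simp at h
    exact h
  have hsub : T.image φ ⊆ Finset.univ.erase 1 := by
    intro g hg
    obtain ⟨p, hp, rfl⟩ := Finset.mem_image.1 hg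
    refine Finset.mem_erase.2 ⟨fun e => (Finset.mem_filter.1 hp).2 (Subtype.ext ?_), Finset.mem_univ _⟩
    exact conj_eq_one_iff.1 e
  have h1 : ∑ p ∈ T, ‖(χ : G → ℂ) (φ p)‖ ^ 2 ≤ (Nat.card G : ℝ) - d2 := by
    rw [← Finset.sum_image (f := fun g => ‖(χ : G → ℂ) g‖ ^ 2) hinj]
    refine le_trans (Finset.sum_le_sum_of_subset_of_nonneg hsub fun _ _ _ => sq_nonneg _) ?_
    rw [← htot, Finset.sum_erase_eq_sub (Finset.mem_univ _)]
  have h2 : ∑ p ∈ T, ‖(χ : G → ℂ) (φ p)‖ ^ 2 =
      (A.index : ℝ) * (∑ x : R, ‖(χ : G → ℂ) x‖ ^ 2 - d2) := by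
    have e : T = Finset.univ ×ˢ (Finset.univ.erase (1 : R)) := by
      ext p; simp [hT]
    rw [e, Finset.sum_product, Finset.sum_congr rfl (g := fun _ =>
      ∑ x : R, ‖(χ : G → ℂ) x‖ ^ 2 - d2) fun q _ => ?_, Finset.sum_const, nsmul_eq_mul,
      Finset.card_univ, ← Nat.card_eq_fintype_card, ← Subgroup.index_eq_card]
    rw [Finset.sum_congr rfl (g := fun x : R => ‖(χ : G → ℂ) x‖ ^ 2) fun x _ => by
      rw [hφ, χ.2.isClassFunction], Finset.sum_erase_eq_sub (Finset.mem_univ _)]
    rfl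
  rw [h2, ← Subgroup.index_mul_card A, Nat.cast_mul] at h1
  have hi : (1 : ℝ) ≤ A.index := by
    exact_mod_cast Nat.one_le_iff_ne_zero.2 Subgroup.index_ne_zero_of_finite
  nlinarith [sq_nonneg ‖(χ : G → ℂ) 1‖, mul_le_mul_of_nonneg_left h1 (le_of_lt (inv_pos.2
    (lt_of_lt_of_le one_pos hi)))]

/-- The fixed space of `R` in a character with divisible, orbit-constant multiplicities is
small. -/
theorem fix_bound {R A L : Subgroup G} [Fintype R]
    (hTI : ∀ g : G, ∀ x ∈ R, x ≠ 1 → g * x * g⁻¹ ∈ R → g ∈ A)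
    (hLR : ∀ l ∈ L, ∀ x ∈ R, l * x * l⁻¹ ∈ R)
    (hfpf : ∀ l ∈ L, l ≠ 1 → ∀ x ∈ R, l * x * l⁻¹ = x → x = 1)
    (χ : IrrCharacter G) (k : ℕ)
    (hdiv : ∀ μ : IrrCharacter R, (μ : R → ℂ) ≠ (fun _ => 1) →
      ∃ m : ℕ, classInner (fun x : R => (χ : G → ℂ) x) (μ : R → ℂ) = (k : ℂ) * m)
    (hker : ∃ x ∈ R, (χ : G → ℂ) x ≠ (χ : G → ℂ) 1) :
    ∃ a d : ℕ, StrongEmb.TwoNilp.fixDim R χ = a ∧ (χ : G → ℂ) 1 = d ∧
      ((Nat.card R : ℝ) * a - d) ^ 2 ≤ ((Nat.card R : ℝ) - 1) * Nat.card A ∧
      (Nat.card R : ℝ) * (Nat.card L * (k : ℝ) ^ 2) ≤ (d : ℝ) ^ 2 + Nat.card A := by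
  set f : R → ℂ := fun x => (χ : G → ℂ) x with hf
  have hfc : IsCharacter R f := χ.2.isCharacter.comp R.subtype
  choose c hc using fun μ : IrrCharacter R => hfc.exists_nat_classInner μ.2.isCharacter
  obtain ⟨d, -, hd⟩ := χ.2.exists_degree
  set one : IrrCharacter R := ⟨fun _ => 1, Char.isIrrCharacter_one⟩
  have ha : StrongEmb.TwoNilp.fixDim R χ = c one := by
    have h1 := StrongEmb.TwoNilp.avg_eq R χ
    have h2 := hc one
    simp only [classInner, one, map_one, mul_one] at h2
    exact_mod_cast h1.symm.trans h2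
  refine ⟨c one, d, ha, hd, ?_⟩
  -- degrees
  choose e he1 he using fun μ : IrrCharacter R => μ.2.exists_degree
  have he_one : e one = 1 := by
    have h : ((1 : ℕ) : ℂ) = (e one : ℂ) := by rw [Nat.cast_one]; exact he one
    exact (Nat.cast_inj.mp h).symm
  have hdeg : ∑ μ : IrrCharacter R, c μ * e μ = d := by
    have h := congrFun (Char.eq_sum_classInner hfc.isClassFunction) 1
    simp only [Finset.sum_apply, Pi.smul_apply, smul_eq_mul, hc, he] at h
    simp only [hf, OneMemClass.coe_one, hd] at h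
    exact_mod_cast h.symm
  have hsq : ∑ μ : IrrCharacter R, e μ ^ 2 = Nat.card R := by
    have h := Char.sum_sq_degree (G := R)
    simp only [he] at h
    exact_mod_cast h
  have hnorm : ∑ x : R, ‖(χ : G → ℂ) x‖ ^ 2 =
      (Nat.card R : ℝ) * ∑ μ : IrrCharacter R, (c μ : ℝ) ^ 2 := by
    have h := Char.classInner_eq_sum (f' := f) hfc.isClassFunction
    simp only [hc, Complex.conj_natCast] at h
    rw [Char.classInner_self] at h
    have h' : (Nat.card R : ℝ)⁻¹ * ∑ x : R, ‖f x‖ ^ 2 = ∑ μ : IrrCharacter R, (c μ : ℝ) ^ 2 := by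
      apply Complex.ofReal_injective
      rw [h]
      push_cast
      exact Finset.sum_congr rfl fun μ _ => by ring
    rw [← h', mul_inv_cancel_left₀ (Nat.cast_ne_zero.2 Nat.card_pos.ne')]
  have hti := norm_on_ti hTI χ
  rw [hnorm, hd, Complex.norm_natCast] at hti
  set U := (Finset.univ : Finset (IrrCharacter R)).erase one with hU
  set N2 := ∑ μ ∈ U, (c μ : ℝ) ^ 2 with hN2
  have hN : ∑ μ : IrrCharacter R, (c μ : ℝ) ^ 2 = (c one : ℝ) ^ 2 + N2 :=
    (Finset.add_sum_erase _ _ (Finset.mem_univ one)).symm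
  rw [hN] at hti
  constructor
  · have h1 : ((d : ℝ) - c one) ^ 2 ≤ N2 * ((Nat.card R : ℝ) - 1) := by
      have hd' : (d : ℝ) - c one = ∑ μ ∈ U, (c μ : ℝ) * e μ := by
        rw [hU, Finset.sum_erase_eq_sub (Finset.mem_univ _), he_one, ← hdeg]
        push_cast; ring
      have hR' : (Nat.card R : ℝ) - 1 = ∑ μ ∈ U, (e μ : ℝ) ^ 2 := by
        rw [hU, Finset.sum_erase_eq_sub (Finset.mem_univ _), he_one, ← hsq]
        push_cast; ring
      rw [hd', hR']
      exact Finset.sum_mul_sq_le_sq_mul_sq _ _ _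
    have hR0 : (1 : ℝ) ≤ Nat.card R := by exact_mod_cast Nat.card_pos
    nlinarith [mul_le_mul_of_nonneg_left hti (by linarith : (0 : ℝ) ≤ (Nat.card R : ℝ) - 1),
      mul_le_mul_of_nonneg_left h1 (by linarith : (0 : ℝ) ≤ (Nat.card R : ℝ))]
  · -- a non-principal constituent and its orbit
    obtain ⟨μ, hμ1, hμ⟩ : ∃ μ : IrrCharacter R, μ ≠ one ∧ c μ ≠ 0 := by
      by_contra hcon
      simp only [not_exists, not_and, not_not] at hcon
      obtain ⟨x, hx, hne⟩ := hker
      have h := congrFun (Char.eq_sum_classInner hfc.isClassFunction)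
      have h1 : ∀ y : R, f y = (c one : ℂ) := fun y => by
        have := h y
        simp only [Finset.sum_apply, Pi.smul_apply, smul_eq_mul, hc] at this
        rw [this, Finset.sum_eq_single one]
        · simp [one]
        · exact fun μ _ hμ => by rw [hcon μ hμ, Nat.cast_zero, zero_mul]
        · exact fun e => absurd (Finset.mem_univ _) e
      have h2 := (h1 ⟨x, hx⟩).trans (h1 1).symm
      exact hne (by simpa [hf] using h2)
    have hμne : (μ : R → ℂ) ≠ fun _ => 1 := fun h => hμ1 (Subtype.ext h)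
    have hk : k ≤ c μ := by
      obtain ⟨m, hm⟩ := hdiv μ hμne
      rw [hc μ, ← Nat.cast_mul, Nat.cast_inj] at hm
      rcases Nat.eq_zero_or_pos m with rfl | hm0
      · exact absurd (by simpa using hm) hμ
      · rw [hm]; exact Nat.le_mul_of_pos_right k hm0
    let σ : L → R ≃* R := fun l =>
      { toFun := fun x => ⟨l * x * (l : G)⁻¹, hLR l l.2 x x.2⟩
        invFun := fun x => ⟨(l : G)⁻¹ * x * l, by
          simpa using hLR _ (L.inv_mem l.2) x x.2⟩
        left_inv := fun x => Subtype.ext (by simp [mul_assoc])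
        right_inv := fun x => Subtype.ext (by simp [mul_assoc])
        map_mul' := fun x y => Subtype.ext (by simp [mul_assoc]) }
    let tw : L → IrrCharacter R := fun l =>
      ⟨fun x => (μ : R → ℂ) (σ l x), μ.2.comp_surjective (σ l).toMonoidHom (σ l).surjective⟩
    have htw : Function.Injective tw := by
      intro l l' hll
      by_contra hne
      have hl : (l' * l⁻¹ : L) ≠ 1 := fun h => hne (mul_inv_eq_one.1 h).symm
      refine hμne (eq_one_of_twist_fixed (σ (l' * l⁻¹)) (fun r hr => Subtype.ext ?_) fun r => ?_)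
      · exact hfpf _ (l' * l⁻¹).2 (fun h => hl (Subtype.ext h)) r r.2 (congrArg Subtype.val hr)
      · have h := congrFun (congrArg Subtype.val hll) (σ l⁻¹ r)
        simp only [tw] at h
        have e1 : σ l (σ l⁻¹ r) = r := Subtype.ext (by simp [σ, mul_assoc])
        have e2 : σ l' (σ l⁻¹ r) = σ (l' * l⁻¹) r := Subtype.ext (by simp [σ, mul_assoc])
        rw [e1, e2] at h
        exact h.symm
    have hctw : ∀ l, c (tw l) = c μ := by
      intro l
      have h1 := hc (tw l)
      have h2 : classInner f (tw l : R → ℂ) = classInner f (μ : R → ℂ) := by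
        simp only [classInner]
        congr 1
        refine Fintype.sum_equiv (σ l).toEquiv _ _ fun x => ?_
        simp only [hf, tw, σ, MulEquiv.coe_toEquiv, MulEquiv.coe_mk, Equiv.coe_fn_mk]
        rw [χ.2.isClassFunction]
      rw [h2, hc μ, Nat.cast_inj] at h1
      exact h1.symm
    have hmem : (Finset.univ : Finset L).image tw ⊆ U := by
      intro ν hν
      obtain ⟨l, -, rfl⟩ := Finset.mem_image.1 hν
      refine Finset.mem_erase.2 ⟨fun h => hμne (funext fun x => ?_), Finset.mem_univ _⟩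
      have := congrFun (congrArg Subtype.val h) ((σ l).symm x)
      simpa [tw, one] using this
    have h2 : (Nat.card L : ℝ) * (k : ℝ) ^ 2 ≤ N2 := by
      refine le_trans ?_ (Finset.sum_le_sum_of_subset_of_nonneg hmem fun _ _ _ => sq_nonneg _)
      rw [Finset.sum_image fun l _ l' _ h => htw h]
      simp only [hctw, Finset.sum_const, Finset.card_univ, nsmul_eq_mul, ← Nat.card_eq_fintype_card]
      exact mul_le_mul_of_nonneg_left (by gcongr) (Nat.cast_nonneg _)
    have h3 : (Nat.card R : ℝ) * ((Nat.card L : ℝ) * (k : ℝ) ^ 2) ≤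
        (Nat.card R : ℝ) * ((c one : ℝ) ^ 2 + N2) :=
      mul_le_mul_of_nonneg_left (by nlinarith [sq_nonneg (c one : ℝ)]) (Nat.cast_nonneg _)
    linarith

end Cfsg.Lib.RankOneSuzuki
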