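import Cfsg.Agent.Lib.RankOneSuzuki.TwoSplit
import Cfsg.Agent.Lib.RankOneSuzuki.SetupWbar
import Cfsg.Agent.Lib.RankOneSuzuki.TwoBlock

/-!
# Counting in the point stabiliser: the centraliser of an involution, pairs, the odd part
-/

set_option autoImplicit false
set_option linter.unusedSectionVars false
set_option linter.style.haveILetI false

namespace Cfsg.Lib.RankOneSuzuki

open Cfsg Cfsg.Lib.Linear.RankOne Cfsg.Lib.Block

universe u v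

variable {G : Type u} {Ω : Type v} [Group G] [MulAction G Ω] [Finite G] [FaithfulSMul G Ω]
  {a : Ω} {t : G} {Q S R : Subgroup G}

theorem Hyp.twoSub (h : Hyp G Ω a t Q) (hQ : QSplit Q S R) : TwoSub a t Q S :=
  ⟨hQ.S_le, h.Zz_le_S hQ, hQ.pS, fun _ hd _ hx => h.S_conj hQ hd.1 hx⟩

/-- The centraliser in `Ww` of the 2-part. -/
abbrev Vzero (a : Ω) (t : G) (S : Subgroup G) : Subgroup G :=
  Ww a t ⊓ Subgroup.centralizer (S : Set G)

theorem Hyp.Vzero_conj (h : Hyp G Ω a t Q) (hQ : QSplit Q S R) {d x : G} (hd : d ∈ Dd a t)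
    (hx : x ∈ Vzero a t S) : d * x * d⁻¹ ∈ Vzero a t S := by
  refine ⟨h.Ww_conj hd hx.1, Subgroup.mem_centralizer_iff.2 fun y hy => ?_⟩
  have hy' : d⁻¹ * y * d ∈ S := by
    simpa using h.S_conj hQ (inv_mem hd.1) hy
  have e := Subgroup.mem_centralizer_iff.1 hx.2 _ hy'
  calc y * (d * x * d⁻¹) = d * ((d⁻¹ * y * d) * x) * d⁻¹ := by group
    _ = d * (x * (d⁻¹ * y * d)) * d⁻¹ := by rw [e]
    _ = d * x * d⁻¹ * y := by group

/-- The odd normal subgroup of the centraliser of `s`. -/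
theorem Hyp.odd_core_cen (h : Hyp G Ω a t Q) (hQ : QSplit Q S R) {s : G} (hs : s ∈ Zz G a)
    (hs1 : s ≠ 1) :
    ∃ N : Subgroup G, N ≤ Subgroup.centralizer ({s} : Set G) ∧
      (∀ k ∈ Subgroup.centralizer ({s} : Set G), ∀ x ∈ N, k * x * k⁻¹ ∈ N) ∧
      Odd (Nat.card N) ∧ Nat.card N = Nat.card R * Nat.card (Vzero a t S) := by
  let N : Subgroup G :=
    { carrier := {g | ∃ ρ ∈ R, ∃ v ∈ Vzero a t S, g = ρ * v}
      one_mem' := ⟨1, one_mem _, 1, one_mem _, (one_mul 1).symm⟩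
      mul_mem' := by
        rintro _ _ ⟨ρ, hρ, v, hv, rfl⟩ ⟨ρ', hρ', v', hv', rfl⟩
        exact ⟨ρ * (v * ρ' * v⁻¹), mul_mem hρ (h.R_conj hQ hv.1.1.1.1 hρ'), v * v', mul_mem hv hv',
          by group⟩
      inv_mem' := by
        rintro _ ⟨ρ, hρ, v, hv, rfl⟩
        exact ⟨v⁻¹ * ρ⁻¹ * v⁻¹⁻¹, h.R_conj hQ (inv_mem hv.1.1.1.1) (inv_mem hρ), v⁻¹, inv_mem hv,
          by group⟩ }
  have hcard : Nat.card N = Nat.card R * Nat.card (Vzero a t S) := by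
    rw [← Nat.card_prod]
    refine (Nat.card_eq_of_bijective (fun p : R × Vzero a t S =>
      (⟨p.1 * p.2, p.1, p.1.2, p.2, p.2.2, rfl⟩ : N)) ⟨?_, ?_⟩).symm
    · rintro ⟨⟨ρ, hρ⟩, ⟨v, hv⟩⟩ ⟨⟨ρ', hρ'⟩, ⟨v', hv'⟩⟩ e
      have e' : ρ * v = ρ' * v' := congrArg Subtype.val e
      have h1 : ρ'⁻¹ * ρ = 1 := eq_one_of_mem_D h.setup (mul_mem (inv_mem (hQ.R_le hρ')) (hQ.R_le hρ))
        (by rw [show ρ'⁻¹ * ρ = v' * v⁻¹ by rw [eq_mul_inv_iff_mul_eq, mul_assoc, e', inv_mul_cancel_left]]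
            exact mul_mem hv'.1.1.1 (inv_mem hv.1.1.1))
      obtain rfl : ρ' = ρ := inv_mul_eq_one.1 h1
      obtain rfl : v = v' := mul_left_cancel e'
      rfl
    · rintro ⟨_, ρ, hρ, v, hv, rfl⟩
      exact ⟨(⟨ρ, hρ⟩, ⟨v, hv⟩), rfl⟩
  refine ⟨N, ?_, ?_, ?_, hcard⟩
  · rintro _ ⟨ρ, hρ, v, hv, rfl⟩
    refine Subgroup.mem_centralizer_singleton_iff.2 ?_
    have e1 := (Subgroup.mem_centralizer_iff.1 hv.2 s (h.Zz_le_S hQ hs))
    have e2 := hQ.comm s (h.Zz_le_S hQ hs) ρ hρ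
    calc ρ * v * s = ρ * (s * v) := by rw [mul_assoc, e1]
      _ = s * (ρ * v) := by rw [← mul_assoc, ← e2, mul_assoc]
  · intro k hk x hx
    obtain ⟨q, hq, d, hd, rfl⟩ := decomp h.setup (h.cen_le_stab (h.Zz_le hs) hs1 hk)
    obtain ⟨σ, hσ, ρ₀, hρ₀, rfl⟩ := hQ.decomp q hq
    obtain ⟨ρ, hρ, v, hv, rfl⟩ := hx
    have hρ1 : d * ρ * d⁻¹ ∈ R := h.R_conj hQ hd.1 hρ
    have hv1 := h.Vzero_conj hQ hd hv
    refine ⟨ρ₀ * (d * ρ * d⁻¹) * ((d * v * d⁻¹) * ρ₀⁻¹ * (d * v * d⁻¹)⁻¹),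
      mul_mem (mul_mem hρ₀ hρ1) (h.R_conj hQ hv1.1.1.1.1 (inv_mem hρ₀)), d * v * d⁻¹, hv1, ?_⟩
    have e1 : σ * (d * v * d⁻¹) = d * v * d⁻¹ * σ :=
      Subgroup.mem_centralizer_iff.1 hv1.2 σ hσ
    have hr : ρ₀ * (d * ρ * d⁻¹) ∈ R := mul_mem hρ₀ hρ1
    calc σ * ρ₀ * d * (ρ * v) * (σ * ρ₀ * d)⁻¹
        = (σ * (ρ₀ * (d * ρ * d⁻¹))) * (d * v * d⁻¹) * ρ₀⁻¹ * σ⁻¹ := by group
      _ = (ρ₀ * (d * ρ * d⁻¹)) * (σ * (d * v * d⁻¹)) * ρ₀⁻¹ * σ⁻¹ := by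
          rw [hQ.comm σ hσ _ hr]; group
      _ = (ρ₀ * (d * ρ * d⁻¹)) * (d * v * d⁻¹) * (σ * ρ₀⁻¹) * σ⁻¹ := by rw [e1]; group
      _ = (ρ₀ * (d * ρ * d⁻¹)) * (d * v * d⁻¹) * ρ₀⁻¹ := by
          rw [hQ.comm σ hσ _ (inv_mem hρ₀)]; group
      _ = _ := by group
  · rw [hcard]
    exact hQ.oddR.mul (Odd.of_dvd_nat h.setup.odd_card
      (Subgroup.card_dvd_of_le (inf_le_left.trans (inf_le_left.trans inf_le_left))))

theorem Hyp.card_cen (h : Hyp G Ω a t Q) {s : G} (hs : s ∈ Zz G a) (hs1 : s ≠ 1)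
    (hV : Vv a t = Dd a t ⊓ Subgroup.centralizer {s}) :
    Nat.card (Subgroup.centralizer ({s} : Set G)) = Nat.card Q * Nat.card (Vv a t) := by
  have hq : ∀ q ∈ Q, q ∈ Subgroup.centralizer ({s} : Set G) := fun q hq =>
    Subgroup.mem_centralizer_singleton_iff.2 (h.Zz_central hs hq).symm
  have hv : ∀ v ∈ Vv a t, v ∈ Subgroup.centralizer ({s} : Set G) := fun v hv => (hV ▸ hv).2
  rw [← Nat.card_prod]
  refine (Nat.card_eq_of_bijective (fun p : Q × Vv a t =>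
    (⟨p.1 * p.2, mul_mem (hq _ p.1.2) (hv _ p.2.2)⟩ : Subgroup.centralizer ({s} : Set G))) ⟨?_, ?_⟩).symm
  · rintro ⟨⟨q, hq⟩, ⟨v, hv⟩⟩ ⟨⟨q', hq'⟩, ⟨v', hv'⟩⟩ e
    have e' : q * v = q' * v' := congrArg Subtype.val e
    have h1 : q'⁻¹ * q = 1 := eq_one_of_mem_D h.setup (mul_mem (inv_mem hq') hq)
      (by rw [show q'⁻¹ * q = v' * v⁻¹ by rw [eq_mul_inv_iff_mul_eq, mul_assoc, e', inv_mul_cancel_left]]
          exact mul_mem hv'.1 (inv_mem hv.1))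
    obtain rfl : q' = q := inv_mul_eq_one.1 h1
    obtain rfl : v = v' := mul_left_cancel e'
    rfl
  · rintro ⟨g, hg⟩
    obtain ⟨q, hqQ, d, hd, rfl⟩ := decomp h.setup (h.cen_le_stab (h.Zz_le hs) hs1 hg)
    have hdc : d ∈ Subgroup.centralizer ({s} : Set G) := by
      have := mul_mem (inv_mem (hq q hqQ)) hg
      rwa [inv_mul_cancel_left] at this
    exact ⟨(⟨q, hqQ⟩, ⟨d, hV ▸ ⟨hd, hdc⟩⟩), rfl⟩

/-- Two involutions whose product has 2-part `u ∈ S#` lie in `Zz`. -/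
theorem Hyp.pair_mem (h : Hyp G Ω a t Q) (hQ : QSplit Q S R) [Fintype G] {u i j : G} (hu : u ∈ S)
    (hu1 : u ≠ 1) (hi1 : i ≠ 1) (hi : i * i = 1) (hj : j * j = 1)
    (hp : pPt 2 (i * j) = u) : i ∈ Zz G a ∧ j ∈ Zz G a ∧ i * j = u := by
  haveI : Fact (Nat.Prime 2) := ⟨Nat.prime_two⟩
  have huQ := hQ.S_le hu
  have hinv : i * u * i⁻¹ = u⁻¹ := by
    rw [← hp, ← pPt_conj, ← pPt_inv]
    congr 1
    rw [mul_inv_rev, inv_eq_of_mul_eq_one_left hi, inv_eq_of_mul_eq_one_left hj, ← mul_assoc i i j,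
      hi, one_mul]
  have hiA : i ∈ MulAction.stabilizer G a :=
    h.mem_stab_of_conj huQ hu1 (by rw [hinv]; exact inv_mem huQ)
  have hiZ : i ∈ Zz G a := h.mem_Zz.2 ⟨hiA, hi⟩
  have hg : i * j ∈ MulAction.stabilizer G a :=
    h.cen_le_stab huQ hu1 (Subgroup.mem_centralizer_singleton_iff.2
      (by obtain ⟨n, hn⟩ := pPt_mem_zpowers (p := 2) (i * j)
          rw [← hp, ← hn]; exact (Commute.self_zpow (i * j) n).eq))
  have hjZ : j ∈ Zz G a := h.mem_Zz.2 ⟨by simpa using mul_mem (inv_mem hiA) hg, hj⟩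
  refine ⟨hiZ, hjZ, ?_⟩
  obtain ⟨k, hk⟩ := hQ.pow_card_S (h.Zz_le_S hQ (mul_mem hiZ hjZ))
  obtain ⟨m, -, hm⟩ := (Nat.dvd_prime_pow Nat.prime_two).1 (orderOf_dvd_of_pow_eq_one hk)
  rw [← hp]
  exact eq_pPt (mul_one _) (Commute.one_right _) hm (by simp)

theorem Hyp.card_Kk_Ww (h : Hyp G Ω a t Q) :
    ∃ L : Subgroup G, L ≤ Dd a t ∧ Nat.card L = Nat.card (Kk a t) * Nat.card (Ww a t) ∧
      ∀ l ∈ L, ∃ k ∈ Kk a t, ∃ w ∈ Ww a t, l = k * w := by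
  let L : Subgroup G :=
    { carrier := {g | ∃ k ∈ Kk a t, ∃ w ∈ Ww a t, g = k * w}
      one_mem' := ⟨1, one_mem _, 1, one_mem _, (one_mul 1).symm⟩
      mul_mem' := by
        rintro _ _ ⟨k, hk, w, hw, rfl⟩ ⟨k', hk', w', hw', rfl⟩
        refine ⟨k * k', mul_mem hk hk', w * w', mul_mem hw hw', ?_⟩
        calc k * w * (k' * w') = k * (w * k') * w' := by group
          _ = k * k' * (w * w') := by rw [← h.Ww_comm hw hk']; group
      inv_mem' := by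
        rintro _ ⟨k, hk, w, hw, rfl⟩
        exact ⟨k⁻¹, inv_mem hk, w⁻¹, inv_mem hw, by
          rw [mul_inv_rev]; exact (h.Ww_comm (inv_mem hw) (inv_mem hk)).symm⟩ }
  refine ⟨L, ?_, ?_, fun l hl => hl⟩
  · rintro _ ⟨k, hk, w, hw, rfl⟩
    exact mul_mem (h.Kk_le hk) hw.1.1
  rw [← Nat.card_prod]
  refine (Nat.card_eq_of_bijective (fun p : Kk a t × Ww a t =>
    (⟨p.1 * p.2, p.1, p.1.2, p.2, p.2.2, rfl⟩ : L)) ⟨?_, ?_⟩).symm
  · rintro ⟨⟨k, hk⟩, ⟨w, hw⟩⟩ ⟨⟨k', hk'⟩, ⟨w', hw'⟩⟩ e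
    have e' : k * w = k' * w' := congrArg Subtype.val e
    have h1 : k'⁻¹ * k = 1 := h.Kk_inf_Vv (mul_mem (inv_mem hk') hk)
      (by rw [show k'⁻¹ * k = w' * w⁻¹ by rw [eq_mul_inv_iff_mul_eq, mul_assoc, e', inv_mul_cancel_left]]
          exact mul_mem hw'.1 (inv_mem hw.1))
    obtain rfl : k' = k := inv_mul_eq_one.1 h1
    obtain rfl : w = w' := mul_left_cancel e'
    rfl
  · rintro ⟨_, k, hk, w, hw, rfl⟩
    exact ⟨(⟨k, hk⟩, ⟨w, hw⟩), rfl⟩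

/-- A fixed-point-free group of automorphisms has order dividing one less than the order. -/
theorem dvd_card_sub_one {L R : Subgroup G} (hLR : ∀ l ∈ L, ∀ x ∈ R, l * x * l⁻¹ ∈ R)
    (hfpf : ∀ l ∈ L, l ≠ 1 → ∀ x ∈ R, l * x * l⁻¹ = x → x = 1) :
    Nat.card L ∣ Nat.card R - 1 := by
  classical
  haveI := Fintype.ofFinite R
  letI : MulAction L {x : R // x ≠ 1} :=
    { smul := fun l x => ⟨⟨l * x.1 * (l : G)⁻¹, hLR l l.2 _ x.1.2⟩,
        fun e => x.2 (Subtype.ext (conj_eq_one_iff.1 (congrArg Subtype.val e)))⟩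
      one_smul := fun x => Subtype.ext (Subtype.ext (by
        show ((1 : L) : G) * x.1 * ((1 : L) : G)⁻¹ = x.1
        simp))
      mul_smul := fun l l' x => Subtype.ext (Subtype.ext (by
        show ((l * l' : L) : G) * x.1 * ((l * l' : L) : G)⁻¹ =
          l * ((l' : G) * x.1 * (l' : G)⁻¹) * (l : G)⁻¹
        simp [mul_assoc])) }
  have hstab : ∀ x : {x : R // x ≠ 1}, MulAction.stabilizer L x = ⊥ := by
    intro x
    refine (Subgroup.eq_bot_iff_forall _).2 fun l hl => by_contra fun hl1 => x.2 (Subtype.ext ?_)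
    exact hfpf l l.2 (fun e => hl1 (Subtype.ext e)) _ x.1.2
      (congrArg (fun z : {x : R // x ≠ 1} => ((z.1 : R) : G)) hl)
  have hc : Nat.card {x : R // x ≠ 1} = Nat.card R - 1 := by
    rw [Nat.card_eq_fintype_card, Fintype.card_subtype_compl, Fintype.card_subtype_eq,
      Nat.card_eq_fintype_card]
  rw [← hc, Nat.card_congr (MulAction.selfEquivSigmaOrbits L {x : R // x ≠ 1}), Nat.card_sigma]
  refine Finset.dvd_sum fun ω _ => ?_
  have horb := MulAction.orbitEquivQuotientStabilizer L ω.out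
  rw [Nat.card_congr horb, hstab, ← Subgroup.index_eq_card, Subgroup.index_bot]

/-- The odd part is not of order `15` when `|Zz| = 8`. -/
theorem Hyp.card_R_ne_fifteen (h : Hyp G Ω a t Q) (hQ : QSplit Q S R)
    (h8 : Nat.card (Zz G a) = 8) : Nat.card R ≠ 15 := by
  intro h15
  haveI : Fact (Nat.Prime 3) := ⟨Nat.prime_three⟩
  haveI := isNilpotent h.setup h.two
  obtain ⟨⟨x, hx⟩, hox⟩ := exists_prime_orderOf_dvd_card' (G := R) 3 (by rw [h15]; decide)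
  rw [Subgroup.orderOf_mk] at hox
  haveI : Group.IsNilpotent R := Group.nilpotent_of_mulEquiv (Subgroup.subgroupOfEquivOfLe hQ.R_le)
  let P : Sylow 3 R := default
  haveI hPn : (P : Subgroup R).Normal :=
    ((Group.isNilpotent_of_finite_tfae (G := R)).out 0 3 rfl rfl).mp inferInstance 3 ⟨Nat.prime_three⟩ P
  have hP3 : Nat.card (P : Subgroup R) = 3 := by
    rw [P.card_eq_multiplicity, h15,
      show (15 : ℕ).factorization 3 = 1 by
        rw [show (15 : ℕ) = 3 * 5 from rfl, Nat.factorization_mul (by norm_num) (by norm_num)]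
        simp [Nat.Prime.factorization Nat.prime_three, Nat.Prime.factorization (by norm_num : Nat.Prime 5)]]
    norm_num
  have hmem : ∀ y : R, y ^ 3 = 1 → y ∈ (P : Subgroup R) := fun y hy => by
    have hp : IsPGroup 3 (Subgroup.zpowers y) := by
      obtain ⟨j, -, hj⟩ := (Nat.dvd_prime_pow Nat.prime_three).1
        (show orderOf y ∣ 3 ^ 1 by rw [pow_one]; exact orderOf_dvd_of_pow_eq_one hy)
      exact IsPGroup.of_card (n := j) (by rw [Nat.card_zpowers, hj])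
    obtain ⟨P', hP'⟩ := hp.exists_le_sylow
    haveI := Sylow.unique_of_normal P hPn
    exact Subsingleton.elim P' P ▸ hP' (Subgroup.mem_zpowers y)
  have hx3 : x ^ 3 = 1 := hox ▸ pow_orderOf_eq_one x
  have hx1 : x ≠ 1 := fun e => by rw [e, orderOf_one] at hox; omega
  have hPz : (P : Subgroup R) = Subgroup.zpowers (⟨x, hx⟩ : R) :=
    (Subgroup.eq_of_le_of_card_ge (Subgroup.zpowers_le.2 (hmem _ (Subtype.ext hx3)))
      (by rw [hP3, Nat.card_zpowers, Subgroup.orderOf_mk, hox])).symm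
  obtain ⟨k₀, -, hK, -⟩ := h.gen
  have hk : k₀ ∈ Kk a t := hK ▸ Subgroup.mem_zpowers k₀
  have hy : k₀ * x * k₀⁻¹ ∈ R := h.R_conj hQ (h.Kk_le hk).1 hx
  have hmem' := hmem ⟨_, hy⟩ (Subtype.ext (by
    show (k₀ * x * k₀⁻¹) ^ 3 = 1
    rw [conj_pow, hx3]; group))
  rw [hPz, ← mem_powers_iff_mem_zpowers] at hmem'
  obtain ⟨i, hi⟩ := hmem'
  have hi' : x ^ i = k₀ * x * k₀⁻¹ := congrArg Subtype.val hi
  have hmod : x ^ i = x ^ (i % 3) := by rw [← hox, pow_mod_orderOf]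
  have h2 : k₀ * k₀ * x = x * (k₀ * k₀) := by
    have hcases : i % 3 = 0 ∨ i % 3 = 1 ∨ i % 3 = 2 := by omega
    have e : k₀ * (k₀ * x * k₀⁻¹) * k₀⁻¹ = x := by
      rcases hcases with e | e | e <;> rw [hmod, e] at hi'
      · rw [pow_zero, eq_comm, conj_eq_one_iff] at hi'; exact absurd hi' hx1
      · rw [pow_one] at hi'; rw [← hi', ← hi']
      · rw [← hi', ← conj_pow, ← hi', ← pow_mul, show 2 * 2 = 3 + 1 from rfl, pow_succ, hx3, one_mul]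
    calc k₀ * k₀ * x = k₀ * (k₀ * x * k₀⁻¹) * k₀⁻¹ * (k₀ * k₀) := by group
      _ = x * (k₀ * k₀) := by rw [e]
  have h3 := h.Kk_free (mul_mem hk hk) (hQ.R_le hx) hx1 h2
  have h4 := eq_one_of_sq_of_odd h.setup.odd_card (h.Kk_le hk) h3
  have h5 := h.card_Kk
  rw [hK, Nat.card_zpowers, h4, orderOf_one, h8] at h5
  omega

end Cfsg.Lib.RankOneSuzuki
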