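import Cfsg.Agent.Lib.RankOneSuzuki.TwoArith
import Cfsg.Agent.Lib.RankOneSuzuki.TwoBound
import Cfsg.Agent.Lib.RankOneSuzuki.TwoCount
import Cfsg.Agent.Lib.RankOneSuzuki.SetupField
import Cfsg.Agent.Lib.RankOneSuzuki.SetupInd

/-!
# Suzuki's rank-one theorem: the regular normal subgroup is a 2-group
-/

set_option autoImplicit false
set_option linter.unusedSectionVars false
set_option linter.style.haveILetI false
set_option maxHeartbeats 800000

namespace Cfsg.Lib.RankOneSuzuki

open Cfsg Cfsg.Lib.Linear.RankOne Cfsg.Lib.Block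
open scoped ComplexConjugate

universe u v

variable {G : Type u} {Ω : Type v} [Group G] [MulAction G Ω] [Finite G] [FaithfulSMul G Ω]
  {a : Ω} {t : G} {Q : Subgroup G}

/-- A character trivial at one involution is trivial on `Q`. -/
theorem Hyp.trivial_on_Q (h : Hyp G Ω a t Q) [Fintype G] {χ : IrrCharacter G} {s : G}
    (hs : s * s = 1) (hs1 : s ≠ 1) (hχ : (χ : G → ℂ) s = (χ : G → ℂ) 1) {x : G} (hx : x ∈ Q) :
    (χ : G → ℂ) x = (χ : G → ℂ) 1 := by
  set N := Char.charKer χ.2.isCharacter with hN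
  haveI hNn : N.Normal := Char.charKer_normal _
  have hinv : ∀ u : G, u ≠ 1 → u * u = 1 → u ∈ N := by
    intro u hu1 hu
    obtain ⟨g, rfl⟩ := invol_conj h.setup hs1 hs hu1 hu
    exact hNn.conj_mem s ((Char.mem_charKer _).2 hχ) g
  obtain ⟨k, hk, hk1⟩ := exists_inverted_ne_one h.setup h.two
  have ht : t ∈ N := hinv t h.setup.ne_one h.setup.mul_self
  have hk2 : k * k ∈ N := by
    have e : k * k = (k * t * k⁻¹) * t := by
      have e1 : t * k * t = k⁻¹ := by
        calc t * k * t = t * k * t⁻¹ := by rw [t_inv h.setup]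
          _ = k⁻¹ := hk.2
      calc k * k = k * (k⁻¹)⁻¹ := by rw [inv_inv]
        _ = k * (t * k * t)⁻¹ := by rw [e1]
        _ = (k * t * k⁻¹) * t := by rw [mul_inv_rev, mul_inv_rev, t_inv h.setup]; group
    rw [e]
    exact mul_mem (hNn.conj_mem t ht k) ht
  have hkN : k ∈ N := by
    obtain ⟨i, hi⟩ := exists_sqrt_of_odd h.setup.odd_card hk.1
    rw [← hi, ← (Commute.refl k).mul_pow]
    exact pow_mem hk2 i
  have hkK : k ∈ Kk a t := by rw [← SetLike.mem_coe, h.coe_Kk]; exact hk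
  let f : Q → Q := fun y => ⟨(y : G)⁻¹ * (k * y * k⁻¹),
    mul_mem (inv_mem y.2) (h.setup.conj_mem k hk.1.1 y y.2)⟩
  have hf : Function.Injective f := by
    intro y z hyz
    have e : (y : G)⁻¹ * (k * y * k⁻¹) = (z : G)⁻¹ * (k * z * k⁻¹) := congrArg Subtype.val hyz
    by_contra hne
    refine hk1 (h.Kk_free hkK (mul_mem z.2 (inv_mem y.2))
      (fun e' => hne (Subtype.ext (mul_inv_eq_one.1 e').symm)) ?_)
    calc k * ((z : G) * (y : G)⁻¹) = (z : G) * ((z : G)⁻¹ * (k * z * k⁻¹)) * k * (y : G)⁻¹ := by group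
      _ = (z : G) * ((y : G)⁻¹ * (k * y * k⁻¹)) * k * (y : G)⁻¹ := by rw [e]
      _ = (z : G) * (y : G)⁻¹ * k := by group
  obtain ⟨y, hy⟩ := Finite.injective_iff_surjective.1 hf ⟨x, hx⟩
  refine (Char.mem_charKer χ.2.isCharacter).1 ?_
  have e : x = ((y : G)⁻¹ * k * ((y : G)⁻¹)⁻¹) * k⁻¹ := by
    have e1 : (y : G)⁻¹ * (k * y * k⁻¹) = x := congrArg Subtype.val hy
    rw [← e1]; group
  rw [e]
  exact mul_mem (hNn.conj_mem k hkN _) (inv_mem hkN)

open Classical in
/-- The inductive step: `Q` is a 2-group as soon as no non-identity element of `Ww` centralises a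
non-identity element of `Q` of odd order. -/
theorem Hyp.isPGroup_two_step (h : Hyp G Ω a t Q)
    (hind : ∀ w ∈ Ww a t, w ≠ 1 → ∀ x ∈ Q, w * x = x * w → Odd (orderOf x) → x = 1) :
    IsPGroup 2 Q := by
  obtain ⟨S, R, hQ⟩ := h.exists_split
  by_cases hR1 : R = ⊥
  · have e : Q = S := by
      refine le_antisymm (fun q hq => ?_) hQ.S_le
      obtain ⟨σ, hσ, ρ, hρ, rfl⟩ := hQ.decomp q hq
      rw [hR1, Subgroup.mem_bot] at hρ
      rwa [hρ, mul_one]
    rw [e]; exact hQ.pS
  exfalso
  haveI : Fact (Nat.Prime 2) := ⟨Nat.prime_two⟩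
  letI : Fintype G := Fintype.ofFinite G
  letI : Fintype S := Fintype.ofFinite S
  letI : Fintype R := Fintype.ofFinite R
  obtain ⟨n, F, iF, iFF, hn, hq, ⟨FM⟩⟩ := h.exists_fieldModel
  obtain ⟨e, hVe, hen, heodd⟩ := h.index_dvd FM hn
  obtain ⟨wb, hwb⟩ : Nat.card (Vzero a t S) ∣ Nat.card (Ww a t) :=
    Subgroup.card_dvd_of_le inf_le_left
  obtain ⟨s, r₀, hs, hs1, -, -, hV⟩ := h.exists_s
  have hs2 : s * s = 1 := (h.mem_Zz.1 hs).2
  obtain ⟨M, hM⟩ := exists_isPModular (q := 2) Nat.prime_two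
  -- orders
  set q := Nat.card (Zz G a) with hqdef
  set σn := Nat.card S with hσn
  set r := Nat.card R with hr
  have hqK : Nat.card (Kk a t) + 1 = q := h.card_Kk
  have hr0 : 0 < r := Nat.card_pos
  have hKpos : 0 < Nat.card (Kk a t) := Nat.card_pos
  have hq2 : 2 ≤ q := by omega
  have hv00 : 0 < Nat.card (Vzero a t S) := Nat.card_pos
  have hW0 : 0 < Nat.card (Ww a t) := Nat.card_pos
  have hwb0 : 1 ≤ wb := Nat.one_le_iff_ne_zero.2 fun e => by
    rw [hwb, e, mul_zero] at hW0; omega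
  have hqs : q ≤ σn := Nat.card_le_card_of_injective _
    (Subgroup.inclusion_injective (h.Zz_le_S hQ))
  -- the odd part
  obtain ⟨L, hLD, hLcard, hLdec⟩ := h.card_Kk_Ww
  have hLR : ∀ l ∈ L, ∀ x ∈ R, l * x * l⁻¹ ∈ R := fun l hl x hx => h.R_conj hQ (hLD hl).1 hx
  have hfpf : ∀ l ∈ L, l ≠ 1 → ∀ x ∈ R, l * x * l⁻¹ = x → x = 1 := by
    intro l hl hl1 x hx hc
    by_contra hx1
    obtain ⟨k, hk, w, hw, rfl⟩ := hLdec l hl
    have hc' : k * w * x = x * (k * w) := mul_inv_eq_iff_eq_mul.1 hc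
    have hk1 := h.eq_one_of_commute hk hw (hQ.R_le hx) hx1 hc'
    subst hk1
    rw [one_mul] at hc' hl1
    exact hx1 (hind w hw hl1 x (hQ.R_le hx) hc'
      (Odd.of_dvd_nat hQ.oddR (Subgroup.orderOf_dvd_natCard R hx)))
  obtain ⟨m, hm⟩ := dvd_card_sub_one hLR hfpf
  have hr2 : 2 ≤ r := by
    by_contra hlt
    exact hR1 (Subgroup.card_eq_one.1 (show Nat.card R = 1 by omega))
  have hwW : wb ≤ Nat.card (Ww a t) := by rw [hwb]; exact Nat.le_mul_of_pos_left _ hv00
  have hLpos : 0 < Nat.card L := Nat.card_pos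
  have hLodd : Odd (Nat.card L) := Odd.of_dvd_nat h.setup.odd_card (Subgroup.card_dvd_of_le hLD)
  have hm2 : 2 ≤ m := by
    rcases Nat.lt_or_ge m 2 with hlt | hge
    · exfalso
      interval_cases m
      · omega
      · obtain ⟨i, hi⟩ := hQ.oddR
        obtain ⟨j, hj⟩ := hLodd
        omega
    · exact hge
  have hrge : 2 * Nat.card L + 1 ≤ r := by
    have := Nat.mul_le_mul_left (Nat.card L) hm2
    omega
  have hrw : 2 * (q - 1) * wb + 1 ≤ r := by
    have h1 : (q - 1) * wb ≤ Nat.card L := by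
      rw [hLcard, ← hqK, Nat.add_sub_cancel]
      exact Nat.mul_le_mul_left _ hwW
    rw [mul_assoc]
    omega
  have hr29 : q = 8 → wb = 1 → 29 ≤ r := by
    intro h8 _
    have hne : r ≠ 15 := h.card_R_ne_fifteen hQ h8
    have hK7 : 7 ∣ r - 1 := by
      have e7 : Nat.card (Kk a t) = 7 := by omega
      exact ⟨Nat.card (Ww a t) * m, by rw [hm, hLcard, e7, mul_assoc]⟩
    obtain ⟨i, hi⟩ := hQ.oddR
    obtain ⟨j, hj⟩ := hK7
    omega
  have hwb1 : wb = 1 ∨ q * ((q - 1) * wb + 1) ≤ σn := by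
    by_cases hab : ∀ x ∈ S, ∀ y ∈ S, x * y = y * x
    · left
      have e0 : Vzero a t S = Ww a t := le_antisymm inf_le_left fun w hw =>
        ⟨hw, Subgroup.mem_centralizer_iff.2 fun y hy =>
          (h.Ww_centralizes (h.twoSub hQ) hab hw hy).symm⟩
      rw [e0] at hwb
      exact (Nat.eq_of_mul_eq_mul_left hW0 (by rw [mul_one]; exact hwb.symm) : wb = 1)
    · right
      have hd := h.card_Ww_dvd_aux (h.twoSub hQ) hab
      have hfacts := (h.suzuki_facts (h.twoSub hQ) hab).2.2.1
      rw [← hqdef, ← hσn] at hfacts hd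
      have hq1 : 2 ≤ q := by omega
      obtain ⟨j, hj, hj2⟩ : ∃ j, σn = q * j ∧ 2 ≤ j := by
        rcases hfacts with e2 | e3
        · exact ⟨q, by rw [e2]; ring, hq1⟩
        · exact ⟨q * q, by rw [e3]; ring, by nlinarith⟩
      rw [hj, Nat.mul_div_cancel_left _ (by omega : 0 < q)] at hd
      have hle := Nat.le_of_dvd (Nat.mul_pos (by omega) hv00) hd
      rw [hwb] at hle
      have hle' : Nat.card (Kk a t) * wb ≤ j - 1 := by
        refine Nat.le_of_mul_le_mul_right ?_ hv00
        calc Nat.card (Kk a t) * wb * Nat.card (Vzero a t S)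
            = Nat.card (Kk a t) * (Nat.card (Vzero a t S) * wb) := by ring
          _ ≤ _ := hle
      rw [hj, show q - 1 = Nat.card (Kk a t) by omega]
      exact Nat.mul_le_mul_left q (by omega)
  -- the principal block
  set B := (principalBlock M G).toFinset with hB
  obtain ⟨N, hNC, hNn, hNodd, hNcard⟩ := h.odd_core_cen hQ hs hs1
  obtain ⟨P, hP, hPle⟩ := principalDegSq_le hM _ N hNC hNn hNodd
  have hC := h.card_cen hs hs1 hV
  have hQcard : Nat.card Q = σn * r := hQ.card.symm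
  have hPb : P ≤ σn * e * wb := by
    rw [hNcard, hC, hQcard, hVe, hwb, ← hr] at hPle
    refine Nat.le_of_mul_le_mul_right ?_ (Nat.mul_pos hr0 hv00)
    calc P * (r * Nat.card (Vzero a t S)) ≤ σn * r * (e * (Nat.card (Vzero a t S) * wb)) := hPle
      _ = _ := by ring
  let x : IrrCharacter G → ℝ := fun χ => ((χ : G → ℂ) s).re
  let d : IrrCharacter G → ℝ := fun χ => ((χ : G → ℂ) 1).re
  let av : IrrCharacter G → ℝ := fun χ => (StrongEmb.TwoNilp.fixDim R χ : ℝ)
  let b : IrrCharacter G → ℝ := fun χ =>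
    ∑ u ∈ (Finset.univ : Finset S).erase 1, ((χ : G → ℂ) (u : G)).re
  have hxs : ∀ χ : IrrCharacter G, (χ : G → ℂ) s = (x χ : ℂ) := fun χ => apply_eq_re hs2 χ
  have hd1 : ∀ χ : IrrCharacter G, (χ : G → ℂ) 1 = (d χ : ℂ) := fun χ => by
    obtain ⟨k, -, hk⟩ := χ.2.exists_degree
    simp only [d, hk, Complex.natCast_re, Complex.ofReal_natCast]
  have hd0 : ∀ χ : IrrCharacter G, 0 < d χ := fun χ => by
    obtain ⟨k, hk0, hk⟩ := χ.2.exists_degree
    simp only [d, hk, Complex.natCast_re]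
    exact_mod_cast hk0
  -- the block is constant on the cosets of `R` at `S#`
  have hconst : ∀ χ ∈ B, ∀ u : S, u ≠ 1 → ∀ y : R,
      (χ : G → ℂ) ((u : G) * y) = (χ : G → ℂ) (u : G) := by
    intro χ hχ u hu y
    have hu1 : (u : G) ≠ 1 := fun e => hu (Subtype.ext e)
    obtain ⟨k, hk⟩ := IsPGroup.iff_orderOf.1 hQ.pS u
    refine apply_mul_odd hM ⟨k, by rw [Subgroup.orderOf_coe, hk]⟩ (fun z hz => ?_)
      (fun g hg z hz => h.R_conj hQ (h.cen_le_stab (hQ.S_le u.2) hu1 hg) hz) hQ.oddR y.2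
      (Set.mem_toFinset.1 hχ)
    exact Subgroup.mem_centralizer_singleton_iff.2 (hQ.comm u u.2 z hz).symm
  have hmult : ∀ χ ∈ B, ∀ μ : IrrCharacter R, ∃ k : ℕ,
      classInner (fun y : R => (χ : G → ℂ) y) (μ : R → ℂ) * r +
        (∑ u ∈ (Finset.univ : Finset S).erase 1, (χ : G → ℂ) (u : G)) *
          (∑ y : R, conj ((μ : R → ℂ) y)) = (k : ℂ) * (σn * r) := by
    intro χ hχ μ
    obtain ⟨k, hk⟩ := exists_nat_mult (A := S) (R := R) (fun u y => hQ.comm u u.2 y y.2) χ μ
    refine ⟨k, ?_⟩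
    rw [← hk, ← Finset.add_sum_erase _ _ (Finset.mem_univ (1 : S))]
    congr 1
    · simp only [OneMemClass.coe_one, one_mul, classInner, hr]
      rw [mul_comm, mul_inv_cancel_left₀ (Nat.cast_ne_zero.2 Nat.card_pos.ne')]
    · rw [Finset.sum_mul]
      refine Finset.sum_congr rfl fun u hu => ?_
      rw [Finset.mul_sum]
      exact Finset.sum_congr rfl fun y _ => by rw [hconst χ hχ u (Finset.mem_erase.1 hu).1 y]
  have hfixm : ∀ χ ∈ B, ∃ k : ℕ, av χ + b χ = (σn : ℝ) * k := by
    intro χ hχ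
    obtain ⟨k, hk⟩ := hmult χ hχ ⟨fun _ => 1, Char.isIrrCharacter_one⟩
    refine ⟨k, ?_⟩
    have h1 := StrongEmb.TwoNilp.avg_eq R χ
    simp only [classInner, map_one, mul_one, Finset.sum_const, Finset.card_univ, nsmul_eq_mul,
      h1, hr, ← Nat.card_eq_fintype_card] at hk
    rw [← add_mul, ← mul_assoc, mul_left_inj' (Nat.cast_ne_zero.2 Nat.card_pos.ne')] at hk
    have h2 := congrArg Complex.re hk
    simp only [Complex.add_re, Complex.re_sum, Complex.natCast_re, Complex.mul_re,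
      Complex.natCast_im, mul_zero, sub_zero] at h2
    rw [mul_comm]
    exact h2
  -- the bound on the fixed space
  set β := 1 / (r : ℝ) + Real.sqrt ((e : ℝ) / (r * ((σn : ℝ) - e))) with hβ
  have hes : (e : ℝ) < σn := by
    have h1 : e ≤ n := Nat.le_of_dvd (by omega) hen
    have h2 : n < q := hq ▸ Nat.lt_two_pow_self
    exact_mod_cast (show e < σn by omega)
  have hrR : (0 : ℝ) < r := by exact_mod_cast hr0
  have hse : (0 : ℝ) < (σn : ℝ) - e := by linarith
  have hrb : (r : ℝ) * β - 1 = r * Real.sqrt ((e : ℝ) / (r * ((σn : ℝ) - e))) := by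
    rw [hβ]; field_simp; ring
  have hβ2 : ((r : ℝ) * β - 1) ^ 2 * ((σn : ℝ) - e) = r * e := by
    rw [hrb, mul_pow, Real.sq_sqrt (div_nonneg (Nat.cast_nonneg _) (by positivity))]
    field_simp
  have hbound : ∀ χ ∈ B, x χ ≠ d χ → av χ ≤ β * d χ := by
    intro χ hχ hne
    have hker : ∃ y ∈ R, (χ : G → ℂ) y ≠ (χ : G → ℂ) 1 := by
      by_contra hcon
      simp only [not_exists, not_and, not_not] at hcon
      have hRker : R ≤ Char.charKer χ.2.isCharacter := fun y hy =>
        (Char.mem_charKer _).2 (hcon y hy)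
      rcases Nat.even_or_odd (Nat.card (Char.charKer χ.2.isCharacter)) with he2 | ho
      · obtain ⟨⟨z, hz⟩, hzo⟩ := exists_prime_orderOf_dvd_card'
          (G := Char.charKer χ.2.isCharacter) 2 he2.two_dvd
        rw [Subgroup.orderOf_mk] at hzo
        obtain ⟨g, hg⟩ := invol_conj h.setup (Invol.ne_one hzo) (Invol.inv_mul_self hzo) hs1 hs2
        have hsk := (Char.charKer_normal χ.2.isCharacter).conj_mem z hz g
        rw [hg] at hsk
        exact hne (congrArg Complex.re ((Char.mem_charKer _).1 hsk))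
      · exact hR1 (le_bot_iff.1 (hRker.trans
          (le_of_eq (h.normal_odd_eq_bot (Char.charKer_normal _) ho))))
    obtain ⟨af, df, haf, hdf, hb1, hb2⟩ := fix_bound (R := R) (A := MulAction.stabilizer G a) (L := L)
      (fun g y hy hy1 hgy => h.mem_stab_of_conj (hQ.R_le hy) hy1 (hQ.R_le hgy)) hLR hfpf χ σn
      (fun μ hμ => by
        obtain ⟨k, hk⟩ := hmult χ hχ μ
        refine ⟨k, ?_⟩
        have h0 : ∑ y : R, conj ((μ : R → ℂ) y) = 0 := by
          have h1 := Char.classInner_irr_ne μ.2 Char.isIrrCharacter_one hμ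
          simp only [classInner, map_one, mul_one, mul_eq_zero] at h1
          rw [← map_sum, h1.resolve_left (inv_ne_zero (Nat.cast_ne_zero.2 Nat.card_pos.ne')), map_zero]
        rw [h0, mul_zero, add_zero, ← mul_assoc,
          mul_left_inj' (Nat.cast_ne_zero.2 hr0.ne')] at hk
        rw [hk, mul_comm])
      hker
    have hA : (Nat.card (MulAction.stabilizer G a) : ℝ) = σn * r * (e * Nat.card L) := by
      have e1 : Nat.card (MulAction.stabilizer G a) = σn * r * (e * Nat.card L) := by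
        rw [card_stab h.setup, hQcard, h.card_Dd, hVe, hLcard]; ring
      exact_mod_cast e1
    rw [hA, ← hr] at hb1 hb2
    have hd' : d χ = df := by simp only [d, hdf, Complex.natCast_re]
    have ha' : av χ = af := by simp only [av, haf]
    rw [ha', hd']
    have hLR' : (0 : ℝ) ≤ σn * r * Nat.card L := by positivity
    have h3 : ((r : ℝ) * af - df) ^ 2 * ((σn : ℝ) - e) ≤ ((r : ℝ) * β - 1) ^ 2 * ((σn : ℝ) - e) * (df : ℝ) ^ 2 := by
      rw [hβ2]
      have h4 : (σn : ℝ) * r * Nat.card L * ((σn : ℝ) - e) ≤ (df : ℝ) ^ 2 := by linarith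
      calc ((r : ℝ) * af - df) ^ 2 * ((σn : ℝ) - e)
          ≤ ((r : ℝ) - 1) * (σn * r * (e * Nat.card L)) * ((σn : ℝ) - e) :=
            mul_le_mul_of_nonneg_right hb1 hse.le
        _ = ((r : ℝ) - 1) * e * (σn * r * Nat.card L * ((σn : ℝ) - e)) := by ring
        _ ≤ (r : ℝ) * e * (df : ℝ) ^ 2 := mul_le_mul (mul_le_mul_of_nonneg_right (by linarith)
            (Nat.cast_nonneg _)) h4 (mul_nonneg hLR' hse.le) (by positivity)
    have h5 : ((r : ℝ) * af - df) ^ 2 ≤ (((r : ℝ) * β - 1) * df) ^ 2 := by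
      rw [mul_pow]
      exact le_of_mul_le_mul_right (by linarith) hse
    have h6 : 0 ≤ ((r : ℝ) * β - 1) * df := by rw [hrb]; positivity
    have h7 := (abs_le.1 (abs_le_of_sq_le_sq h5 h6)).2
    have h8 : (r : ℝ) * af ≤ r * (β * df) := by linarith
    exact le_of_mul_le_mul_left h8 hrR
  -- the weights
  have hzconj : ∀ u : G, u ∈ Zz G a → u ≠ 1 → ∃ g : G, g * s * g⁻¹ = u := fun u hu hu1 => by
    obtain ⟨k, -, hk⟩ := h.Kk_trans hs hs1 hu hu1; exact ⟨k, hk⟩
  set Cn := Nat.card (Subgroup.centralizer ({s} : Set G)) with hCn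
  set gn := Nat.card G with hgn
  have hF : ∀ u ∈ (Finset.univ : Finset S).erase 1,
      ∑ χ ∈ B, x χ * x χ / d χ * ((χ : G → ℂ) (u : G)).re ≤
        if (u : G) ∈ Zz G a then (P : ℝ) * Cn / gn * ((q : ℝ) - 2) else 0 := by
    intro u hu
    have hu1 : (u : G) ≠ 1 := fun e => (Finset.mem_erase.1 hu).1 (Subtype.ext e)
    obtain ⟨k, hk⟩ := IsPGroup.iff_orderOf.1 hQ.pS u
    have hmem : ∀ i ∈ Char.classFinset s, ∀ j ∈ Char.classFinset s, pPt 2 (i * j) = (u : G) →
        i ∈ Zz G a ∧ j ∈ Zz G a ∧ i * j = (u : G) := fun i hi j hj hp =>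
      h.pair_mem hQ u.2 hu1 (class_ne_one hs1 hi) (class_sq hs2 hi) (class_sq hs2 hj) hp
    have hw := block_weight hM hs2 (u := (u : G)) ⟨k, by rw [Subgroup.orderOf_coe, hk]⟩
      fun i hi j hj hp => (hmem i hi j hj hp).2.2
    have hpu : pPt 2 (u : G) = u := (eq_pPt (mul_one _) (Commute.one_right _)
      (by rw [Subgroup.orderOf_coe, hk] : orderOf (u : G) = 2 ^ k) (by simp)).symm
    have hlhs : (∑ χ ∈ B, (χ : G → ℂ) s * (χ : G → ℂ) s / (χ : G → ℂ) 1 * (χ : G → ℂ) (u : G)).re =
        ∑ χ ∈ B, x χ * x χ / d χ * ((χ : G → ℂ) (u : G)).re := by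
      rw [Complex.re_sum]
      refine Finset.sum_congr rfl fun χ _ => ?_
      rw [hxs, hd1, ← Complex.ofReal_mul, ← Complex.ofReal_div, Complex.re_ofReal_mul]
    rw [← hlhs, hw]
    split_ifs with huZ
    · obtain ⟨g, hg⟩ := hzconj _ huZ hu1
      have hu2 : (u : G) * u = 1 := (h.mem_Zz.1 huZ).2
      have hPu : principalDegSq M (Subgroup.centralizer ({(u : G)} : Set G)) = (P : ℂ) := by
        rw [← hP, ← block_sq hM hs2 hs1, ← block_sq hM hu2 hu1]
        exact Finset.sum_congr rfl fun χ _ => by rw [← hg, χ.2.isClassFunction]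
      have hCu : Nat.card (Subgroup.centralizer ({(u : G)} : Set G)) = Cn := by
        have hcl : Char.classFinset (u : G) = Char.classFinset s := by
          ext z
          simp only [Char.mem_classFinset]
          have hc : IsConj s (u : G) := isConj_iff.2 ⟨g, hg⟩
          exact ⟨fun hz => hc.trans hz, fun hz => hc.symm.trans hz⟩
        have e1 := class_card_mul (u : G)
        rw [hcl, ← class_card_mul s] at e1
        have hne : ((Char.classFinset s).card : ℂ) ≠ 0 := by
          intro e0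
          have := class_card_mul s
          rw [e0, zero_mul] at this
          exact Char.card_cast_ne_zero this.symm
        exact_mod_cast mul_left_cancel₀ hne e1
      have hpc : (pairCount s (u : G) : ℝ) ≤ (q : ℝ) - 2 := by
        letI : Fintype (Zz G a) := Fintype.ofFinite _
        have h1 : pairCount s (u : G) + 2 ≤ q := by
          let T : Finset G := (Finset.univ.image fun z : Zz G a => (z : G)).filter
            fun z => z ≠ 1 ∧ z ≠ (u : G)
          have hle : pairCount s (u : G) ≤ T.card := by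
            refine Finset.card_le_card_of_injOn Prod.fst (fun p hp => ?_) fun p hp p' hp' e => ?_
            · obtain ⟨hm', e⟩ := Finset.mem_filter.1 hp
              obtain ⟨h1, h2⟩ := Finset.mem_product.1 hm'
              refine Finset.mem_filter.2 ⟨Finset.mem_image.2 ⟨⟨p.1,
                (hmem _ h1 _ h2 (by rw [e, hpu])).1⟩, Finset.mem_univ _, rfl⟩,
                class_ne_one hs1 h1, fun e1 => class_ne_one hs1 h2 ?_⟩
              refine mul_left_cancel (a := p.1) ?_
              rw [e, mul_one, e1]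
            · rw [Finset.mem_coe] at hp hp'
              obtain ⟨-, e1⟩ := Finset.mem_filter.1 hp
              obtain ⟨-, e2⟩ := Finset.mem_filter.1 hp'
              exact Prod.ext e (mul_left_cancel (a := p.1) (by rw [e1, e]; exact e2.symm))
          have hT : T.card + 2 = q := by
            have hU : (Finset.univ.image fun z : Zz G a => (z : G)).card = q := by
              rw [Finset.card_image_of_injective _ Subtype.val_injective, Finset.card_univ, hqdef,
                Nat.card_eq_fintype_card]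
            have e : T = (Finset.univ.image fun z : Zz G a => (z : G)) \ {1, (u : G)} := by
              ext z
              simp [T, Finset.mem_sdiff]
            have hsub : ({1, (u : G)} : Finset G) ⊆ Finset.univ.image fun z : Zz G a => (z : G) := by
              intro z hz
              refine Finset.mem_image.2 ⟨⟨z, ?_⟩, Finset.mem_univ _, rfl⟩
              rcases Finset.mem_insert.1 hz with rfl | hz
              · exact one_mem _
              · rw [Finset.mem_singleton.1 hz]; exact huZ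
            have h2 := Finset.card_sdiff_add_card_eq_card hsub
            rw [← e, Finset.card_pair (Ne.symm hu1), hU] at h2
            exact h2
          omega
        have h2 : ((pairCount s (u : G) + 2 : ℕ) : ℝ) ≤ q := by exact_mod_cast h1
        push_cast at h2
        linarith
      have hCn0 : (0 : ℝ) < Cn := by exact_mod_cast Nat.card_pos
      rw [hPu, hCu, show ((P : ℂ) * (Cn : ℂ) ^ 2 / ((Cn : ℂ) * gn) * pairCount s (u : G)) =
        (((P : ℝ) * Cn / gn * pairCount s (u : G) : ℝ) : ℂ) by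
          push_cast
          have : (Cn : ℂ) ≠ 0 := Nat.cast_ne_zero.2 Nat.card_pos.ne'
          field_simp, Complex.ofReal_re]
      exact mul_le_mul_of_nonneg_left hpc (by positivity)
    · have hp0 : pairCount s (u : G) = 0 := by
        refine Finset.card_eq_zero.2 (Finset.filter_eq_empty_iff.2 fun p hp e => huZ ?_)
        obtain ⟨h1, h2⟩ := Finset.mem_product.1 hp
        obtain ⟨hi, hj, -⟩ := hmem _ h1 _ h2 (by rw [e, hpu])
        exact e ▸ mul_mem hi hj
      rw [hp0, Nat.cast_zero, mul_zero, Complex.zero_re]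
  have hFsum : ∑ u ∈ (Finset.univ : Finset S).erase 1,
      (∑ χ ∈ B, x χ * x χ / d χ * ((χ : G → ℂ) (u : G)).re) ≤ ((q : ℝ) - 2) * e * wb / r := by
    refine le_trans (Finset.sum_le_sum hF) ?_
    rw [Finset.sum_ite, Finset.sum_const_zero, add_zero, Finset.sum_const, nsmul_eq_mul]
    letI : Fintype (Zz G a) := Fintype.ofFinite _
    have hcnt : (((Finset.univ : Finset S).erase 1).filter fun u : S => (u : G) ∈ Zz G a).card + 1 ≤ q := by
      have h1 : (((Finset.univ : Finset S).erase 1).filter fun u : S => (u : G) ∈ Zz G a).card ≤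
          ((Finset.univ : Finset (Zz G a)).erase 1).card := by
        refine Finset.card_le_card_of_injOn (fun u => if hu : (u : G) ∈ Zz G a then ⟨u, hu⟩ else 1)
          (fun u hu => ?_) fun u hu u' hu' e => ?_
        · obtain ⟨h1, h2⟩ := Finset.mem_filter.1 hu
          refine Finset.mem_erase.2 ⟨?_, Finset.mem_univ _⟩
          simp only [dif_pos h2]
          exact fun e => (Finset.mem_erase.1 h1).1 (Subtype.ext (congrArg (Subtype.val : Zz G a → G) e))
        · have h2 := (Finset.mem_filter.1 (Finset.mem_coe.1 hu)).2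
          have h2' := (Finset.mem_filter.1 (Finset.mem_coe.1 hu')).2
          simp only [dif_pos h2, dif_pos h2'] at e
          exact Subtype.ext (congrArg (Subtype.val : Zz G a → G) e)
      rw [Finset.card_erase_of_mem (Finset.mem_univ _), Finset.card_univ,
        ← Nat.card_eq_fintype_card] at h1
      omega
    set c := (((Finset.univ : Finset S).erase 1).filter fun u : S => (u : G) ∈ Zz G a).card
    have hg : gn = Nat.card Q * (Nat.card (Vv a t) * Nat.card (Kk a t)) * (Nat.card Q + 1) := by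
      rw [hgn, card_group h.setup, h.card_Dd]
    have hK0 : (0 : ℝ) < Nat.card (Kk a t) := by exact_mod_cast Nat.card_pos
    have hQ0 : (0 : ℝ) < Nat.card Q := by exact_mod_cast Nat.card_pos
    have hV0 : (0 : ℝ) < Nat.card (Vv a t) := by exact_mod_cast Nat.card_pos
    have hc' : (c : ℝ) ≤ Nat.card (Kk a t) := by exact_mod_cast (show c ≤ Nat.card (Kk a t) by omega)
    have hq2 : (0 : ℝ) ≤ (q : ℝ) - 2 := by
      have : (2 : ℝ) ≤ q := by exact_mod_cast (show 2 ≤ q by omega)
      linarith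
    calc (c : ℝ) * ((P : ℝ) * Cn / gn * ((q : ℝ) - 2))
        ≤ (Nat.card (Kk a t) : ℝ) * ((P : ℝ) * Cn / gn * ((q : ℝ) - 2)) :=
          mul_le_mul_of_nonneg_right hc' (mul_nonneg (by positivity) hq2)
      _ = ((q : ℝ) - 2) * ((P : ℝ) / ((Nat.card Q : ℝ) + 1)) := by
          rw [hg, hC]; push_cast; field_simp
      _ ≤ ((q : ℝ) - 2) * ((σn * e * wb : ℝ) / ((σn : ℝ) * r)) := by
          refine mul_le_mul_of_nonneg_left ?_ hq2
          have hσ0 : (0 : ℝ) < σn := by exact_mod_cast Nat.card_pos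
          refine div_le_div₀ (by positivity) (by exact_mod_cast hPb) (by positivity) ?_
          rw [hQcard]; push_cast; linarith
      _ = _ := by
          have hσ0 : (0 : ℝ) < σn := by exact_mod_cast Nat.card_pos
          field_simp
  -- assemble
  set B1 := B.filter fun χ => x χ = d χ with hB1
  have hg0 : ∀ χ ∈ B, 0 ≤ x χ * x χ / d χ * (av χ + b χ) := fun χ hχ => by
    obtain ⟨k, hk⟩ := hfixm χ hχ
    rw [hk]
    exact mul_nonneg (div_nonneg (mul_self_nonneg _) (hd0 χ).le) (by positivity)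
  have hker1 : ∀ χ ∈ B1, av χ = d χ ∧ b χ = ((σn : ℝ) - 1) * d χ := by
    intro χ hχ
    have he' : (χ : G → ℂ) s = (χ : G → ℂ) 1 := by rw [hxs, hd1, (Finset.mem_filter.1 hχ).2]
    have hQker := fun (y : G) (hy : y ∈ Q) => h.trivial_on_Q hs2 hs1 he' hy
    constructor
    · have h1 := StrongEmb.TwoNilp.avg_eq R χ
      rw [Finset.sum_congr rfl (g := fun _ => (d χ : ℂ)) (fun y _ => by
          rw [hQker y (hQ.R_le y.2), hd1]), Finset.sum_const, Finset.card_univ, nsmul_eq_mul,
        ← Nat.card_eq_fintype_card, inv_mul_cancel_left₀ (Nat.cast_ne_zero.2 Nat.card_pos.ne')] at h1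
      have h2 := congrArg Complex.re h1
      simp only [Complex.ofReal_re, Complex.natCast_re] at h2
      exact h2.symm
    · simp only [b]
      rw [Finset.sum_congr rfl (g := fun _ => d χ) (fun u _ => by
          rw [hQker u (hQ.S_le u.2)]), Finset.sum_const, Finset.card_erase_of_mem (Finset.mem_univ _),
        Finset.card_univ, ← Nat.card_eq_fintype_card, nsmul_eq_mul,
        Nat.cast_sub (Nat.one_le_iff_ne_zero.2 Nat.card_pos.ne'), Nat.cast_one]
  set E := ∑ χ ∈ B1, d χ * d χ with hEdef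
  have hlow : (σn : ℝ) * E ≤ ∑ χ ∈ B, x χ * x χ / d χ * (av χ + b χ) := by
    refine le_trans (le_of_eq ?_) (Finset.sum_le_sum_of_subset_of_nonneg
      (Finset.filter_subset (fun χ => x χ = d χ) B) fun χ hχ _ => hg0 χ hχ)
    rw [hEdef, Finset.mul_sum]
    refine Finset.sum_congr rfl fun χ hχ => ?_
    obtain ⟨ha1, hb1⟩ := hker1 χ hχ
    have hxd : x χ = d χ := (Finset.mem_filter.1 hχ).2
    have := (hd0 χ).ne'
    rw [ha1, hb1, hxd]
    field_simp
    ring
  have hPsum : ∑ χ ∈ B, x χ * x χ = (P : ℝ) := by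
    apply Complex.ofReal_injective
    rw [Complex.ofReal_natCast, ← hP, ← block_sq hM hs2 hs1]
    push_cast
    exact Finset.sum_congr rfl fun χ _ => by rw [hxs χ]
  have hup : ∑ χ ∈ B, x χ * x χ / d χ * av χ ≤ E + β * ((P : ℝ) - E) := by
    rw [← Finset.sum_filter_add_sum_filter_not B (fun χ => x χ = d χ)]
    refine add_le_add (le_of_eq (Finset.sum_congr rfl fun χ hχ => ?_)) ?_
    · have hxd : x χ = d χ := (Finset.mem_filter.1 hχ).2
      have := (hd0 χ).ne'
      rw [(hker1 χ hχ).1, hxd]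
      field_simp
    · have e1 : (P : ℝ) - E = ∑ χ ∈ B.filter (fun χ => ¬ x χ = d χ), x χ * x χ := by
        rw [← hPsum, ← Finset.sum_filter_add_sum_filter_not B (fun χ => x χ = d χ) (fun χ => x χ * x χ),
          hEdef, Finset.sum_congr rfl (g := fun χ => d χ * d χ) fun χ hχ => by
            rw [(Finset.mem_filter.1 hχ).2]]
        ring
      rw [e1, Finset.mul_sum]
      refine Finset.sum_le_sum fun χ hχ => ?_
      obtain ⟨hχB, hne⟩ := Finset.mem_filter.1 hχ
      have := hbound χ hχB hne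
      calc x χ * x χ / d χ * av χ ≤ x χ * x χ / d χ * (β * d χ) :=
            mul_le_mul_of_nonneg_left this (div_nonneg (mul_self_nonneg _) (hd0 χ).le)
        _ = β * (x χ * x χ) := by have := (hd0 χ).ne'; field_simp
  have hsplit : ∑ χ ∈ B, x χ * x χ / d χ * (av χ + b χ) =
      ∑ χ ∈ B, x χ * x χ / d χ * av χ + ∑ u ∈ (Finset.univ : Finset S).erase 1,
        (∑ χ ∈ B, x χ * x χ / d χ * ((χ : G → ℂ) (u : G)).re) := by
    rw [Finset.sum_comm, ← Finset.sum_add_distrib]
    exact Finset.sum_congr rfl fun χ _ => by rw [mul_add, Finset.mul_sum]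
  have hE1 : 1 ≤ E := by
    have htB : trivChar G ∈ B1 := Finset.mem_filter.2
      ⟨Set.mem_toFinset.2 (trivChar_mem_principal hM), by simp [x, d, trivChar_coe]⟩
    refine le_trans (le_of_eq ?_) (Finset.single_le_sum (fun χ _ => mul_self_nonneg (d χ)) htB)
    simp [d, trivChar_coe]
  have hfin := arith_final hn hq heodd hen hqs hwb0 hwb1 hrw hr29 hβ2.le
  have hβ0 : 0 ≤ β := by rw [hβ]; positivity
  have hPbR : (P : ℝ) ≤ σn * e * wb := by exact_mod_cast hPb
  rw [hsplit] at hlow
  have hσ1 : (1 : ℝ) ≤ σn := by exact_mod_cast Nat.card_pos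
  nlinarith [mul_le_mul_of_nonneg_left hPbR hβ0, mul_le_mul_of_nonneg_left hE1 hβ0,
    mul_le_mul_of_nonneg_left hE1 (by linarith : (0 : ℝ) ≤ (σn : ℝ) - 1)]

/-- An element of `Ww` centralises no element of `Q` of odd order if smaller groups have their
regular subgroup a 2-group. -/
theorem Hyp.no_odd_of_ind (h : Hyp G Ω a t Q)
    (ih : ∀ w : G, ∀ hw : w ∈ Vv a t, Hyp (Im Ω w) (Fx Ω w) (fxBase hw) (fxT h hw) (fxQ Ω Q w) →
      Nat.card (Im Ω w) < Nat.card G → IsPGroup 2 (fxQ Ω Q w)) :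
    ∀ w ∈ Ww a t, w ≠ 1 → ∀ x ∈ Q, w * x = x * w → Odd (orderOf x) → x = 1 := by
  intro w hw hw1 x hx hc ho
  haveI : Fact (Nat.Prime 2) := ⟨Nat.prime_two⟩
  obtain ⟨n, hn, hq⟩ := h.two_pow
  have e : Zz G a ⊓ Subgroup.centralizer {w} = Zz G a := inf_eq_left.2 fun z hz =>
    Subgroup.mem_centralizer_singleton_iff.2 ((h.mem_Ww.1 hw).2 z hz)
  have h4 : 4 ≤ Nat.card (Zz G a ⊓ Subgroup.centralizer {w} : Subgroup G) := by
    rw [e, hq]
    exact le_trans (by norm_num) (Nat.pow_le_pow_right (by norm_num : 0 < 2) hn)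
  obtain ⟨hI, hlt⟩ := h.ind hw.1 hw1 h4
  obtain ⟨k, hk⟩ := (ih w hw.1 hI hlt).exists_card_eq
  rw [h.card_fxQ hw.1] at hk
  have h1 : orderOf x ∣ 2 ^ k := hk ▸ Subgroup.orderOf_dvd_natCard _
    (show x ∈ Q ⊓ Subgroup.centralizer {w} from
      ⟨hx, Subgroup.mem_centralizer_singleton_iff.2 hc.symm⟩)
  obtain ⟨i, -, hi⟩ := (Nat.dvd_prime_pow Nat.prime_two).1 h1
  rw [hi] at ho
  rcases i with _ | i
  · exact orderOf_eq_one_iff.1 (by simpa using hi)
  · exact absurd ho (Nat.not_odd_iff_even.2 ((Nat.even_pow).2 ⟨even_two, Nat.succ_ne_zero i⟩))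

theorem isPGroup_two_aux (N : ℕ) :
    ∀ {G : Type v} {Ω : Type v} [Group G] [MulAction G Ω] [Finite G] [FaithfulSMul G Ω] {a : Ω}
      {t : G} {Q : Subgroup G}, Nat.card G ≤ N → Hyp G Ω a t Q → IsPGroup 2 Q := by
  induction N with
  | zero =>
    intro G Ω _ _ _ _ a t Q hle _
    exact absurd hle (Nat.not_le.2 Nat.card_pos)
  | succ N ih =>
    intro G Ω _ _ _ _ a t Q hle h
    exact h.isPGroup_two_step (h.no_odd_of_ind fun w hw hI hlt => ih (by omega) hI)

/-- In Suzuki's rank-one situation the regular normal subgroup is a 2-group. -/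
theorem Hyp.isPGroup_two (h : Hyp G Ω a t Q) : IsPGroup 2 Q :=
  h.isPGroup_two_step (h.no_odd_of_ind fun _ _ hI _ => isPGroup_two_aux _ le_rfl hI)

end Cfsg.Lib.RankOneSuzuki
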