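import Cfsg.Agent.Lib.RankOneSuzuki.Setup
import Cfsg.Agent.Lib.Sig.FStarModFrattini
import Cfsg.Agent.Lib.Block.PPart
import Cfsg.Agent.S1120

/-!
# The regular normal subgroup as the product of its 2-part and its odd part
-/

set_option autoImplicit false
set_option linter.unusedSectionVars false
set_option linter.style.haveILetI false

namespace Cfsg.Lib.RankOneSuzuki

open Cfsg Cfsg.Lib.Linear.RankOne

universe u v

variable {G : Type u} {Ω : Type v} [Group G] [MulAction G Ω]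

/-- `Q` is the direct product of a 2-group `S` and a group `R` of odd order. -/
structure QSplit (Q S R : Subgroup G) : Prop where
  S_le : S ≤ Q
  R_le : R ≤ Q
  pS : IsPGroup 2 S
  oddR : Odd (Nat.card R)
  card : Nat.card S * Nat.card R = Nat.card Q
  comm : ∀ σ ∈ S, ∀ ρ ∈ R, σ * ρ = ρ * σ
  decomp : ∀ q ∈ Q, ∃ σ ∈ S, ∃ ρ ∈ R, q = σ * ρ

theorem pow_eq_one_both {M : Type*} [Monoid M] {x : M} {a b : ℕ} (ha : x ^ a = 1) (hb : x ^ b = 1)
    (hc : a.Coprime b) : x = 1 := by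
  refine orderOf_eq_one_iff.1 (Nat.dvd_one.1 ?_)
  rw [← hc.gcd_eq_one]
  exact Nat.dvd_gcd (orderOf_dvd_of_pow_eq_one ha) (orderOf_dvd_of_pow_eq_one hb)

variable [Finite G] {Q S R : Subgroup G}

theorem QSplit.coprime (hQ : QSplit Q S R) (n : ℕ) : (2 ^ n).Coprime (Nat.card R) :=
  Nat.Coprime.pow_left n (Nat.prime_two.coprime_iff_not_dvd.2 hQ.oddR.not_two_dvd_nat)

theorem QSplit.exists_card_S (hQ : QSplit Q S R) : ∃ n, Nat.card S = 2 ^ n := by
  haveI : Fact (Nat.Prime 2) := ⟨Nat.prime_two⟩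
  exact hQ.pS.exists_card_eq

theorem QSplit.pow_card_S (hQ : QSplit Q S R) {x : G} (hx : x ∈ S) :
    ∃ n : ℕ, x ^ 2 ^ n = 1 := by
  obtain ⟨n, hn⟩ := hQ.exists_card_S
  exact ⟨n, hn ▸ orderOf_dvd_iff_pow_eq_one.1 (Subgroup.orderOf_dvd_natCard S hx)⟩

theorem QSplit.pow_card_R (_hQ : QSplit Q S R) {x : G} (hx : x ∈ R) : x ^ Nat.card R = 1 :=
  orderOf_dvd_iff_pow_eq_one.1 (Subgroup.orderOf_dvd_natCard R hx)

theorem QSplit.inf_eq (hQ : QSplit Q S R) {x : G} (hS : x ∈ S) (hR : x ∈ R) : x = 1 := by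
  obtain ⟨n, hn⟩ := hQ.pow_card_S hS
  exact pow_eq_one_both hn (hQ.pow_card_R hR) (hQ.coprime n)

theorem QSplit.mem_S (hQ : QSplit Q S R) {x : G} (hx : x ∈ Q) {k : ℕ} (hk : x ^ 2 ^ k = 1) :
    x ∈ S := by
  obtain ⟨σ, hσ, ρ, hρ, rfl⟩ := hQ.decomp x hx
  obtain ⟨n, hn⟩ := hQ.pow_card_S hσ
  have hc : Commute σ ρ := hQ.comm σ hσ ρ hρ
  have h2 : ρ ^ 2 ^ (k + n) = 1 := by
    have h1 : (σ * ρ) ^ 2 ^ (k + n) = 1 := by rw [pow_add, pow_mul, hk, one_pow]
    rw [hc.mul_pow, show 2 ^ (k + n) = 2 ^ n * 2 ^ k by rw [pow_add, mul_comm], pow_mul σ, hn,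
      one_pow, one_mul] at h1
    rw [pow_add, mul_comm]
    exact h1
  rw [pow_eq_one_both h2 (hQ.pow_card_R hρ) (hQ.coprime _), mul_one]
  exact hσ

theorem QSplit.mem_R (hQ : QSplit Q S R) {x : G} (hx : x ∈ Q) {m : ℕ} (hm : Odd m)
    (hk : x ^ m = 1) : x ∈ R := by
  obtain ⟨σ, hσ, ρ, hρ, rfl⟩ := hQ.decomp x hx
  obtain ⟨n, hn⟩ := hQ.pow_card_S hσ
  have hc : Commute σ ρ := hQ.comm σ hσ ρ hρ
  have h2 : σ ^ (m * Nat.card R) = 1 := by
    have h1 : (σ * ρ) ^ (m * Nat.card R) = 1 := by rw [pow_mul, hk, one_pow]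
    rwa [hc.mul_pow, mul_comm m, pow_mul ρ, hQ.pow_card_R hρ, one_pow, mul_one, mul_comm] at h1
  rw [pow_eq_one_both hn h2 (Nat.Coprime.pow_left n
    (Nat.prime_two.coprime_iff_not_dvd.2 (hm.mul hQ.oddR).not_two_dvd_nat)), one_mul]
  exact hρ

variable [FaithfulSMul G Ω] {a : Ω} {t : G}

theorem Hyp.S_conj (h : Hyp G Ω a t Q) (hQ : QSplit Q S R) {g x : G}
    (hg : g ∈ MulAction.stabilizer G a) (hx : x ∈ S) : g * x * g⁻¹ ∈ S := by
  obtain ⟨n, hn⟩ := hQ.pow_card_S hx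
  exact hQ.mem_S (h.setup.conj_mem g hg x (hQ.S_le hx)) (k := n) (by rw [conj_pow, hn]; group)

theorem Hyp.R_conj (h : Hyp G Ω a t Q) (hQ : QSplit Q S R) {g x : G}
    (hg : g ∈ MulAction.stabilizer G a) (hx : x ∈ R) : g * x * g⁻¹ ∈ R :=
  hQ.mem_R (h.setup.conj_mem g hg x (hQ.R_le hx)) hQ.oddR
    (by rw [conj_pow, hQ.pow_card_R hx]; group)

theorem Hyp.Zz_le_S (h : Hyp G Ω a t Q) (hQ : QSplit Q S R) : Zz G a ≤ S := fun x hx =>
  hQ.mem_S (h.Zz_le hx) (k := 1) (by rw [pow_one, pow_two]; exact (h.mem_Zz.1 hx).2)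

/-- A conjugate of a non-identity element of `Q` lying in `Q` is a conjugate in the stabiliser. -/
theorem Hyp.mem_stab_of_conj (h : Hyp G Ω a t Q) {g x : G} (hx : x ∈ Q) (hx1 : x ≠ 1)
    (hg : g * x * g⁻¹ ∈ Q) : g ∈ MulAction.stabilizer G a := by
  refine MulAction.mem_stabilizer_iff.2 (fix_eq h.setup hg (fun e => hx1 (conj_eq_one_iff.1 e)) ?_)
  rw [mul_smul, mul_smul, inv_smul_smul]
  congr 1
  exact h.setup.le hx

theorem Hyp.cen_le_stab (h : Hyp G Ω a t Q) {x : G} (hx : x ∈ Q) (hx1 : x ≠ 1) :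
    Subgroup.centralizer ({x} : Set G) ≤ MulAction.stabilizer G a := fun g hg =>
  h.mem_stab_of_conj hx hx1 (by
    rwa [Subgroup.mem_centralizer_singleton_iff.1 hg, mul_inv_cancel_right])

/-- The kernel of the action being trivial, a normal subgroup without involutions is trivial. -/
theorem Hyp.normal_odd_eq_bot (h : Hyp G Ω a t Q) {N : Subgroup G} (hN : N.Normal)
    (hodd : Odd (Nat.card N)) : N = ⊥ := by
  haveI := pretransitive h.setup
  have h1 : N ≤ Cfsg.pPrimeCore 2 G := Cfsg.Lib.Core.le_pPrimeCore' hN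
    (Nat.coprime_comm.1 (Nat.prime_two.coprime_iff_not_dvd.2 hodd.not_two_dvd_nat))
  rw [Cfsg.Agent.S1120.result h.setup h.two] at h1
  refine (Subgroup.eq_bot_iff_forall _).2 fun x hx => eq_of_smul_eq_smul (α := Ω) fun b => ?_
  rw [one_smul]
  obtain ⟨g, rfl⟩ := MulAction.exists_smul_eq G a b
  have h2 : g⁻¹ * x * g ∈ (MulAction.stabilizer G a).normalCore := by
    simpa using (Subgroup.normalCore_normal _).conj_mem x (h1 hx) g⁻¹
  have h3 : (g⁻¹ * x * g) • a = a := Subgroup.normalCore_le _ h2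
  calc x • g • a = g • (g⁻¹ * x * g) • a := by simp [mul_smul]
    _ = g • a := by rw [h3]

theorem Hyp.exists_split (h : Hyp G Ω a t Q) : ∃ S R : Subgroup G, QSplit Q S R := by
  haveI : Fact (Nat.Prime 2) := ⟨Nat.prime_two⟩
  have hnil := isNilpotent h.setup h.two
  set A := Cfsg.pCore 2 Q
  set B := Cfsg.pPrimeCore 2 Q
  have hA : IsPGroup 2 A := Cfsg.Lib.Core.pCore_isPGroup 2 Q
  have hB : Odd (Nat.card B) := by
    rw [← Nat.not_even_iff_odd, even_iff_two_dvd]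
    exact Cfsg.Lib.Core.pPrimeCore_not_dvd 2 Q
  haveI hAn : A.Normal := inferInstance
  haveI hBn : B.Normal := inferInstance
  have hdisj : Disjoint A B := by
    rw [disjoint_iff, Subgroup.eq_bot_iff_forall]
    intro x hx
    obtain ⟨k, hk⟩ := hA.exists_card_eq
    exact pow_eq_one_both (hk ▸ orderOf_dvd_iff_pow_eq_one.1 (Subgroup.orderOf_dvd_natCard A hx.1))
      (orderOf_dvd_iff_pow_eq_one.1 (Subgroup.orderOf_dvd_natCard B hx.2))
      (Nat.Coprime.pow_left k (Nat.prime_two.coprime_iff_not_dvd.2 hB.not_two_dvd_nat))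
  have hcompl : A.IsComplement' B := by
    refine Subgroup.isComplement'_of_disjoint_and_mul_eq_univ hdisj ?_
    rw [← Subgroup.mul_normal, Cfsg.Lib.Sig.pCore_sup_pPrimeCore_eq_top hnil 2, Subgroup.coe_top]
  refine ⟨A.map Q.subtype, B.map Q.subtype, Subgroup.map_subtype_le _, Subgroup.map_subtype_le _,
    hA.map _, ?_, ?_, ?_, fun q hq => ?_⟩
  · rwa [Subgroup.card_map_of_injective Q.subtype_injective]
  · rw [Subgroup.card_map_of_injective Q.subtype_injective,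
      Subgroup.card_map_of_injective Q.subtype_injective, hcompl.card_mul_card]
  · rintro _ ⟨x, hx, rfl⟩ _ ⟨y, hy, rfl⟩
    exact congrArg Q.subtype (Subgroup.commute_of_normal_of_disjoint A B hAn hBn hdisj x y hx hy).eq
  · obtain ⟨⟨⟨x, hx⟩, ⟨y, hy⟩⟩, e, -⟩ := hcompl.existsUnique ⟨q, hq⟩
    exact ⟨x, ⟨x, hx, rfl⟩, y, ⟨y, hy, rfl⟩, (congrArg Subtype.val e).symm⟩

end Cfsg.Lib.RankOneSuzuki
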