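import Cfsg.Agent.Lib.RankOneSuzuki.SetupField
import Cfsg.Agent.Lib.RankOneSuzuki.SetupWbar

/-!
# Suzuki's rank-one theorem, `Ww ≠ ⊥`: coordinates for the involutions and the inverted elements
-/

set_option autoImplicit false
set_option linter.unusedSectionVars false
set_option linter.style.haveILetI false

namespace Cfsg.Lib.RankOneSuzuki

open Cfsg Cfsg.Lib.Linear.RankOne

universe u v

variable {G : Type u} {Ω : Type v} [Group G] [MulAction G Ω]

/-- Coordinates: `z x` is an involution of the point stabiliser, `k r` acts on them by `r * r`. -/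
structure Crd (a : Ω) (t : G) (F : Type) [Field F] where
  /-- the involutions -/
  z : F → G
  /-- the inverted elements -/
  k : F → G
  z_mem : ∀ x, z x ∈ Zz G a
  z_surj : ∀ g ∈ Zz G a, ∃ x, z x = g
  z_add : ∀ x y, z (x + y) = z x * z y
  z_inj : ∀ x y, z x = z y → x = y
  k_mem : ∀ r, r ≠ 0 → k r ∈ Kk a t
  k_surj : ∀ g ∈ Kk a t, ∃ r, r ≠ 0 ∧ k r = g
  k_mul : ∀ r r', r ≠ 0 → r' ≠ 0 → k (r * r') = k r * k r'
  conj : ∀ r x, r ≠ 0 → k r * z x * (k r)⁻¹ = z (r * r * x)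
  tzt : ∀ x, x ≠ 0 → t * z x * t = z x⁻¹ * k x⁻¹ * t * z x⁻¹
  tk : ∀ r, r ≠ 0 → t * k r * t = k r⁻¹
  semilinear : ∀ d ∈ Dd a t, ∃ (u : F) (σ : F ≃+* F), u ≠ 0 ∧
    (∀ x, d * z x * d⁻¹ = z (u * u * σ x)) ∧ (σ = 1 → ∃ k' ∈ Kk a t, ∃ w ∈ Ww a t, d = k' * w)

variable [Finite G] [FaithfulSMul G Ω] {a : Ω} {t : G} {Q : Subgroup G}

theorem Hyp.twoSub_self (h : Hyp G Ω a t Q) (hQ : IsPGroup 2 Q) : TwoSub a t Q Q where
  le := le_rfl
  Zz_le := h.Zz_le
  two := hQ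
  conj := fun d hd x hx => h.setup.conj_mem d hd.1 x hx

/-- Only the identity of the two-point stabiliser centralises `Q`. -/
theorem Hyp.eq_one_of_centralizes (h : Hyp G Ω a t Q) {x : G} (hx : x ∈ Dd a t)
    (hc : ∀ y ∈ Q, x * y = y * x) : x = 1 := by
  refine FaithfulSMul.eq_of_smul_eq_smul (α := Ω) fun p => ?_
  rw [one_smul]
  by_cases hp : p = a
  · rw [hp]; exact hx.1
  obtain ⟨y, hy, rfl⟩ := exists_orbit h.setup hp
  rw [smul_smul, hc y hy, mul_smul, show x • t • a = t • a from hx.2]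

/-- An element of `Q` centralised by a non-trivial element of `Ww` is in `Zz`. -/
theorem Hyp.mem_Zz_of_commute (h : Hyp G Ω a t Q) (hQ : IsPGroup 2 Q) {w : G} (hw : w ∈ Ww a t)
    (hw1 : w ≠ 1) {x : G} (hx : x ∈ Q) (hc : w * x = x * w) : x ∈ Zz G a := by
  by_contra hxZ
  exact hw1 (h.eq_one_of_centralizes hw.1.1 (h.Ww_fix_all (h.twoSub_self hQ) hw hx hxZ hc))

theorem Hyp.not_comm_Q (h : Hyp G Ω a t Q) (hQ : IsPGroup 2 Q) (hW : Ww a t ≠ ⊥) :
    ¬ ∀ x ∈ Q, ∀ y ∈ Q, x * y = y * x := by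
  intro hab
  obtain ⟨w, hw, hw1⟩ := (Subgroup.bot_or_exists_ne_one _).resolve_left hW
  exact hw1 (h.eq_one_of_centralizes hw.1.1 fun y hy => h.Ww_centralizes (h.twoSub_self hQ) hab hw hy)

theorem Hyp.card_Q_cube (h : Hyp G Ω a t Q) (hQ : IsPGroup 2 Q) (hW : Ww a t ≠ ⊥) :
    Nat.card Q = Nat.card (Zz G a) ^ 3 ∧ Nat.card (Ww a t) ∣ Nat.card (Zz G a) + 1 := by
  have hT := h.twoSub_self hQ
  obtain ⟨w, hw, hw1⟩ := (Subgroup.bot_or_exists_ne_one _).resolve_left hW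
  have hc : Nat.card Q = Nat.card (Zz G a) ^ 3 := by
    refine (h.suzuki_facts hT (h.not_comm_Q hQ hW)).2.2.1.resolve_left fun e => ?_
    exact hw1 (h.eq_one_of_centralizes hw.1.1 fun y hy =>
      (Subgroup.mem_centralizer_iff.1 (h.Ww_centralizes_sq hT e hw) y hy).symm)
  refine ⟨hc, ?_⟩
  have h1 := h.card_Ww_dvd_cube hT hc
  have e : Ww a t ⊓ Subgroup.centralizer (Q : Set G) = ⊥ := (Subgroup.eq_bot_iff_forall _).2 fun x hx =>
    h.eq_one_of_centralizes hx.1.1.1 fun y hy => (Subgroup.mem_centralizer_iff.1 hx.2 y hy).symm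
  rwa [e, Subgroup.card_bot, mul_one] at h1

/-- The distinguished involution `s` satisfies `t s t = s t s`. -/
theorem Hyp.exists_braid (h : Hyp G Ω a t Q) (hQ : IsPGroup 2 Q) (hW : Ww a t ≠ ⊥) :
    ∃ s ∈ Zz G a, s ≠ 1 ∧ t * s * t = s * t * s ∧ Vv a t = Dd a t ⊓ Subgroup.centralizer {s} := by
  obtain ⟨w, hw, hw1⟩ := (Subgroup.bot_or_exists_ne_one _).resolve_left hW
  obtain ⟨⟨s, r⟩, ⟨hs, hr, heq⟩, huniq⟩ := exists_unique_equation h.setup
  simp only at hs hr heq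
  have hsZ : s ∈ Zz G a := (h.invol_iff.1 hs).1
  have hs1 : s ≠ 1 := hs.2.1
  have hws : w * s = s * w := ((h.mem_Ww.1 hw).2 s hsZ).symm
  have hwt : w * t = t * w := Subgroup.mem_centralizer_singleton_iff.1 hw.1.2
  have hr' : w * r = r * w := by
    have h2 := huniq (s, w * r * w⁻¹) ⟨hs, h.setup.conj_mem w hw.1.1.1 r hr, by
      have e1 : w * (t * s * t) * w⁻¹ = t * s * t := by
        calc w * (t * s * t) * w⁻¹ = (w * t) * s * t * w⁻¹ := by group
          _ = t * (w * s) * t * w⁻¹ := by rw [hwt]; group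
          _ = t * s * (w * t) * w⁻¹ := by rw [hws]; group
          _ = _ := by rw [hwt]; group
      show t * s * t = (w * r * w⁻¹)⁻¹ * t * (w * r * w⁻¹)
      calc t * s * t = w * (r⁻¹ * t * r) * w⁻¹ := by rw [← heq, e1]
        _ = w * r⁻¹ * (w⁻¹ * (w * t)) * r * w⁻¹ := by group
        _ = w * r⁻¹ * (w⁻¹ * (t * w)) * r * w⁻¹ := by rw [hwt]
        _ = _ := by group⟩
    exact mul_inv_eq_iff_eq_mul.1 (congrArg Prod.snd h2)
  have hrZ : r ∈ Zz G a := h.mem_Zz_of_commute hQ hw hw1 hr hr'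
  have hr1 : r ≠ 1 := fun e => smul_ne h.setup (by
    have hsa : s • a = a := hs.1
    rw [e, inv_one, one_mul, mul_one] at heq
    have : s = t := by
      calc s = (t * t) * s * (t * t) := by rw [h.setup.mul_self, one_mul, mul_one]
        _ = t * (t * s * t) * t := by group
        _ = t := by rw [heq, h.setup.mul_self, one_mul]
    rwa [this] at hsa)
  refine ⟨s, hsZ, hs1, ?_, centralizer_eq h.setup hs hr heq⟩
  have hri : r⁻¹ = r := inv_eq_of_mul_eq_one_right (h.mem_Zz.1 hrZ).2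
  rw [hri] at heq
  obtain ⟨k, hk, hkr⟩ := h.Kk_trans hsZ hs1 hrZ hr1
  suffices k = 1 by
    rw [this, one_mul, inv_one, mul_one] at hkr
    rw [heq, hkr]
  have htk : t * k * t⁻¹ = k⁻¹ := (h.mem_Kk.1 hk).2
  have htt : t * t = 1 := h.setup.mul_self
  have hti : t⁻¹ = t := t_inv h.setup
  have hss : s * s = 1 := hs.2.2
  rw [hti] at htk
  have e1 : t * k = k⁻¹ * t := by
    calc t * k = t * k * t * t := by rw [mul_assoc _ t t, htt, mul_one]
      _ = k⁻¹ * t := by rw [htk]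
  have e2 : t * k⁻¹ = k * t := by
    calc t * k⁻¹ = t * (k⁻¹ * t) * t⁻¹ := by group
      _ = t * (t * k) * t⁻¹ := by rw [e1]
      _ = k * t := by rw [← mul_assoc, htt, one_mul, hti]
  have h2 : t * r * t = k⁻¹ * (r * t * r) * k := by
    calc t * r * t = (t * k) * s * (k⁻¹ * t) := by rw [← hkr]; group
      _ = (k⁻¹ * t) * s * (t * k) := by rw [← e1]
      _ = k⁻¹ * (t * s * t) * k := by group
      _ = _ := by rw [heq]
  have h3 : s = t * r * t * r * t := by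
    calc s = (t * t) * s * (t * t) := by rw [htt, one_mul, mul_one]
      _ = t * (t * s * t) * t := by group
      _ = _ := by rw [heq]; group
  have h4 : k⁻¹ * (t * k) * s * r * t = 1 := by
    rw [h2] at h3
    calc k⁻¹ * (t * k) * s * r * t = s⁻¹ * (k⁻¹ * r * t * r * k * r * t) := by rw [← hkr]; group
      _ = s⁻¹ * (k⁻¹ * (r * t * r) * k * r * t) := by group
      _ = 1 := by rw [← h3, inv_mul_cancel]
  have h5 : s * r = k⁻¹ * k⁻¹ := by
    calc s * r = (k⁻¹ * (t * k))⁻¹ * (k⁻¹ * (t * k) * s * r * t) * t⁻¹ := by group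
      _ = k⁻¹ * (t⁻¹ * k) * t := by rw [h4]; simp [hti, mul_assoc]
      _ = k⁻¹ * (t * k) * t := by rw [hti]
      _ = _ := by rw [e1, mul_assoc, mul_assoc, htt, mul_one]
  have h6 := (h.mem_Zz.1 (mul_mem hsZ hrZ)).2
  have hk4 : k * k * (k * k) = 1 := by
    rw [h5] at h6
    calc k * k * (k * k) = (k⁻¹ * k⁻¹ * (k⁻¹ * k⁻¹))⁻¹ := by simp [mul_assoc]
      _ = 1 := by rw [h6, inv_one]
  exact eq_one_of_sq_of_odd h.setup.odd_card (h.Kk_le hk)
    (eq_one_of_sq_of_odd h.setup.odd_card (mul_mem (h.Kk_le hk) (h.Kk_le hk)) hk4)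

set_option maxHeartbeats 400000 in
theorem Hyp.exists_crd (h : Hyp G Ω a t Q) (hQ : IsPGroup 2 Q) (hW : Ww a t ≠ ⊥) :
    ∃ (n : ℕ) (F : Type) (_ : Field F) (_ : Fintype F), 2 ≤ n ∧ Fintype.card F = 2 ^ n ∧
      CharP F 2 ∧ Nat.card (Zz G a) = 2 ^ n ∧ Nonempty (Crd a t F) := by
  classical
  obtain ⟨n, F, _, _, hn, hcard, ⟨M⟩⟩ := h.exists_fieldModel
  obtain ⟨s, hs, hs1, hbr, -⟩ := h.exists_braid hQ hW
  have hF : Fintype.card F = 2 ^ n := by rw [← Nat.card_eq_fintype_card]; exact M.card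
  have hchar : CharP F 2 := by
    haveI : Fact (Nat.Prime 2) := ⟨Nat.prime_two⟩
    refine (CharP.charP_iff_prime_eq_zero Nat.prime_two).2 ?_
    have h0 := Nat.cast_card_eq_zero F
    rw [hF, Nat.cast_pow, Nat.cast_ofNat] at h0
    exact eq_zero_of_pow_eq_zero h0
  haveI := hchar
  haveI : Fact (Nat.Prime 2) := ⟨Nat.prime_two⟩
  have bijective_frobenius : Function.Bijective (frobenius F 2) :=
    Finite.injective_iff_bijective.1 (frobenius_inj F 2)
  have hsqrt : ∀ x : F, ∃ y, y * y = x := fun x => by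
    obtain ⟨y, hy⟩ := bijective_frobenius.2 x
    exact ⟨y, by rw [← hy, frobenius_def, pow_two]⟩
  choose sq hsq using hsqrt
  have hsqu : ∀ x y : F, x * x = y * y → x = y := fun x y e =>
    bijective_frobenius.1 (by rw [frobenius_def, frobenius_def, pow_two, pow_two]; exact e)
  let c : F := M.e ⟨s, hs⟩
  have hM1 : M.e 1 = 0 := by
    have := M.map_mul 1 1
    rw [mul_one] at this
    simpa using this
  have hc : c ≠ 0 := fun e => hs1 (congrArg Subtype.val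
    (M.e.injective (e.trans hM1.symm) : (⟨s, hs⟩ : Zz G a) = 1))
  let z : F → G := fun x => ((M.e.symm (x * c) : Zz G a) : G)
  let μ' : ∀ r : F, r ≠ 0 → Kk a t := fun r hr => M.μ.symm (Units.mk0 (r * r) (mul_ne_zero hr hr))
  let k : F → G := fun r => if hr : r = 0 then 1 else ((μ' r hr : Kk a t) : G)
  have hk : ∀ r (hr : r ≠ 0), k r = (μ' r hr : G) := fun r hr => dif_neg hr
  have hμ : ∀ r (hr : r ≠ 0), (M.μ (μ' r hr) : F) = r * r := fun r hr => by simp [μ']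
  have hkm : ∀ r, r ≠ 0 → k r ∈ Kk a t := fun r hr => by rw [hk r hr]; exact SetLike.coe_mem _
  have hkmul : ∀ r r', r ≠ 0 → r' ≠ 0 → k (r * r') = k r * k r' := fun r r' hr hr' => by
    rw [hk r hr, hk r' hr', hk _ (mul_ne_zero hr hr'), ← Subgroup.coe_mul]
    congr 1
    refine M.μ.injective (Units.ext ?_)
    rw [map_mul, Units.val_mul, hμ _ (mul_ne_zero hr hr'), hμ r hr, hμ r' hr']; ring
  have hk1 : k 1 = 1 := by
    have := hkmul 1 1 one_ne_zero one_ne_zero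
    rw [mul_one] at this
    exact left_eq_mul.1 this
  have hkinv : ∀ r, r ≠ 0 → k r⁻¹ = (k r)⁻¹ := fun r hr => by
    refine eq_inv_of_mul_eq_one_left ?_
    rw [← hkmul r⁻¹ r (inv_ne_zero hr) hr]
    simp only [inv_mul_cancel₀ hr]
    exact hk1
  have hconj : ∀ r x, r ≠ 0 → k r * z x * (k r)⁻¹ = z (r * r * x) := by
    intro r x hr
    have hm : k r * z x * (k r)⁻¹ ∈ Zz G a := h.Zz_conj (h.Kk_le (hkm r hr)).1 (SetLike.coe_mem _)
    have := M.conj_K (μ' r hr) (M.e.symm (x * c)) ⟨_, hm⟩ (by rw [← hk r hr])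
    rw [M.e.apply_symm_apply, hμ r hr] at this
    show _ = ((M.e.symm (r * r * x * c) : Zz G a) : G)
    rw [show r * r * x * c = M.e ⟨_, hm⟩ by rw [this]; ring, M.e.symm_apply_apply]
  have htk : ∀ r, r ≠ 0 → t * k r * t = k r⁻¹ := fun r hr => by
    rw [hkinv r hr, ← (h.mem_Kk.1 (hkm r hr)).2, t_inv h.setup]
  have hz1 : z 1 = s := by
    show ((M.e.symm (1 * c) : Zz G a) : G) = s
    rw [one_mul, M.e.symm_apply_apply]
  refine ⟨n, F, inferInstance, inferInstance, hn, hF, hchar, hcard, ⟨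
    { z := z
      k := k
      z_mem := fun x => SetLike.coe_mem _
      z_surj := fun g hg => ⟨M.e ⟨g, hg⟩ / c, by
        show ((M.e.symm (M.e ⟨g, hg⟩ / c * c) : Zz G a) : G) = g
        rw [div_mul_cancel₀ _ hc, M.e.symm_apply_apply]⟩
      z_add := fun x y => by
        show ((M.e.symm ((x + y) * c) : Zz G a) : G) = _
        rw [← Subgroup.coe_mul]
        congr 1
        refine M.e.injective ?_
        rw [M.map_mul]
        simp only [Equiv.apply_symm_apply, add_mul]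
      z_inj := fun x y e => mul_right_cancel₀ hc (M.e.symm.injective (Subtype.ext e))
      k_mem := hkm
      k_surj := fun g hg => by
        have hne : ((M.μ ⟨g, hg⟩ : Fˣ) : F) ≠ 0 := Units.ne_zero _
        have hr : sq (M.μ ⟨g, hg⟩ : F) ≠ 0 := fun e => hne (by rw [← hsq (M.μ ⟨g, hg⟩ : F), e, zero_mul])
        refine ⟨_, hr, ?_⟩
        rw [hk _ hr]
        exact congrArg Subtype.val (M.μ.injective (Units.ext ((hμ _ hr).trans (hsq _))) :
          μ' _ hr = ⟨g, hg⟩)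
      k_mul := hkmul
      conj := hconj
      tzt := fun x hx => ?_
      tk := htk
      semilinear := fun d hd => ?_ }⟩⟩
  · obtain ⟨y, hy⟩ : ∃ y, y = sq x := ⟨_, rfl⟩
    have hyy : y * y = x := hy ▸ hsq x
    have hy0 : y ≠ 0 := fun e => hx (by rw [← hyy, e, zero_mul])
    have hx' : z x = k y * s * (k y)⁻¹ := by rw [← hz1, hconj y 1 hy0, mul_one, hyy]
    have hxi : z x⁻¹ = k y⁻¹ * s * (k y⁻¹)⁻¹ := by
      rw [← hz1, hconj _ 1 (inv_ne_zero hy0), mul_one, ← hyy, mul_inv]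
    have hki : k x⁻¹ = k y⁻¹ * k y⁻¹ := by
      rw [← hkmul _ _ (inv_ne_zero hy0) (inv_ne_zero hy0), ← mul_inv, hyy]
    have e1 : t * k y * t = k y⁻¹ := htk y hy0
    have e2 : t * k y⁻¹ * t = k y := by rw [htk _ (inv_ne_zero hy0), inv_inv]
    have htt : t * t = 1 := h.setup.mul_self
    rw [hx', hxi, hki, hkinv y hy0] at *
    calc t * (k y * s * (k y)⁻¹) * t = (t * k y * t) * (t * s * t) * (t * (k y)⁻¹ * t) := by
          have htt' : ∀ g : G, t * (t * g) = g := fun g => by rw [← mul_assoc, htt, one_mul]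
          simp only [mul_assoc, htt']
      _ = (k y)⁻¹ * (s * t * s) * k y := by rw [e1, e2, hbr]
      _ = (k y)⁻¹ * s * ((k y)⁻¹)⁻¹ * ((k y)⁻¹ * (k y)⁻¹) * (k y * t * k y) *
            ((k y)⁻¹ * s * k y) := by group
      _ = _ := by
          rw [show k y * t * k y = t by
            calc k y * t * k y = k y * (t * k y * t) * t⁻¹ := by group
              _ = t := by rw [e1, mul_inv_cancel, one_mul, t_inv h.setup]]
          group
  · obtain ⟨u', hu'⟩ : ∃ u : Zz G a, (u : G) = d * M.s * d⁻¹ := ⟨⟨_, h.Zz_conj hd.1 M.s.2⟩, rfl⟩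
    have hu0 : M.e u' ≠ 0 := fun e => by
      have := M.e.injective (e.trans hM1.symm)
      rw [this] at hu'
      have hs' : (M.s : G) = 1 := conj_eq_one_iff.1 hu'.symm
      have := M.map_s
      rw [show M.s = 1 from Subtype.ext hs', hM1] at this
      exact zero_ne_one this
    have hw0 : M.e u' * M.σ ⟨d, hd⟩ c / c ≠ 0 := div_ne_zero (mul_ne_zero hu0 (by simpa using hc)) hc
    have hsq0 : sq (M.e u' * M.σ ⟨d, hd⟩ c / c) ≠ 0 := fun e => hw0 (by rw [← hsq (M.e u' * M.σ ⟨d, hd⟩ c / c), e, zero_mul])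
    refine ⟨_, M.σ ⟨d, hd⟩, hsq0, fun x => ?_, fun hσ => ?_⟩
    · have hm : d * z x * d⁻¹ ∈ Zz G a := h.Zz_conj hd.1 (SetLike.coe_mem _)
      have := M.conj_D ⟨d, hd⟩ (M.e.symm (x * c)) ⟨_, hm⟩ u' rfl hu'
      rw [M.e.apply_symm_apply, map_mul] at this
      show _ = ((M.e.symm (sq (M.e u' * M.σ ⟨d, hd⟩ c / c) * sq (M.e u' * M.σ ⟨d, hd⟩ c / c) *
        M.σ ⟨d, hd⟩ x * c) : Zz G a) : G)
      rw [hsq, show M.e u' * M.σ ⟨d, hd⟩ c / c * M.σ ⟨d, hd⟩ x * c = M.e ⟨_, hm⟩ by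
        rw [this]; field_simp, M.e.symm_apply_apply]
    · obtain ⟨v, hv, k', hk', e⟩ := h.exists_mul hd
      have hσv : M.σ ⟨v, hv.1⟩ = 1 := by
        have e' : (⟨d, hd⟩ : Dd a t) = ⟨v, hv.1⟩ * ⟨k', h.Kk_le hk'⟩ := Subtype.ext e
        rw [e', map_mul, M.σ_K ⟨k', h.Kk_le hk'⟩ hk', mul_one] at hσ
        exact hσ
      have hvW : v ∈ Ww a t := (M.σ_ker ⟨v, hv.1⟩ hv).1 hσv
      exact ⟨k', hk', v, hvW, by rw [e, h.Ww_comm hvW hk']⟩

end Cfsg.Lib.RankOneSuzuki
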