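import Cfsg.Agent.S1168

/-!
# Suzuki's rank-one theorem, `Ww ≠ ⊥`: normal form of an equivariant quadratic map

A quadratic map from the field of order `q²` to its subfield which is equivariant under a group of odd order
generating the field is `x ↦ Tr (c x σ(x))` after a field automorphism.
-/

set_option autoImplicit false
set_option linter.unusedSectionVars false

namespace Cfsg.Lib.RankOneSuzuki

variable {F L : Type} [Field F] [Field L]

/-- Two products of homomorphisms which agree have the same factors. -/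
theorem pair_unique (j : F →+* L) (a b c d : L ≃+* L)
    (h : ∀ x : F, a (j x) * b (j x) = c (j x) * d (j x)) :
    ((∀ x, a (j x) = c (j x)) ∧ ∀ x, b (j x) = d (j x)) ∨ ((∀ x, a (j x) = d (j x)) ∧ ∀ x, b (j x) = c (j x)) := by
  have hsum : ∀ x, a (j x) + b (j x) = c (j x) + d (j x) := by
    intro x
    have h1 := h (x + 1)
    simp only [map_add, map_one] at h1
    linear_combination h1 - h x
  have hor : ∀ x, a (j x) = c (j x) ∨ a (j x) = d (j x) := by
    intro x
    have e : (a (j x) - c (j x)) * (a (j x) - d (j x)) = 0 := by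
      linear_combination a (j x) * hsum x - h x
    rcases mul_eq_zero.1 e with e | e
    · exact .inl (sub_eq_zero.1 e)
    · exact .inr (sub_eq_zero.1 e)
  by_cases h1 : ∀ x, a (j x) = c (j x)
  · exact .inl ⟨h1, fun x => by linear_combination hsum x - h1 x⟩
  · push Not at h1
    obtain ⟨x₀, hx₀⟩ := h1
    have h2 : ∀ x, a (j x) = d (j x) := by
      intro x
      by_contra hne
      have hxc := (hor x).resolve_right hne
      have hx₀d := (hor x₀).resolve_left hx₀
      rcases hor (x + x₀) with e | e <;> simp only [map_add] at e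
      · exact hx₀ (by linear_combination e - hxc)
      · exact hne (by linear_combination e - hx₀d)
    exact .inr ⟨h2, fun x => by linear_combination hsum x - h2 x⟩

/-- Two automorphisms which agree on the subfield differ at most by the conjugation. -/
theorem eq_or_conj (j : F →+* L) (J : L ≃+* L) (hJJ : ∀ x, J (J x) = x)
    (hfix : ∀ x, J x = x → ∃ r, j r = x) (a c : L ≃+* L) (h : ∀ x, a (j x) = c (j x)) :
    (∀ x, a x = c x) ∨ ∀ x, a x = c (J x) := by
  obtain ⟨τ, hτ⟩ : ∃ τ : L ≃+* L, τ = a.trans c.symm := ⟨_, rfl⟩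
  have hτj : ∀ r, τ (j r) = j r := fun r => by rw [hτ, RingEquiv.trans_apply, h, RingEquiv.symm_apply_apply]
  have hor : ∀ x, τ x = x ∨ τ x = J x := by
    intro x
    obtain ⟨s, hs⟩ := hfix (x + J x) (by rw [map_add, hJJ, add_comm])
    obtain ⟨m, hm⟩ := hfix (x * J x) (by rw [map_mul, hJJ, mul_comm])
    have e : x * x - j s * x + j m = 0 := by rw [hs, hm]; ring
    have e1 := congrArg τ e
    simp only [map_add, map_sub, map_mul, hτj, map_zero] at e1
    have e2 : (τ x - x) * (τ x - J x) = 0 := by rw [hs, hm] at e1; linear_combination e1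
    rcases mul_eq_zero.1 e2 with e3 | e3
    · exact .inl (sub_eq_zero.1 e3)
    · exact .inr (sub_eq_zero.1 e3)
  have hback : ∀ x, a x = c (τ x) := fun x => by rw [hτ, RingEquiv.trans_apply, RingEquiv.apply_symm_apply]
  by_cases h1 : ∀ x, τ x = x
  · exact .inl fun x => by rw [hback, h1]
  · push Not at h1
    obtain ⟨x₀, hx₀⟩ := h1
    refine .inr fun x => ?_
    rw [hback]
    congr 1
    by_contra hne
    have hxx := (hor x).resolve_right hne
    have hx₀J := (hor x₀).resolve_left hx₀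
    rcases hor (x + x₀) with e | e <;> simp only [map_add] at e
    · exact hx₀ (by linear_combination e - hxx)
    · exact hne (by linear_combination e - hx₀J)

/-- The normal form. -/
theorem exists_normal_form [Fintype L] [CharP L 2] (j : F →+* L) (J : L ≃+* L) (hJJ : ∀ x, J (J x) = x)
    (hcomm : ∀ (σ : L ≃+* L) x, J (σ x) = σ (J x)) (hfix : ∀ x, J x = x → ∃ r, j r = x) (hJj : ∀ r, J (j r) = j r) (θc : L)
    (hθc : θc + J θc = 1) (f : L → L) (hreal : ∀ x, J (f x) = f x)
    (hq : ∀ x y z : L, f (x + y + z) + f (x + y) + f (x + z) + f (y + z) + f x + f y + f z = 0)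
    (hne : ∀ x, x ≠ 0 → f x ≠ 0) {θ m : L} {N : ℕ} (hN : Odd N) (hθN : θ ^ N = 1)
    (hf : ∀ x, f (θ * x) = m * f x) (hm : J m = m)
    (hgen : ∀ x, J x = x → x ≠ 0 → ∃ i : ℕ, x = θ ^ i)
    (hω : ∃ i : ℕ, m ^ i = 1 ∧ θ ^ i * J (θ ^ i) = 1 ∧ θ ^ i ≠ 1) :
    ∃ (p σ : L ≃+* L) (c : L), (∀ x, f x = c * p x * σ (p x) + J (c * p x * σ (p x))) ∧
      p θ * σ (p θ) = m := by
  classical
  obtain ⟨s, c, hc⟩ := Cfsg.Agent.S1168.result f hq
  have h1 : f 1 ≠ 0 := hne 1 one_ne_zero
  have hm0 : m ≠ 0 := by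
    intro e
    refine hne (θ * 1) ?_ (by rw [hf, e, zero_mul])
    rw [mul_one]
    intro e'
    rw [e', zero_pow (by rintro rfl; simp at hN)] at hθN
    exact zero_ne_one hθN
  have hfi : ∀ (i : ℕ) x, f (θ ^ i * x) = m ^ i * f x := by
    intro i
    induction i with
    | zero => simp
    | succ i ih => intro x; rw [pow_succ', mul_assoc, hf, ih, pow_succ', mul_assoc]
  have hmN : m ^ N = 1 := by
    have := hfi N 1
    rw [hθN, one_mul] at this
    exact mul_right_cancel₀ h1 (by rw [one_mul, ← this])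
  have hN1 : (N : L) = 1 := by
    obtain ⟨k, rfl⟩ := hN
    push_cast
    rw [show (2 : L) = 0 from CharTwo.two_eq_zero, zero_mul, zero_add]
  let s' := s.filter fun p => p.1 θ * p.2 θ = m
  have hf' : ∀ x, f x = ∑ p ∈ s', c p * (p.1 x * p.2 x) := by
    intro x
    have e : ∑ i ∈ Finset.range N, (m ^ i)⁻¹ * f (θ ^ i * x) = f x := by
      rw [Finset.sum_congr rfl (fun i _ => show (m ^ i)⁻¹ * f (θ ^ i * x) = f x by
        rw [hfi, ← mul_assoc, inv_mul_cancel₀ (pow_ne_zero _ hm0), one_mul]), Finset.sum_const,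
        Finset.card_range, nsmul_eq_mul, hN1, one_mul]
    rw [← e, Finset.sum_filter]
    simp only [hc, Finset.mul_sum]
    rw [Finset.sum_comm]
    refine Finset.sum_congr rfl fun p _ => ?_
    obtain ⟨u, hu⟩ : ∃ u, u = m⁻¹ * (p.1 θ * p.2 θ) := ⟨_, rfl⟩
    have e2 : ∀ i ∈ Finset.range N, (m ^ i)⁻¹ * (c p * (p.1 (θ ^ i * x) * p.2 (θ ^ i * x))) =
        u ^ i * (c p * (p.1 x * p.2 x)) := fun i _ => by
      rw [hu, map_mul, map_mul, map_pow, map_pow, mul_pow, mul_pow, inv_pow]; ring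
    rw [Finset.sum_congr rfl e2, ← Finset.sum_mul]
    by_cases hp : p.1 θ * p.2 θ = m
    · rw [if_pos hp, hu, hp, inv_mul_cancel₀ hm0]
      simp [hN1]
    · rw [if_neg hp]
      have hu1 : u ≠ 1 := fun e3 => hp (by rw [hu, inv_mul_eq_one₀ hm0] at e3; exact e3.symm)
      have huN : u ^ N = 1 := by
        rw [hu, mul_pow, inv_pow, hmN, mul_pow, ← map_pow, ← map_pow, hθN, map_one, map_one, inv_one,
          one_mul, one_mul]
      rw [geom_sum_eq hu1, huN, sub_self, zero_div, zero_mul]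
  obtain ⟨p₀, hp₀⟩ : ∃ p₀, p₀ ∈ s' := by
    by_contra hall
    push Not at hall
    exact h1 (by rw [hf', Finset.eq_empty_of_forall_notMem hall, Finset.sum_empty])
  have hm₀ : p₀.1 θ * p₀.2 θ = m := (Finset.mem_filter.1 hp₀).2
  obtain ⟨g, hg⟩ : ∃ g : L → L, g = fun x => p₀.1 x * p₀.2 x := ⟨_, rfl⟩
  -- every monomial is `g` or its conjugate
  have hclass : ∀ p ∈ s', (∀ x, p.1 x * p.2 x = g x) ∨ ∀ x, p.1 x * p.2 x = J (g x) := by
    intro p hp
    have hpm : p.1 θ * p.2 θ = m := (Finset.mem_filter.1 hp).2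
    have hagree : ∀ r : F, p.1 (j r) * p.2 (j r) = p₀.1 (j r) * p₀.2 (j r) := by
      intro r
      by_cases hr : j r = 0
      · simp [hr]
      obtain ⟨i, hi⟩ := hgen (j r) (hJj r) hr
      rw [hi, map_pow, map_pow, ← mul_pow, hpm, map_pow, map_pow, ← mul_pow, hm₀]
    obtain ⟨i₀, hmi, hωJ, hω1⟩ := hω
    obtain ⟨ω, hωdef⟩ : ∃ ω, ω = θ ^ i₀ := ⟨_, rfl⟩
    rw [← hωdef] at hωJ hω1
    have hprod : ∀ q : (L ≃+* L) × (L ≃+* L), q.1 θ * q.2 θ = m → q.1 ω * q.2 ω = 1 := fun q hq => by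
      rw [hωdef, map_pow, map_pow, ← mul_pow, hq, hmi]
    have hmix : ∀ a b : L ≃+* L, a ω * b ω = 1 → a ω * b (J ω) = 1 → False := by
      intro a b e1 e2
      have e3 : b ω = b (J ω) := mul_left_cancel₀ (left_ne_zero_of_mul_eq_one e1) (e1.trans e2.symm)
      have e4 := b.injective e3
      rw [← e4] at hωJ
      have : (ω - 1) * (ω - 1) = 0 := by
        linear_combination hωJ - (ω - 1) * (CharTwo.two_eq_zero : (2 : L) = 0)
      exact hω1 (sub_eq_zero.1 (mul_self_eq_zero.1 this))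
    have key : ∀ a b : L ≃+* L, a θ * b θ = m → (∀ r, a (j r) = p₀.1 (j r)) →
        (∀ r, b (j r) = p₀.2 (j r)) → (∀ x, a x * b x = g x) ∨ ∀ x, a x * b x = J (g x) := by
      intro a b hab ha hb
      have e1 := hprod p₀ hm₀
      have e2 := hprod (a, b) hab
      rcases eq_or_conj j J hJJ hfix a p₀.1 ha with ha' | ha' <;>
        rcases eq_or_conj j J hJJ hfix b p₀.2 hb with hb' | hb'
      · exact .inl fun x => by rw [hg, ha', hb']
      · exact absurd (by simpa [ha', hb'] using e2) (fun e => hmix _ _ e1 e)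
      · exact absurd (by rw [mul_comm]; simpa [ha', hb'] using e2)
          (fun e => hmix p₀.2 p₀.1 (by rw [mul_comm]; exact e1) e)
      · exact .inr fun x => by rw [hg, ha', hb', map_mul, hcomm, hcomm]
    rcases pair_unique j p.1 p.2 p₀.1 p₀.2 hagree with ⟨ha, hb⟩ | ⟨ha, hb⟩
    · exact key p.1 p.2 hpm ha hb
    · have := key p.2 p.1 (by rw [mul_comm]; exact hpm) hb ha
      simpa only [mul_comm] using this
  obtain ⟨c₁, c₂, hsum⟩ : ∃ c₁ c₂, ∀ x, f x = c₁ * g x + c₂ * J (g x) := by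
    let t₁ := s'.filter fun p => ∀ x, p.1 x * p.2 x = g x
    let t₂ := s'.filter fun p => ¬ ∀ x, p.1 x * p.2 x = g x
    refine ⟨∑ p ∈ t₁, c p, ∑ p ∈ t₂, c p, fun x => ?_⟩
    rw [hf', Finset.sum_mul, Finset.sum_mul,
      ← Finset.sum_filter_add_sum_filter_not s' (fun p => ∀ x, p.1 x * p.2 x = g x)]
    congr 1
    · exact Finset.sum_congr rfl fun p hp => by rw [(Finset.mem_filter.1 hp).2 x]
    · refine Finset.sum_congr rfl fun p hp => ?_
      rw [((hclass p (Finset.mem_filter.1 hp).1).resolve_left (Finset.mem_filter.1 hp).2) x]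
  refine ⟨p₀.1, p₀.1.symm.trans p₀.2, θc * c₁ + J θc * J c₂, fun x => ?_, ?_⟩
  · rw [RingEquiv.trans_apply, RingEquiv.symm_apply_apply]
    have e1 : f x = θc * f x + J θc * J (f x) := by rw [hreal, ← add_mul, hθc, one_mul]
    rw [e1, hsum x, hg]
    simp only [map_add, map_mul, hJJ]
    ring
  · rw [RingEquiv.trans_apply, RingEquiv.symm_apply_apply]; exact hm₀

end Cfsg.Lib.RankOneSuzuki
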