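import Cfsg.Agent.Lib.Linear.HermStandard

/-!
# Suzuki's rank-one theorem: identification of the unital from the line property

`P` gives the class of a point with respect to the three-transitive subgroup, `E` its remaining coordinate;
the only geometric input is that a translate of a line is a line.
-/

set_option autoImplicit false
set_option linter.style.haveILetI false
set_option linter.unusedSectionVars false

namespace Cfsg.Lib.RankOneSuzuki

variable {L : Type} [Field L]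

/-- The Hermitian trace of `x`. -/
def trJ (J : L ≃+* L) (x : L) : L := x + J x

/-- The quadratic map. -/
def quadF (J σ : L ≃+* L) (c a : L) : L := trJ J (c * a * σ a)

/-- The cocycle. -/
def coc (J σ : L ≃+* L) (c a b : L) : L := trJ J (c * a * σ b)

/-- The second class of a translated point. -/
def upper (J σ : L ≃+* L) (c : L) (P E : L → L) (a z a' z' : L) : L :=
  (z + quadF J σ c a + z' + coc J σ c a a' + E (a + a')) * P (a + a')

/-- The facts used for the identification. -/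
structure IdHyp (J σ : L ≃+* L) (c ω χ : L) (ℓ : ℕ) (P E : L → L) : Prop where
  two : (2 : L) = 0
  JJ : ∀ x, J (J x) = x
  Jσ : ∀ x, J (σ x) = σ (J x)
  prime : ℓ.Prime
  odd : Odd ℓ
  ω_pow : ω ^ ℓ = 1
  ω_ne : ω ≠ 1
  χ_pow : χ ^ ℓ = 1
  χ_ne : χ ≠ 1
  ω_J : ω * J ω = 1
  χ_J : χ * J χ = 1
  ω_σ : ω * σ ω = 1
  f_ne : ∀ a, a ≠ 0 → quadF J σ c a ≠ 0
  P_ne : ∀ a, a ≠ 0 → P a ≠ 0
  P_surj : ∀ y, y ≠ 0 → ∃ a, a ≠ 0 ∧ P a = y
  P_inj : ∀ a b, a ≠ 0 → b ≠ 0 → P a = P b → a = b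
  tr : ∀ a, a ≠ 0 → trJ J (E a) * (P a * J (P a)) = 1
  P_smul : ∀ r a, J r = r → r ≠ 0 → a ≠ 0 → P (r * a) ^ 2 * (r * σ r) = P a ^ 2
  E_smul : ∀ r a, J r = r → a ≠ 0 → E (r * a) = r * σ r * E a
  P_ω : ∀ a, a ≠ 0 → P (ω * a) = χ * P a
  E_ω : ∀ a, a ≠ 0 → E (ω * a) = E a
  line : ∀ a z a' z' a'' z'' ε ε', a ≠ 0 → a' ≠ 0 → a'' ≠ 0 → J z = z → J z' = z' → J z'' = z'' →
    ε * J ε = 1 → ε' * J ε' = 1 → ε ≠ 1 → ε' ≠ 1 → P a' = ε * P a → P a'' = ε' * P a →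
    z' + E a' = z + E a → z'' + E a'' = z + E a →
    upper J σ c P E a z a' z' = upper J σ c P E a z a'' z''

variable {J σ : L ≃+* L} {c ω χ : L} {ℓ : ℕ} {P E : L → L} (h : IdHyp J σ c ω χ ℓ P E)
include h

theorem IdHyp.add_self (x : L) : x + x = 0 := by linear_combination x * h.two

theorem IdHyp.neg_eq (x : L) : -x = x := neg_eq_of_add_eq_zero_left (h.add_self x)

theorem IdHyp.eq_of_sq {x y : L} (e : x ^ 2 = y ^ 2) : x = y := by
  have e1 : (x - y) ^ 2 = 0 := by linear_combination e + (y ^ 2 - x * y) * h.two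
  exact sub_eq_zero.1 (eq_zero_of_pow_eq_zero e1)

theorem IdHyp.P_smul' {r a : L} (hr : J r = r) (hr' : σ r = r) (hr0 : r ≠ 0) (ha : a ≠ 0) :
    P (r * a) * r = P a :=
  h.eq_of_sq (by rw [← h.P_smul r a hr hr0 ha, hr']; ring)

theorem IdHyp.ω_ne_zero : ω ≠ 0 := left_ne_zero_of_mul_eq_one h.ω_J

theorem IdHyp.pow_ne_one {x : L} (hx : x ^ ℓ = 1) (hx1 : x ≠ 1) {j : ℕ} (hj : ¬ ℓ ∣ j) : x ^ j ≠ 1 := by
  intro e
  refine hx1 ?_
  have hc : Nat.Coprime ℓ j := (h.prime.coprime_iff_not_dvd).2 hj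
  have h1 := Nat.dvd_gcd (orderOf_dvd_of_pow_eq_one hx) (orderOf_dvd_of_pow_eq_one e)
  rw [hc.gcd_eq_one, Nat.dvd_one, orderOf_eq_one_iff] at h1
  exact h1

theorem IdHyp.P_ω_pow (j : ℕ) {a : L} (ha : a ≠ 0) : P (ω ^ j * a) = χ ^ j * P a ∧ E (ω ^ j * a) = E a := by
  induction j with
  | zero => simp
  | succ j ih =>
    have hne : ω ^ j * a ≠ 0 := mul_ne_zero (pow_ne_zero _ h.ω_ne_zero) ha
    rw [pow_succ', mul_assoc, h.P_ω _ hne, h.E_ω _ hne, ih.1, ih.2, pow_succ', mul_assoc]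
    exact ⟨rfl, rfl⟩

/-- The class of the translate of a point by a power of `ω`. -/
theorem IdHyp.upper_ω {a : L} (ha : a ≠ 0) {j : ℕ} (hj : ¬ ℓ ∣ j) :
    upper J σ c P E a 0 (ω ^ (2 * j) * a) 0 =
      P a * χ ^ j * ((c * a * σ a + E a) * J (ω ^ j) + (J (c * a * σ a) + E a) * ω ^ j) := by
  obtain ⟨ρ, hρ⟩ : ∃ ρ, ρ = ω ^ j := ⟨_, rfl⟩
  have hρJ : ρ * J ρ = 1 := by rw [hρ, map_pow, ← mul_pow, h.ω_J, one_pow]
  have hρσ : ρ * σ ρ = 1 := by rw [hρ, map_pow, ← mul_pow, h.ω_σ, one_pow]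
  have hρ0 : ρ ≠ 0 := left_ne_zero_of_mul_eq_one hρJ
  have hσρ : σ ρ = J ρ := mul_left_cancel₀ hρ0 (hρσ.trans hρJ.symm)
  have hσJρ : σ (J ρ) = ρ := by rw [← h.Jσ, hσρ, h.JJ]
  obtain ⟨r, hr⟩ : ∃ r, r = ρ + J ρ := ⟨_, rfl⟩
  have hrJ : J r = r := by rw [hr, map_add, h.JJ, add_comm]
  have hrσ : σ r = r := by rw [hr, map_add, hσρ, hσJρ, add_comm]
  have hr0 : r ≠ 0 := by
    intro e
    refine h.pow_ne_one h.ω_pow h.ω_ne (j := 2 * j) ?_ ?_
    · intro hd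
      exact hj ((Nat.Coprime.dvd_mul_left (Nat.coprime_two_right.2 h.odd)).1 hd)
    · rw [mul_comm, pow_mul, ← hρ]
      linear_combination ρ * e + (-ρ) * hr - hρJ - h.two
  obtain ⟨C, hC⟩ : ∃ C, C = c * a * σ a := ⟨_, rfl⟩
  have hsum : a + ω ^ (2 * j) * a = r * (ρ * a) := by
    rw [hr, mul_comm 2 j, pow_mul, ← hρ]; linear_combination -a * hρJ
  have hP : P (r * (ρ * a)) * r = χ ^ j * P a := by
    rw [h.P_smul' hrJ hrσ hr0 (mul_ne_zero hρ0 ha), hρ]; exact (h.P_ω_pow j ha).1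
  have hE : E (r * (ρ * a)) = r * r * E a := by
    rw [h.E_smul r _ hrJ (mul_ne_zero hρ0 ha), hrσ, hρ, (h.P_ω_pow j ha).2]
  have hb : coc J σ c a (ω ^ (2 * j) * a) = C * (J ρ * J ρ) + J C * (ρ * ρ) := by
    rw [coc, trJ, hC, mul_comm 2 j, pow_mul, ← hρ, map_mul σ, map_pow, hσρ,
      show c * a * (J ρ ^ 2 * σ a) = (c * a * σ a) * (J ρ * J ρ) by ring, map_mul J (c * a * σ a),
      map_mul J (J ρ), h.JJ]
  rw [upper, hsum, hE, hb, quadF, trJ, ← hC, ← hρ]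
  have key : 0 + (C + J C) + 0 + (C * (J ρ * J ρ) + J C * (ρ * ρ)) + r * r * E a =
      r * ((C + E a) * J ρ + (J C + E a) * ρ) := by
    rw [hr]
    linear_combination -C * hρJ - J C * hρJ
  rw [key]
  linear_combination ((C + E a) * J ρ + (J C + E a) * ρ) * hP

theorem IdHyp.upper_ω_const {a : L} (ha : a ≠ 0) {j k : ℕ} (hj : ¬ ℓ ∣ j) (hk : ¬ ℓ ∣ k) :
    upper J σ c P E a 0 (ω ^ (2 * j) * a) 0 = upper J σ c P E a 0 (ω ^ (2 * k) * a) 0 := by
  have h2 : ∀ i, ¬ ℓ ∣ i → ¬ ℓ ∣ 2 * i := fun i hi hd =>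
    hi ((Nat.Coprime.dvd_mul_left (Nat.coprime_two_right.2 h.odd)).1 hd)
  have hw : ∀ i, ω ^ i * a ≠ 0 := fun i => mul_ne_zero (pow_ne_zero _ h.ω_ne_zero) ha
  have hN : ∀ i, χ ^ i * J (χ ^ i) = 1 := fun i => by rw [map_pow, ← mul_pow, h.χ_J, one_pow]
  exact h.line a 0 _ 0 _ 0 _ _ ha (hw _) (hw _) (map_zero J) (map_zero J) (map_zero J) (hN _) (hN _)
    (h.pow_ne_one h.χ_pow h.χ_ne (h2 j hj)) (h.pow_ne_one h.χ_pow h.χ_ne (h2 k hk))
    (h.P_ω_pow _ ha).1 (h.P_ω_pow _ ha).1 (by rw [(h.P_ω_pow _ ha).2]) (by rw [(h.P_ω_pow _ ha).2])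

/-- `χ` is `ω` or its conjugate. -/
theorem IdHyp.χ_eq : χ = ω ∨ χ = J ω := by
  have hJω : J ω = ω⁻¹ := eq_inv_of_mul_eq_one_right h.ω_J
  by_cases h3 : ℓ = 3
  · have hp : IsPrimitiveRoot ω ℓ := by
      have ho : orderOf ω = ℓ := ((Nat.dvd_prime h.prime).1 (orderOf_dvd_of_pow_eq_one h.ω_pow)).resolve_left
        (fun e => h.ω_ne (orderOf_eq_one_iff.1 e))
      exact ho ▸ IsPrimitiveRoot.orderOf ω
    haveI : NeZero ℓ := ⟨h.prime.ne_zero⟩
    obtain ⟨i, hi, rfl⟩ := hp.eq_pow_of_pow_eq_one h.χ_pow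
    rw [h3] at hi
    interval_cases i
    · exact absurd (pow_zero ω) h.χ_ne
    · exact .inl (pow_one ω)
    · refine .inr ?_
      rw [hJω]
      refine eq_inv_of_mul_eq_one_right ?_
      rw [← pow_succ', ← h.ω_pow, h3]
  by_contra hne
  push Not at hne
  obtain ⟨hne1, hne2⟩ := hne
  obtain ⟨a, ha, -⟩ := h.P_surj 1 one_ne_zero
  have h5 : 5 ≤ ℓ := by
    rcases h.prime.eq_two_or_odd with e | e
    · exact absurd h.odd (e ▸ by decide)
    · have := h.prime.two_le; omega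
  have hnd : ∀ i, 0 < i → i < 5 → ¬ ℓ ∣ i := fun i h0 h5' hd => by
    have := Nat.le_of_dvd h0 hd; omega
  obtain ⟨A, hA⟩ : ∃ A, A = c * a * σ a + E a := ⟨_, rfl⟩
  obtain ⟨B, hB⟩ : ∃ B, B = J (c * a * σ a) + E a := ⟨_, rfl⟩
  obtain ⟨u, hu⟩ : ∃ u, u = χ * J ω := ⟨_, rfl⟩
  obtain ⟨v, hv⟩ : ∃ v, v = χ * ω := ⟨_, rfl⟩
  have hval : ∀ j, 0 < j → j < 5 → upper J σ c P E a 0 (ω ^ (2 * j) * a) 0 = P a * (A * u ^ j + B * v ^ j) := by
    intro j h0 h5'
    rw [h.upper_ω ha (hnd j h0 h5'), ← hA, ← hB, map_pow, hu, hv, mul_pow, mul_pow]; ring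
  have e12 : A * u ^ 1 + B * v ^ 1 = A * u ^ 2 + B * v ^ 2 := mul_left_cancel₀ (h.P_ne a ha) (by
    rw [← hval 1 (by omega) (by omega), ← hval 2 (by omega) (by omega)]
    exact h.upper_ω_const ha (hnd 1 (by omega) (by omega)) (hnd 2 (by omega) (by omega)))
  have e23 : A * u ^ 2 + B * v ^ 2 = A * u ^ 3 + B * v ^ 3 := mul_left_cancel₀ (h.P_ne a ha) (by
    rw [← hval 2 (by omega) (by omega), ← hval 3 (by omega) (by omega)]
    exact h.upper_ω_const ha (hnd 2 (by omega) (by omega)) (hnd 3 (by omega) (by omega)))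
  have hu0 : u ≠ 0 := hu ▸ mul_ne_zero (left_ne_zero_of_mul_eq_one h.χ_J) (right_ne_zero_of_mul_eq_one h.ω_J)
  have hv0 : v ≠ 0 := hv ▸ mul_ne_zero (left_ne_zero_of_mul_eq_one h.χ_J) h.ω_ne_zero
  have hu1 : u - 1 ≠ 0 := sub_ne_zero.2 fun e => hne1 (by
    rw [hu] at e; linear_combination ω * e - χ * h.ω_J)
  have hv1 : v - 1 ≠ 0 := sub_ne_zero.2 fun e => hne2 (by
    rw [hv] at e; linear_combination J ω * e - χ * h.ω_J)
  have huv : v - u ≠ 0 := sub_ne_zero.2 fun e => by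
    refine h.ω_ne (h.eq_of_sq ?_)
    rw [hu, hv] at e
    have e' : ω = J ω := mul_left_cancel₀ (left_ne_zero_of_mul_eq_one h.χ_J) e
    linear_combination ω * e' + h.ω_J
  have hB0 : B = 0 := by
    have : B * (v * ((v - 1) * (v - u))) = 0 := by linear_combination u * e12 - e23
    simpa [hv0, hv1, huv] using this
  have hA0 : A = 0 := by
    rw [hB0] at e12
    have : A * (u * (u - 1)) = 0 := by linear_combination -e12
    simpa [hu0, hu1] using this
  refine h.f_ne a ha ?_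
  rw [hA] at hA0; rw [hB] at hB0
  rw [quadF, trJ]
  linear_combination hA0 + hB0 - h.add_self (E a)

section Main

variable (hχ : χ = ω)
include hχ

/-- The remaining coordinate and the class of a translated point. -/
theorem IdHyp.E_eq {a : L} (ha : a ≠ 0) :
    E a = J (c * a * σ a) ∧ upper J σ c P E a 0 (ω ^ 2 * a) 0 = quadF J σ c a * P a := by
  have hnd : ∀ i, 0 < i → i < 3 → ¬ ℓ ∣ i := fun i h0 h3 hd => by
    have h1 := Nat.le_of_dvd h0 hd
    have h2 := h.prime.two_le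
    obtain ⟨m, hm⟩ := h.odd
    omega
  have hu := fun j (hj : ¬ ℓ ∣ j) => h.upper_ω ha hj
  have e := h.upper_ω_const ha (hnd 1 (by omega) (by omega)) (hnd 2 (by omega) (by omega))
  have h1 := hu 1 (hnd 1 (by omega) (by omega))
  rw [h1, hu 2 (hnd 2 (by omega) (by omega)), hχ, map_pow, map_pow, pow_one, pow_one] at e
  have e' : ω * ((c * a * σ a + E a) * J ω + (J (c * a * σ a) + E a) * ω) =
      ω ^ 2 * ((c * a * σ a + E a) * J ω ^ 2 + (J (c * a * σ a) + E a) * ω ^ 2) :=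
    mul_left_cancel₀ (h.P_ne a ha) (by linear_combination e)
  have hw2 : ω ^ 2 - ω ^ 4 ≠ 0 := fun e0 => by
    refine h.pow_ne_one h.ω_pow h.ω_ne (j := 2) (hnd 2 (by omega) (by omega)) ?_
    have : ω ^ 2 * (1 - ω ^ 2) = 0 := by linear_combination e0
    exact (sub_eq_zero.1 ((mul_eq_zero.1 this).resolve_left (pow_ne_zero _ h.ω_ne_zero))).symm
  have hB : J (c * a * σ a) + E a = 0 := by
    refine (mul_eq_zero.1 ?_).resolve_right hw2
    linear_combination e' + (c * a * σ a + E a) * ω * J ω * h.ω_J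
  have hE : E a = J (c * a * σ a) := by linear_combination hB - h.add_self (J (c * a * σ a))
  refine ⟨hE, ?_⟩
  rw [show (2 : ℕ) = 2 * 1 from rfl, h1, hχ, pow_one, hB, hE, quadF, trJ]
  linear_combination (P a * (c * a * σ a + J (c * a * σ a))) * h.ω_J

theorem IdHyp.f_mul_norm {a : L} (ha : a ≠ 0) : quadF J σ c a * (P a * J (P a)) = 1 := by
  have := h.tr a ha
  rwa [(h.E_eq hχ ha).1, trJ, h.JJ, add_comm, ← trJ, ← quadF] at this

/-- The class of every translated point of the line. -/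
theorem IdHyp.upper_eq {a a' z' ε : L} (ha : a ≠ 0) (ha' : a' ≠ 0) (hz : J z' = z') (hε : ε * J ε = 1)
    (hε1 : ε ≠ 1) (hP : P a' = ε * P a) (hE : z' + E a' = E a) :
    upper J σ c P E a 0 a' z' = quadF J σ c a * P a := by
  rw [← (h.E_eq hχ ha).2]
  refine h.line a 0 a' z' _ 0 ε (χ ^ 2) ha ha' (mul_ne_zero (pow_ne_zero _ h.ω_ne_zero) ha) (map_zero J)
    hz (map_zero J) hε (by rw [map_pow, ← mul_pow, h.χ_J, one_pow]) hε1 ?_ hP (h.P_ω_pow 2 ha).1
    (by rw [zero_add, hE]) (by rw [(h.P_ω_pow 2 ha).2])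
  exact h.pow_ne_one h.χ_pow h.χ_ne (fun hd => by
    have := Nat.le_of_dvd two_pos hd
    have := h.prime.two_le
    obtain ⟨m, hm⟩ := h.odd
    omega)

/-- The twist is the conjugation. -/
theorem IdHyp.σ_eq [Fintype L] {q : ℕ} (hq : Fintype.card L = q ^ 2)
    (hJ : ∀ x, J x = x ^ q) : ∀ x, σ x = J x := by
  classical
  obtain ⟨a₀, ha₀, hP₀⟩ := h.P_surj 1 one_ne_zero
  have hf₀ : quadF J σ c a₀ = 1 := by have := h.f_mul_norm hχ ha₀; simpa [hP₀] using this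
  obtain ⟨C₀, hC₀⟩ : ∃ C₀, C₀ = c * a₀ * σ a₀ := ⟨_, rfl⟩
  have hC₀' : C₀ + J C₀ = 1 := by rw [hC₀]; exact hf₀
  have key : ∀ ε, ε * J ε = 1 → ε ≠ 1 → ∀ a, a ≠ 0 → P a = ε → σ (a / a₀) = J (a / a₀) := by
    intro ε hε hε1 a ha hPa
    have hf : quadF J σ c a = 1 := by
      have := h.f_mul_norm hχ ha; rwa [hPa, hε, mul_one] at this
    obtain ⟨z, hz⟩ : ∃ z, z = a / a₀ := ⟨_, rfl⟩
    have haz : a = z * a₀ := by rw [hz, div_mul_cancel₀ a ha₀]
    rw [← hz]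
    have hE := (h.E_eq hχ ha).1
    have hE₀ := (h.E_eq hχ ha₀).1
    have hne : a₀ + a ≠ 0 := fun e => hε1 (by
      rw [← hPa, ← hP₀]; congr 1; linear_combination e - h.add_self a₀)
    have hsum := (h.E_eq hχ hne).1
    obtain ⟨X, hX⟩ : ∃ X, X = C₀ * (z * σ z) := ⟨_, rfl⟩
    have hXa : c * a * σ a = X := by rw [hX, hC₀, haz, map_mul]; ring
    have hX1 : X + J X = 1 := by rw [← hXa]; exact hf
    have hU := h.upper_eq hχ ha₀ ha (z' := E a + E a₀) (ε := ε) (by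
      rw [hE, hE₀, hXa, ← hC₀, map_add, h.JJ, h.JJ]; linear_combination hX1 - hC₀' + (C₀ - J X) * h.two) hε hε1
      (by rw [hPa, hP₀, mul_one]) (by linear_combination h.add_self (E a))
    obtain ⟨Z, hZ⟩ : ∃ Z, Z = 0 + quadF J σ c a₀ + (E a + E a₀) + coc J σ c a₀ a + E (a₀ + a) := ⟨_, rfl⟩
    rw [upper, ← hZ, hf₀, hP₀, one_mul] at hU
    have hN : Z * J Z = quadF J σ c (a₀ + a) := by
      have h1 := congrArg (fun x => x * J x) hU
      simp only [map_mul, map_one, mul_one] at h1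
      have h2 := h.f_mul_norm hχ hne
      calc Z * J Z = Z * J Z * (quadF J σ c (a₀ + a) * (P (a₀ + a) * J (P (a₀ + a)))) := by rw [h2, mul_one]
        _ = quadF J σ c (a₀ + a) * (Z * P (a₀ + a) * (J Z * J (P (a₀ + a)))) := by ring
        _ = _ := by rw [h1, mul_one]
    obtain ⟨y, hy⟩ : ∃ y, y = C₀ * σ z + J C₀ * J z := ⟨_, rfl⟩
    have hcs : c * (a₀ + a) * σ (a₀ + a) = C₀ + C₀ * σ z + C₀ * z + X := by
      rw [hX, hC₀, haz, map_add, map_mul]; ring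
    have hZy : Z = 1 + y := by
      rw [hZ, hf₀, hE, hE₀, hsum, hcs, hXa, ← hC₀, hy, coc, trJ,
        show c * a₀ * σ a = C₀ * σ z by rw [hC₀, haz, map_mul]; ring]
      simp only [map_add, map_mul]
      linear_combination (J X + J C₀ + J C₀ * J (σ z)) * h.two
    have hfy : quadF J σ c (a₀ + a) = y + J y := by
      rw [quadF, trJ, hcs, hy]
      simp only [map_add, map_mul, h.JJ]
      linear_combination hC₀' + hX1 + h.two
    rw [hfy, hZy, map_add, map_one] at hN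
    have hyy : y * J y + 1 = 0 := by linear_combination hN
    rw [hy, map_add, map_mul, map_mul, h.JJ, h.JJ] at hyy
    rw [hX, map_mul, map_mul] at hX1
    have hprod : C₀ * J C₀ * ((z + J (σ z)) * (J z + σ z)) = 0 := by
      linear_combination hyy - (C₀ * (z * σ z) + J C₀ * (J z * J (σ z))) * hC₀' - hX1 +
        (C₀ * (z * σ z) * J C₀ + J C₀ * C₀ * (J z * J (σ z)) - 1) * h.two
    have hC0 : C₀ ≠ 0 := fun e => by rw [e, map_zero, add_zero] at hC₀'; exact zero_ne_one hC₀'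
    rcases mul_eq_zero.1 hprod with e | e
    · rcases mul_eq_zero.1 e with e | e
      · exact absurd e hC0
      · exact absurd (J.map_eq_zero_iff.1 e) hC0
    · rcases mul_eq_zero.1 e with e | e
      · have e' := congrArg J e
        rw [map_add, h.JJ, map_zero] at e'
        linear_combination e' - h.add_self (J z)
      · linear_combination e - h.add_self (J z)
  let S : Subfield L :=
    { carrier := {x | σ x = J x}
      mul_mem' := fun {x y} hx hy => by simp only [Set.mem_setOf_eq, map_mul] at *; rw [hx, hy]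
      one_mem' := by simp
      add_mem' := fun {x y} hx hy => by simp only [Set.mem_setOf_eq, map_add] at *; rw [hx, hy]
      zero_mem' := by simp
      neg_mem' := fun {x} hx => by simp only [Set.mem_setOf_eq, map_neg] at *; rw [hx]
      inv_mem' := fun x hx => by simp only [Set.mem_setOf_eq, map_inv₀] at *; rw [hx] }
  have hNJ : ∀ x : L, x ^ (q + 1) = 1 ↔ x * J x = 1 := fun x => by rw [hJ, pow_succ']
  have hmem : ∀ ε : {x : L // x ^ (q + 1) = 1}, ∃ a, a ≠ 0 ∧ P a = ε.1 ∧ a / a₀ ∈ S := by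
    intro ε
    by_cases hε1 : ε.1 = 1
    · exact ⟨a₀, ha₀, by rw [hP₀, hε1], by rw [div_self ha₀]; exact one_mem S⟩
    have hε := (hNJ _).1 ε.2
    obtain ⟨a, ha, hPa⟩ := h.P_surj ε.1 (left_ne_zero_of_mul_eq_one hε)
    exact ⟨a, ha, hPa, key ε.1 hε hε1 a ha hPa⟩
  choose g hg0 hgP hgS using hmem
  have hcard : q + 1 ≤ Nat.card S := by
    rw [← Cfsg.Lib.Linear.Herm.card_norm_eq hq one_ne_zero (one_pow q)]
    refine Nat.card_le_card_of_injective (fun ε => (⟨g ε / a₀, hgS ε⟩ : S)) fun ε ε' e => ?_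
    have e' : g ε / a₀ = g ε' / a₀ := congrArg Subtype.val e
    rw [div_left_inj' ha₀] at e'
    exact Subtype.ext (by rw [← hgP ε, ← hgP ε', e'])
  haveI : Finite S := Subtype.finite
  have hdim := Module.natCard_eq_pow_finrank (K := S) (V := L)
  rw [Nat.card_eq_fintype_card, hq] at hdim
  have hm : Module.finrank S L = 1 := by
    have hpos : 0 < Module.finrank S L := Module.finrank_pos
    by_contra hne
    have : (q + 1) ^ 2 ≤ Nat.card S ^ Module.finrank S L :=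
      (Nat.pow_le_pow_left hcard 2).trans (Nat.pow_le_pow_right (by omega) (by omega))
    rw [← hdim] at this
    nlinarith
  intro x
  obtain ⟨s, hs⟩ := exists_smul_eq_of_finrank_eq_one hm (one_ne_zero : (1 : L) ≠ 0) x
  rw [← hs, Subfield.smul_def, smul_eq_mul, mul_one]
  exact s.2

/-- The unital in coordinates. -/
theorem IdHyp.coords (hσ : ∀ x, σ x = J x) (hsq : ∀ x : L, ∃ y, y ^ 2 = x) :
    ∃ κ : L, κ ≠ 0 ∧ ∀ a, a ≠ 0 → P a * J a = κ ∧ E a = J c * (a * J a) := by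
  obtain ⟨γ, hγ⟩ : ∃ γ, γ = c + J c := ⟨_, rfl⟩
  have hf : ∀ a, quadF J σ c a = γ * (a * J a) := fun a => by
    rw [quadF, trJ, hσ, hγ]; simp only [map_mul, h.JJ]; ring
  have hE : ∀ a, a ≠ 0 → E a = J c * (a * J a) := fun a ha => by
    rw [(h.E_eq hχ ha).1, hσ]; simp only [map_mul, h.JJ]; ring
  obtain ⟨p₀, hp₀⟩ : ∃ p, p = P 1 := ⟨_, rfl⟩
  have hP0 : p₀ ≠ 0 := hp₀ ▸ h.P_ne 1 one_ne_zero
  have hγ0 : γ ≠ 0 := fun e => h.f_ne 1 one_ne_zero (by rw [hf, e, zero_mul])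
  have hN : ∀ a, a ≠ 0 → γ * (a * J a) * (P a * J (P a)) = 1 := fun a ha => hf a ▸ h.f_mul_norm hχ ha
  -- the points of a line
  have hline : ∀ u, u * J u = 1 → u ≠ 1 → P (1 + u) * (1 + J u) = p₀ := by
    intro u hu hu1
    have hu0 : u ≠ 0 := left_ne_zero_of_mul_eq_one hu
    have e1 := hN u hu0
    have e2 := hN 1 one_ne_zero
    rw [hu, ← mul_assoc] at e1
    rw [map_one, mul_one, ← hp₀] at e2
    have hεε : P u / p₀ * J (P u / p₀) = 1 := by
      rw [map_div₀, div_mul_div_comm, div_eq_one_iff_eq (mul_ne_zero hP0 (by simpa using hP0))]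
      exact mul_left_cancel₀ hγ0 (by linear_combination e1 - e2)
    have hU := h.upper_eq hχ (a := 1) (a' := u) (z' := 0) one_ne_zero hu0 (map_zero J) hεε
      (fun e => hu1 (h.P_inj u 1 hu0 one_ne_zero (by
        rw [← hp₀]; exact (div_eq_one_iff_eq hP0).1 e)))
      (by rw [← hp₀, div_mul_cancel₀ _ hP0]) (by rw [zero_add, hE u hu0, hE 1 one_ne_zero, hu]; simp)
    have hne : (1 : L) + u ≠ 0 := fun e => hu1 (by linear_combination e - h.two)
    rw [upper, hE _ hne, hf, coc, trJ, hσ, ← hp₀] at hU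
    simp only [map_mul, map_add, map_one, mul_one, h.JJ] at hU
    refine mul_left_cancel₀ hγ0 ?_
    rw [hγ] at hU ⊢
    linear_combination hU + (-(J c * (1 + u * J u + u)) * P (1 + u) + J c * P (1 + u)) * h.two +
      J c * P (1 + u) * hu
  have hunit : ∀ ρ, ρ * J ρ = 1 → P ρ * J ρ = p₀ := by
    intro ρ hρ
    by_cases hρ1 : ρ = 1
    · rw [hρ1, map_one, mul_one, hp₀]
    have hρ0 : ρ ≠ 0 := left_ne_zero_of_mul_eq_one hρ
    obtain ⟨r, hr⟩ : ∃ r, r = ρ + J ρ := ⟨_, rfl⟩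
    have hrJ : J r = r := by rw [hr, map_add, h.JJ, add_comm]
    have hu1 : ρ * ρ ≠ 1 := fun e => hρ1 (h.eq_of_sq (by rw [one_pow, pow_two, e]))
    have hr0 : r ≠ 0 := fun e => hu1 (by
      linear_combination ρ * e - ρ * hr - hρ - h.two)
    have e := hline (ρ * ρ) (by rw [map_mul]; linear_combination (ρ * J ρ + 1) * hρ) hu1
    have hP := h.P_smul' hrJ (by rw [hσ, hrJ]) hr0 hρ0
    rw [show 1 + ρ * ρ = r * ρ by rw [hr]; linear_combination -hρ,
      show 1 + J (ρ * ρ) = r * J ρ by rw [hr, map_mul]; linear_combination -hρ] at e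
    rw [← e, ← hP]; ring
  refine ⟨p₀, hP0, fun a ha => ⟨?_, hE a ha⟩⟩
  obtain ⟨r, hr⟩ := hsq (a * J a)
  have hr0 : r ≠ 0 := fun e => by
    rw [e, zero_pow two_ne_zero, eq_comm, mul_eq_zero] at hr
    rcases hr with e | e
    · exact ha e
    · exact ha (J.map_eq_zero_iff.1 e)
  have hrJ : J r = r := h.eq_of_sq (by rw [← map_pow, hr, map_mul, h.JJ, mul_comm])
  have hρ : a / r * J (a / r) = 1 := by
    rw [map_div₀, hrJ, div_mul_div_comm, ← pow_two, ← hr, div_self (pow_ne_zero _ hr0)]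
  have hP := h.P_smul' hrJ (by rw [hσ, hrJ]) hr0 (left_ne_zero_of_mul_eq_one hρ)
  rw [mul_div_cancel₀ a hr0] at hP
  rw [← hunit _ hρ, ← hP, map_div₀, hrJ, mul_assoc, mul_div_cancel₀ _ hr0]

end Main

end Cfsg.Lib.RankOneSuzuki
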