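import Cfsg.Agent.Lib.RankOneSuzuki.UnitaryM0
import Cfsg.Agent.Lib.U3Even.Sylow

/-!
# Suzuki's rank-one theorem, `Ww ≠ ⊥`: the plane as the field of order `q²`

A torus element without a fixed point on the line turns the row space into the field `L` of order `q²`;
the alternating form becomes the Hermitian one.
-/

set_option autoImplicit false
set_option linter.unusedSectionVars false
set_option linter.style.haveILetI false

namespace Cfsg.Lib.RankOneSuzuki

open Matrix

variable {F : Type} [Field F] [Fintype F] [CharP F 2]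

/-- The row space as the quadratic extension. -/
structure Plane (τ : SL2 F) (L : Type) [Field L] [Fintype L] where
  /-- the subfield -/
  j : F →+* L
  /-- the conjugation -/
  J : L ≃+* L
  /-- the identification -/
  ι : (Fin 2 → F) → L
  /-- the scalar of `τ` -/
  ρ : L
  card : Fintype.card L = Fintype.card F ^ 2
  J_eq : ∀ x, J x = x ^ Fintype.card F
  fixed : ∀ x, J x = x → ∃ r, j r = x
  J_j : ∀ r, J (j r) = j r
  ι_add : ∀ r s, ι (r + s) = ι r + ι s
  ι_smul : ∀ (c : F) r, ι (c • r) = j c * ι r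
  ι_bij : Function.Bijective ι
  ι_τ : ∀ r, ι (r ᵥ* τ.1) = ρ * ι r
  form : ∀ r s : Fin 2 → F, j (r 0 * s 1 + r 1 * s 0) = ι r * J (ι s) + J (ι r) * ι s
  ρ_J : ρ * J ρ = 1
  ρ_ne : ρ ≠ 1

namespace Plane

variable {τ : SL2 F} {L : Type} [Field L] [Fintype L] (P : Plane τ L)
include P

theorem JJ (x : L) : P.J (P.J x) = x := by
  rw [P.J_eq, P.J_eq, ← pow_mul, ← pow_two, ← P.card, FiniteField.pow_card]

theorem two : (2 : L) = 0 := by
  have := congrArg P.j (CharTwo.two_eq_zero (R := F))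
  simpa [map_ofNat] using this

/-- The conjugate identification. -/
def flip : Plane τ L where
  j := P.j
  J := P.J
  ι r := P.J (P.ι r)
  ρ := P.J P.ρ
  card := P.card
  J_eq := P.J_eq
  fixed := P.fixed
  J_j := P.J_j
  ι_add r s := by rw [P.ι_add, map_add]
  ι_smul c r := by rw [P.ι_smul, map_mul, P.J_j]
  ι_bij := P.J.bijective.comp P.ι_bij
  ι_τ r := by rw [P.ι_τ, map_mul]
  form r s := by rw [P.JJ, P.JJ, P.form, add_comm]
  ρ_J := by rw [P.JJ, mul_comm, P.ρ_J]
  ρ_ne e := P.ρ_ne (by rw [← P.JJ P.ρ, e, map_one])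

/-- A unit is an element of the torus. -/
theorem exists_torus {ε : L} (hε : ε * P.J ε = 1) :
    ∃ M : SL2 F, M * τ = τ * M ∧ ∀ r, P.ι (r ᵥ* M.1) = ε * P.ι r := by
  obtain ⟨e0, he0⟩ := P.ι_bij.2 (ε * P.ι ![1, 0])
  obtain ⟨e1, he1⟩ := P.ι_bij.2 (ε * P.ι ![0, 1])
  have hlin : ∀ r : Fin 2 → F, P.ι (r ᵥ* !![e0 0, e0 1; e1 0, e1 1]) = ε * P.ι r := by
    intro r
    have e : r ᵥ* !![e0 0, e0 1; e1 0, e1 1] = r 0 • e0 + r 1 • e1 := by
      funext i; fin_cases i <;> simp [Matrix.vecMul, dotProduct, Fin.sum_univ_two]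
    have e' : r = r 0 • ![1, 0] + r 1 • ![0, 1] := by funext i; fin_cases i <;> simp
    rw [e, P.ι_add, P.ι_smul, P.ι_smul, he0, he1]
    conv_rhs => rw [e', P.ι_add, P.ι_smul, P.ι_smul]
    ring
  have hdet : (!![e0 0, e0 1; e1 0, e1 1] : Matrix (Fin 2) (Fin 2) F).det = 1 := by
    rw [Matrix.det_fin_two_of]
    refine P.j.injective ?_
    have h1 := P.form ![1, 0] ![0, 1]
    have h2 := P.form e0 e1
    rw [he0, he1] at h2
    simp at h1
    rw [map_one, show e0 0 * e1 1 - e0 1 * e1 0 = e0 0 * e1 1 + e0 1 * e1 0 by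
      linear_combination -add_self₂ (e0 1 * e1 0), h2, h1, map_mul, map_mul]
    linear_combination (P.ι ![1, 0] * P.J (P.ι ![0, 1]) + P.J (P.ι ![1, 0]) * P.ι ![0, 1]) * hε
  obtain ⟨M, hM⟩ : ∃ M : SL2 F, M.1 = !![e0 0, e0 1; e1 0, e1 1] := ⟨⟨_, hdet⟩, rfl⟩
  simp only [← hM] at hlin
  refine ⟨M, ?_, hlin⟩
  refine Subtype.ext (Matrix.ext_of_single_vecMul fun i => P.ι_bij.1 ?_)
  rw [SL2.val_mul, SL2.val_mul, ← Matrix.vecMul_vecMul, ← Matrix.vecMul_vecMul, P.ι_τ, hlin, hlin, P.ι_τ]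
  ring

end Plane

/-- A torus element of odd order dividing `q + 1` gives a plane. -/
theorem exists_plane {n : ℕ} (hn : 1 ≤ n) (hF : Fintype.card F = 2 ^ n) {τ : SL2 F} {ℓ : ℕ}
    (hτ : τ ≠ 1) (hpow : τ ^ ℓ = 1) (hodd : Odd ℓ) (hℓ : ℓ ∣ 2 ^ n + 1) :
    ∃ (L : Type) (_ : Field L) (_ : Fintype L), Nonempty (Plane τ L) := by
  classical
  obtain ⟨T, hT⟩ : ∃ T, T = τ.1 0 0 + τ.1 1 1 := ⟨_, rfl⟩
  have hd := SL2.det_eq τ
  -- no eigenvalue in `F`
  have hroot : ∀ r : F, r * r + T * r + 1 ≠ 0 := by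
    intro r hr
    obtain ⟨v, hv, hev⟩ : ∃ v : Fin 2 → F, v ≠ 0 ∧ τ.1 *ᵥ v = r • v := by
      by_cases h10 : τ.1 1 0 = 0
      · obtain ⟨h00, h11⟩ := SL2.diag_ne_zero τ h10
        have h1 : τ.1 0 0 * τ.1 1 1 = 1 := by rw [h11, mul_inv_cancel₀ h00]
        have e : (r - τ.1 0 0) * (r - τ.1 1 1) = 0 := by
          rw [hT] at hr
          linear_combination hr + h1 - add_self₂ (r * τ.1 0 0) - add_self₂ (r * τ.1 1 1)
        rcases mul_eq_zero.1 e with e | e
        · refine ⟨![1, 0], fun e' => one_ne_zero (congrFun e' 0), funext fun i => ?_⟩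
          fin_cases i <;> simp [Matrix.mulVec, dotProduct, Fin.sum_univ_two, h10, sub_eq_zero.1 e]
        · by_cases h01 : τ.1 0 1 = 0
          · refine ⟨![0, 1], fun e' => one_ne_zero (congrFun e' 1), funext fun i => ?_⟩
            fin_cases i <;> simp [Matrix.mulVec, dotProduct, Fin.sum_univ_two, h01, sub_eq_zero.1 e]
          · refine ⟨![τ.1 0 1, r + τ.1 0 0], fun e' => h01 (congrFun e' 0), funext fun i => ?_⟩
            fin_cases i <;> simp [Matrix.mulVec, dotProduct, Fin.sum_univ_two, h10]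
            · linear_combination τ.1 0 1 * add_self₂ (τ.1 0 0)
            · exact .inl (sub_eq_zero.1 e).symm
      · refine ⟨![r + τ.1 1 1, τ.1 1 0], fun e' => h10 (congrFun e' 1), funext fun i => ?_⟩
        rw [hT] at hr
        fin_cases i <;> simp [Matrix.mulVec, dotProduct, Fin.sum_univ_two]
        · linear_combination hd - hr + add_self₂ (τ.1 0 0 * r) + add_self₂ (τ.1 1 1 * r) - add_self₂ (r * τ.1 1 1) + add_self₂ (1 : F)
        · linear_combination add_self₂ (τ.1 1 0 * τ.1 1 1)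
    have hpowv : ∀ i : ℕ, (τ ^ i).1 *ᵥ v = r ^ i • v := by
      intro i
      induction i with
      | zero => simp
      | succ i ih =>
        rw [pow_succ, SL2.val_mul, ← Matrix.mulVec_mulVec, hev, Matrix.mulVec_smul, ih, smul_smul,
          pow_succ, mul_comm]
    have hrl : r ^ ℓ = 1 := by
      have h1 := hpowv ℓ
      rw [hpow, Matrix.SpecialLinearGroup.coe_one, Matrix.one_mulVec] at h1
      obtain ⟨i, hi⟩ : ∃ i, v i ≠ 0 := not_forall.1 fun e => hv (funext e)
      exact mul_right_cancel₀ hi (by rw [one_mul]; exact (congrFun h1 i).symm)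
    have hr0 : r ≠ 0 := fun e => by rw [e, zero_pow (by rintro rfl; simp at hodd)] at hrl; exact zero_ne_one hrl
    have hr1 : r = 1 := by
      have h1 := FiniteField.pow_card_sub_one_eq_one r hr0
      rw [hF] at h1
      have hg : Nat.gcd ℓ (2 ^ n - 1) = 1 := by
        have d1 : Nat.gcd ℓ (2 ^ n - 1) ∣ 2 := by
          have := Nat.dvd_sub ((Nat.gcd_dvd_left ℓ (2 ^ n - 1)).trans hℓ) (Nat.gcd_dvd_right ℓ (2 ^ n - 1))
          have h0 : 0 < 2 ^ n := by positivity
          rwa [show 2 ^ n + 1 - (2 ^ n - 1) = 2 by omega] at this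
        have d2 : Odd (Nat.gcd ℓ (2 ^ n - 1)) := Odd.of_dvd_nat hodd (Nat.gcd_dvd_left _ _)
        rcases (Nat.dvd_prime Nat.prime_two).1 d1 with e | e
        · exact e
        · rw [e] at d2; exact absurd d2 (by decide)
      have h2 := Nat.dvd_gcd (orderOf_dvd_of_pow_eq_one hrl) (orderOf_dvd_of_pow_eq_one h1)
      rw [hg, Nat.dvd_one] at h2
      exact orderOf_eq_one_iff.1 h2
    rw [hr1] at hr
    have hT0 : T = 0 := by linear_combination hr - add_self₂ (1 : F)
    refine hτ ?_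
    have h2 : τ ^ 2 = 1 := by
      have h00 : τ.1 0 0 = τ.1 1 1 := by rw [hT] at hT0; linear_combination hT0 - add_self₂ (τ.1 1 1)
      refine Subtype.ext ?_
      rw [pow_two, SL2.val_mul, Matrix.SpecialLinearGroup.coe_one]
      ext i j
      fin_cases i <;> fin_cases j <;> simp [Matrix.mul_apply, Fin.sum_univ_two, h00]
      · rw [h00] at hd; linear_combination hd
      · linear_combination add_self₂ (τ.1 1 1 * τ.1 0 1)
      · linear_combination add_self₂ (τ.1 1 0 * τ.1 1 1)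
      · rw [h00] at hd; linear_combination hd
    obtain ⟨m, hm⟩ := hodd
    rw [hm, pow_add, pow_mul, h2, one_pow, one_mul, pow_one] at hpow
    exact hpow
  have hT0 : T ≠ 0 := fun e => hroot 1 (by rw [e]; linear_combination add_self₂ (1 : F))
  have h10 : τ.1 1 0 ≠ 0 := fun e => by
    obtain ⟨h00, h11⟩ := SL2.diag_ne_zero τ e
    refine hroot (τ.1 0 0) ?_
    rw [hT, h11, add_mul, inv_mul_cancel₀ h00]
    linear_combination add_self₂ (τ.1 0 0 * τ.1 0 0) + add_self₂ (1 : F)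
  -- the extension
  obtain ⟨p, hp⟩ : ∃ p : Polynomial F, p = Polynomial.X ^ 2 + Polynomial.C T * Polynomial.X + 1 := ⟨_, rfl⟩
  have hpdeg : p.natDegree = 2 := by rw [hp]; compute_degree!
  have hirr : Irreducible p := by
    rw [Polynomial.irreducible_iff_roots_eq_zero_of_degree_le_three (by omega) (by omega)]
    refine Multiset.eq_zero_of_forall_notMem fun r hr => hroot r ?_
    have := (Polynomial.mem_roots'.1 hr).2
    simp [hp, Polynomial.IsRoot] at this
    linear_combination this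
  haveI : Fact (Irreducible p) := ⟨hirr⟩
  let L := AdjoinRoot p
  have hp0 : p ≠ 0 := hirr.ne_zero
  haveI : Module.Finite F L := (AdjoinRoot.powerBasis hp0).finite
  haveI : Finite L := Module.finite_of_finite F
  letI : Fintype L := Fintype.ofFinite L
  have hcard : Fintype.card L = Fintype.card F ^ 2 := by
    rw [Module.card_eq_pow_finrank (K := F) (V := L), (AdjoinRoot.powerBasis hp0).finrank,
      AdjoinRoot.powerBasis_dim, hpdeg]
  have hcard' : Fintype.card L = (2 ^ n) ^ 2 := by rw [hcard, hF]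
  obtain ⟨j, hj⟩ : ∃ j : F →+* L, j = AdjoinRoot.of p := ⟨_, rfl⟩
  obtain ⟨J, hJ⟩ : ∃ J : L ≃+* L, ∀ x, J x = x ^ Fintype.card F :=
    ⟨(FiniteField.frobeniusAlgEquivOfAlgebraic F L).toRingEquiv, fun _ => rfl⟩
  have hJj : ∀ r, J (j r) = j r := fun r => by rw [hJ, ← map_pow, FiniteField.pow_card]
  have hfix : ∀ x, J x = x → ∃ r, j r = x := by
    intro x hx
    have hker := (Cfsg.Lib.U3Even.tr_facts hn hcard').1
    let f : F → (Cfsg.Lib.U3Even.trMap hn hcard').ker := fun r =>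
      ⟨j r, (Cfsg.Lib.U3Even.mem_tr_ker hn hcard' _).2 (by rw [← hF, ← hJ, hJj])⟩
    have hinj : Function.Injective f := fun r s e => j.injective (congrArg Subtype.val e)
    have hb := hinj.bijective_of_nat_card_le (by rw [hker, Nat.card_eq_fintype_card, hF])
    obtain ⟨r, hr⟩ := hb.2 ⟨x, (Cfsg.Lib.U3Even.mem_tr_ker hn hcard' _).2 (by rw [← hF, ← hJ, hx])⟩
    exact ⟨r, congrArg Subtype.val hr⟩
  obtain ⟨ρ, hρ⟩ : ∃ ρ : L, ρ * ρ + j T * ρ + 1 = 0 := ⟨AdjoinRoot.root p, by
    have h := AdjoinRoot.eval₂_root p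
    have h' : Polynomial.eval₂ (AdjoinRoot.of p) (AdjoinRoot.root p)
        (Polynomial.X ^ 2 + Polynomial.C T * Polynomial.X + 1) = 0 := by
      rw [← Polynomial.eval₂_congr rfl rfl hp] at *; exact h
    simp [Polynomial.eval₂_add, Polynomial.eval₂_pow, Polynomial.eval₂_mul] at h'
    rw [hj]; linear_combination h'⟩
  have h2 : (2 : L) = 0 := by have := congrArg j (CharTwo.two_eq_zero (R := F)); simpa [map_ofNat] using this
  have hρF : ∀ r, j r ≠ ρ := fun r e => hroot r (j.injective (by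
    rw [map_add, map_add, map_mul, map_mul, e, map_one, map_zero, hρ]))
  have hρ1 : ρ ≠ 1 := fun e => hρF 1 (by rw [map_one, e])
  have hJρ : J ρ = ρ + j T := by
    have h1 := congrArg J hρ
    simp only [map_add, map_mul, hJj, map_one, map_zero] at h1
    have h3 : (J ρ - ρ) * (J ρ + ρ + j T) = 0 := by linear_combination h1 - hρ
    rcases mul_eq_zero.1 h3 with e | e
    · obtain ⟨r, hr⟩ := hfix ρ (sub_eq_zero.1 e); exact absurd hr (hρF r)
    · linear_combination e - (ρ + j T) * h2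
  obtain ⟨Δ, hΔ⟩ : ∃ Δ, Δ = j (τ.1 1 0 * T) := ⟨_, rfl⟩
  have hΔ0 : Δ ≠ 0 := by
    rw [hΔ]; exact (map_ne_zero j).2 (mul_ne_zero h10 hT0)
  obtain ⟨μ, hμ⟩ := Cfsg.Lib.U3Even.exists_norm hn hcard' (x := Δ⁻¹)
    (by rw [inv_pow, hΔ, ← map_pow, ← hF, FiniteField.pow_card])
  have hμJ : μ * J μ * Δ = 1 := by rw [hJ, ← pow_succ', hF, hμ, inv_mul_cancel₀ hΔ0]
  obtain ⟨v0, hv0⟩ : ∃ v0, v0 = ρ + j (τ.1 1 1) := ⟨_, rfl⟩
  obtain ⟨v1, hv1⟩ : ∃ v1, v1 = j (τ.1 1 0) := ⟨_, rfl⟩
  obtain ⟨ι, hι⟩ : ∃ ι : (Fin 2 → F) → L, ι = fun r => μ * (j (r 0) * v0 + j (r 1) * v1) := ⟨_, rfl⟩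
  have hμ0 : μ ≠ 0 := fun e => by rw [e, zero_mul, zero_mul] at hμJ; exact zero_ne_one hμJ
  have hinj : Function.Injective ι := by
    intro r s e
    rw [hι] at e
    have e1 := mul_left_cancel₀ hμ0 e
    by_cases h0 : r 0 = s 0
    · funext i
      fin_cases i
      · exact h0
      · rw [h0] at e1
        have := mul_right_cancel₀ ((map_ne_zero j).2 h10) (hv1 ▸ add_left_cancel e1)
        exact j.injective this
    · exfalso
      refine hρF ((s 1 - r 1) * τ.1 1 0 / (r 0 - s 0) - τ.1 1 1) ?_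
      have hne : j (r 0) - j (s 0) ≠ 0 := sub_ne_zero.2 fun e' => h0 (j.injective e')
      rw [map_sub, map_div₀, map_mul, map_sub, map_sub]
      rw [sub_eq_iff_eq_add, div_eq_iff hne]
      rw [hv0, hv1] at e1
      linear_combination -e1
  refine ⟨L, inferInstance, inferInstance, ⟨
    { j := j, J := J, ι := ι, ρ := ρ, card := hcard, J_eq := hJ, fixed := hfix, J_j := hJj
      ι_add := fun r s => by rw [hι]; simp only [Pi.add_apply, map_add]; ring
      ι_smul := fun c r => by rw [hι]; simp only [Pi.smul_apply, smul_eq_mul, map_mul]; ring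
      ι_bij := hinj.bijective_of_nat_card_le (by
        rw [Nat.card_fun, Nat.card_eq_fintype_card (α := F), Nat.card_eq_fintype_card (α := L), hcard,
          Nat.card_eq_fintype_card, Fintype.card_fin])
      ι_τ := fun r => by
        have hd' := congrArg j hd
        rw [map_add, map_mul, map_mul, map_one] at hd'
        rw [hι, hv0, hv1]
        simp only [Matrix.vecMul, dotProduct, Fin.sum_univ_two, map_add, map_mul]
        rw [hT, map_add] at hρ
        linear_combination μ * j (r 0) * (hd' - hρ) +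
          (μ * j (r 0) * (j (τ.1 0 0) * ρ + j (τ.1 1 1) * ρ) + μ * j (r 1) * (j (τ.1 1 0) * j (τ.1 1 1)) -
            μ * j (r 0) * j (τ.1 1 1) * ρ + μ * j (r 0)) * h2
      form := fun r s => by
        rw [hι]
        simp only [map_add, map_mul, hJj, hv0, hv1, hJρ]
        rw [hΔ, map_mul] at hμJ
        linear_combination -(j (r 0) * j (s 1) + j (r 1) * j (s 0)) * hμJ -
          (μ * J μ * ((ρ + j (τ.1 1 1)) * (ρ + j T + j (τ.1 1 1)) * j (r 0) * j (s 0) +
            j (τ.1 1 0) * j (τ.1 1 0) * j (r 1) * j (s 1) +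
            j (τ.1 1 0) * (ρ + j (τ.1 1 1)) * (j (r 0) * j (s 1) + j (r 1) * j (s 0)))) * h2
      ρ_J := by rw [hJρ]; linear_combination hρ - h2
      ρ_ne := hρ1 }⟩⟩

end Cfsg.Lib.RankOneSuzuki
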