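import Cfsg.Agent.Lib.RankOneSuzuki.UnitaryModule
import Cfsg.Agent.Lib.RankOneSuzuki.UnitaryForm
import Cfsg.Agent.Lib.RankOneSuzuki.UnitaryId
import Cfsg.Agent.Lib.U3Even.Sylow

/-!
# Suzuki's rank-one theorem, `Ww ≠ ⊥`: coordinates on `Q`
-/

set_option autoImplicit false
set_option linter.unusedSectionVars false
set_option linter.style.haveILetI false

namespace Cfsg.Lib.RankOneSuzuki

open Cfsg Cfsg.Lib.Linear.RankOne

universe u v

variable {G : Type u} {Ω : Type v} [Group G] [MulAction G Ω] [Finite G] [FaithfulSMul G Ω] {a : Ω} {t : G}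
  {Q : Subgroup G} {F : Type} [Field F] [Fintype F] [CharP F 2]

/-- Coordinates on `Q`, equivariant for the inverted elements and `w`. -/
structure QCoord (U : UData a t Q F) (w : G) (ℓ : ℕ) {L : Type} [Field L] (j : F →+* L) (J : L ≃+* L) where
  /-- the first coordinate -/
  A : G → L
  /-- the second coordinate -/
  Z : G → L
  /-- the twist -/
  σ : L ≃+* L
  /-- the coefficient -/
  c : L
  /-- the scalar of `w` -/
  ω : L
  A_mul : ∀ x ∈ Q, ∀ y ∈ Q, A (x * y) = A x + A y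
  Z_mul : ∀ x ∈ Q, ∀ y ∈ Q, Z (x * y) = Z x + Z y + coc J σ c (A x) (A y)
  Z_real : ∀ x ∈ Q, J (Z x) = Z x
  A_ker : ∀ x ∈ Q, A x = 0 ↔ x ∈ Zz G a
  A_z : ∀ r, A (U.C.z r) = 0
  Z_z : ∀ r, Z (U.C.z r) = j r
  exists_pt : ∀ α ζ, J ζ = ζ → ∃ x ∈ Q, A x = α ∧ Z x = ζ
  conj_real : ∀ lam : L, J lam = lam → lam ≠ 0 → ∃ r, r ≠ 0 ∧ lam * σ lam = j (r * r) ∧
    ∀ x ∈ Q, A (U.C.k r * x * (U.C.k r)⁻¹) = lam * A x ∧ Z (U.C.k r * x * (U.C.k r)⁻¹) = j (r * r) * Z x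
  conj_w : ∀ x ∈ Q, A (w * x * w⁻¹) = ω * A x ∧ Z (w * x * w⁻¹) = Z x
  ω_pow : ω ^ ℓ = 1
  ω_ne : ω ≠ 1
  ω_J : ω * J ω = 1
  ω_σ : ω * σ ω = 1
  f_ne : ∀ α, α ≠ 0 → quadF J σ c α ≠ 0

theorem UData.exists_qcoord (U : UData a t Q F) {w : G} {ℓ : ℕ} (hw : w ∈ Ww a t) (hw1 : w ≠ 1)
    (hwℓ : w ^ ℓ = 1) (hℓ : ℓ.Prime) (hodd : Odd ℓ) (hℓq : ℓ ∣ 2 ^ U.n + 1) {L : Type} [Field L]
    [Fintype L] (j : F →+* L) (J : L ≃+* L) (hL : Fintype.card L = (2 ^ U.n) ^ 2)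
    (hJ : ∀ x, J x = x ^ (2 ^ U.n)) (hfix : ∀ x, J x = x → ∃ r, j r = x) (hJj : ∀ r, J (j r) = j r) :
    Nonempty (QCoord U w ℓ j J) := by
  classical
  have h := U.hyp
  have hn : 1 ≤ U.n := le_trans (by norm_num) U.two_le
  haveI := Cfsg.Lib.U3Even.charP_two hn hL
  have h2 : ∀ x : L, x + x = 0 := fun x => CharTwo.add_self_eq_zero x
  have hJJ : ∀ x, J (J x) = x := fun x => by rw [hJ, hJ, Cfsg.Lib.U3Even.frob_frob hL]
  have hcomm : ∀ (σ : L ≃+* L) x, J (σ x) = σ (J x) := fun σ x => by rw [hJ, hJ, map_pow]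
  obtain ⟨M⟩ := U.exists_qmod hw hw1 hwℓ hℓ hodd hℓq L hL
  have hsqrt : ∀ r : F, ∃ s, s * s = r := fun r => by
    haveI : Fact (Nat.Prime 2) := ⟨Nat.prime_two⟩
    obtain ⟨s, hs⟩ := (Finite.injective_iff_bijective.1 (frobenius_inj F 2)).2 r
    exact ⟨s, by rw [← hs, frobenius_def, pow_two]⟩
  -- the coordinate on the involutions
  choose zc hzc using U.C.z_surj
  obtain ⟨zl, hzl⟩ : ∃ zl : G → L, ∀ r, zl (U.C.z r) = j r := ⟨fun g => if hg : g ∈ Zz G a then j (zc g hg) else 0,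
    fun r => by simp only [dif_pos (U.C.z_mem r)]; congr 1; exact U.C.z_inj _ _ (hzc _ _)⟩
  have hzl_mul : ∀ g ∈ Zz G a, ∀ g' ∈ Zz G a, zl (g * g') = zl g + zl g' := by
    intro g hg g' hg'
    obtain ⟨r, rfl⟩ := U.C.z_surj g hg
    obtain ⟨r', rfl⟩ := U.C.z_surj g' hg'
    rw [← U.C.z_add, hzl, hzl, hzl, map_add]
  have hzl_real : ∀ g ∈ Zz G a, J (zl g) = zl g := by
    intro g hg
    obtain ⟨r, rfl⟩ := U.C.z_surj g hg
    rw [hzl, hJj]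
  have hQc : ∀ g ∈ Zz G a, ∀ x ∈ Q, g * x = x * g := fun g hg x hx => h.Zz_central hg hx
  have hab := h.not_comm_Q U.isP U.ne_bot
  obtain ⟨hsq, hcm, -, -⟩ := h.suzuki_facts (h.twoSub_self U.isP) hab
  have hcm' : ∀ x ∈ Q, ∀ y ∈ Q, x⁻¹ * y * x * y⁻¹ ∈ Zz G a := fun x hx y hy => by
    simpa using hcm x hx y⁻¹ (inv_mem hy)
  -- the first coordinate
  have hA1 : M.A 1 = 0 := (M.A_ker 1 (one_mem Q)).2 (one_mem _)
  have hAinv : ∀ x ∈ Q, M.A x⁻¹ = M.A x := fun x hx => by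
    have e := M.A_mul x hx x⁻¹ (inv_mem hx)
    rw [mul_inv_cancel, hA1] at e
    linear_combination -e - h2 (M.A x)
  -- conjugation by powers of the generator
  have hiter : ∀ i : ℕ, ∀ x ∈ Q, M.g₀ ^ i * x * (M.g₀ ^ i)⁻¹ ∈ Q ∧
      M.A (M.g₀ ^ i * x * (M.g₀ ^ i)⁻¹) = M.θ ^ i * M.A x := by
    intro i x hx
    induction i with
    | zero => simp [hx]
    | succ i ih =>
      obtain ⟨ih1, ih2⟩ := ih
      rw [show M.g₀ ^ (i + 1) * x * (M.g₀ ^ (i + 1))⁻¹ = M.g₀ * (M.g₀ ^ i * x * (M.g₀ ^ i)⁻¹) * M.g₀⁻¹ by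
        rw [pow_succ']; group]
      refine ⟨h.setup.conj_mem _ M.g₀_mem.1 _ ih1, ?_⟩
      rw [M.A_g₀ _ ih1, ih2, pow_succ']; ring
  obtain ⟨x₁, hx₁, hx₁A⟩ := M.A_surj 1
  have hθpow : ∀ i : ℕ, M.g₀ ^ i = 1 → M.θ ^ i = 1 := fun i hi => by
    have := (hiter i x₁ hx₁).2
    rw [hi, one_mul, inv_one, mul_one, hx₁A, mul_one] at this
    exact this.symm
  obtain ⟨ρ, hρ⟩ : ∃ ρ, M.g₀ * U.C.z 1 * M.g₀⁻¹ = U.C.z ρ :=
    (U.C.z_surj _ (h.Zz_conj M.g₀_mem.1 (U.C.z_mem 1))).imp fun r hr => hr.symm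
  have hgz : ∀ r, M.g₀ * U.C.z r * M.g₀⁻¹ = U.C.z (ρ * r) := by
    intro r
    by_cases hr : r = 0
    · rw [hr, mul_zero, U.C.z_zero, mul_one, mul_inv_cancel]
    obtain ⟨s, hs⟩ := hsqrt r
    have hs0 : s ≠ 0 := fun e => hr (by rw [← hs, e, zero_mul])
    obtain ⟨i, hi⟩ := M.k_pow s hs0
    have e1 : U.C.k s * U.C.z 1 * (U.C.k s)⁻¹ = U.C.z r := by rw [U.C.conj s 1 hs0, mul_one, hs]
    calc M.g₀ * U.C.z r * M.g₀⁻¹ = M.g₀ * (M.g₀ ^ i * U.C.z 1 * (M.g₀ ^ i)⁻¹) * M.g₀⁻¹ := by rw [hi, e1]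
      _ = M.g₀ ^ i * (M.g₀ * U.C.z 1 * M.g₀⁻¹) * (M.g₀ ^ i)⁻¹ := by group
      _ = U.C.z (ρ * r) := by rw [hρ, hi, U.C.conj s ρ hs0, hs, mul_comm]
  have hgzi : ∀ (i : ℕ) r, M.g₀ ^ i * U.C.z r * (M.g₀ ^ i)⁻¹ = U.C.z (ρ ^ i * r) := by
    intro i
    induction i with
    | zero => simp
    | succ i ih =>
      intro r
      rw [show M.g₀ ^ (i + 1) * U.C.z r * (M.g₀ ^ (i + 1))⁻¹ =
        M.g₀ * (M.g₀ ^ i * U.C.z r * (M.g₀ ^ i)⁻¹) * M.g₀⁻¹ by rw [pow_succ']; group, ih, hgz, pow_succ']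
      ring_nf
  have hρk : ∀ (i : ℕ) r, r ≠ 0 → M.g₀ ^ i = U.C.k r → ρ ^ i = r * r := fun i r hr hi => by
    have := hgzi i 1
    rw [hi, U.C.conj r 1 hr, mul_one, mul_one] at this
    exact (U.C.z_inj _ _ this).symm
  obtain ⟨i₀, hi₀⟩ := M.w_pow
  have hρw : ρ ^ i₀ = 1 := by
    have := hgzi i₀ 1
    rw [hi₀, ← (h.mem_Ww.1 hw).2 _ (U.C.z_mem 1), mul_inv_cancel_right, mul_one] at this
    exact (U.C.z_inj _ _ this).symm
  have hρN : ρ ^ M.N = 1 := by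
    have := hgzi M.N 1
    rw [M.g₀_pow, one_mul, inv_one, mul_one, mul_one] at this
    exact (U.C.z_inj _ _ this).symm
  -- the squaring map
  choose sec hsecQ hsecA using M.A_surj
  obtain ⟨f, hf_def⟩ : ∃ f : L → L, f = fun α => zl (sec α * sec α) := ⟨_, rfl⟩
  have hdiff : ∀ x ∈ Q, ∀ y ∈ Q, M.A x = M.A y → x⁻¹ * y ∈ Zz G a := fun x hx y hy e => by
    rw [← M.A_ker _ (mul_mem (inv_mem hx) hy), M.A_mul _ (inv_mem hx) _ hy, hAinv x hx, e, h2]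
  have hfA : ∀ x ∈ Q, f (M.A x) = zl (x * x) := by
    intro x hx
    rw [hf_def]
    simp only
    obtain ⟨ζ, hζ⟩ : ∃ ζ, ζ = x⁻¹ * sec (M.A x) := ⟨_, rfl⟩
    have hm : ζ ∈ Zz G a := hζ ▸ hdiff x hx _ (hsecQ _) (hsecA _).symm
    have e : sec (M.A x) = x * ζ := by rw [hζ, mul_inv_cancel_left]
    rw [e]
    congr 1
    calc x * ζ * (x * ζ) = x * (ζ * x) * ζ := by group
      _ = x * x * (ζ * ζ) := by rw [hQc ζ hm x hx]; group
      _ = x * x := by rw [(h.mem_Zz.1 hm).2, mul_one]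
  obtain ⟨γ, hγ⟩ : ∃ γ : G → G → L, γ = fun x y => zl (x⁻¹ * y * x * y⁻¹) := ⟨_, rfl⟩
  have hfmul : ∀ x ∈ Q, ∀ y ∈ Q, f (M.A x + M.A y) = f (M.A x) + f (M.A y) + γ x y := by
    intro x hx y hy
    rw [← M.A_mul x hx y hy, hfA x hx, hfA y hy, hfA _ (mul_mem hx hy), hγ]
    simp only
    rw [show x * y * (x * y) = x * x * (x⁻¹ * y * x * y⁻¹) * (y * y) by group,
      hzl_mul _ (mul_mem (hsq x hx) (hcm' x hx y hy)) _ (hsq y hy), hzl_mul _ (hsq x hx) _ (hcm' x hx y hy)]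
    ring
  have hγl : ∀ x ∈ Q, ∀ x' ∈ Q, ∀ y ∈ Q, γ (x * x') y = γ x y + γ x' y := by
    intro x hx x' hx' y hy
    rw [hγ]; simp only
    obtain ⟨C, hC⟩ : ∃ C, C = x⁻¹ * y * x * y⁻¹ := ⟨_, rfl⟩
    rw [show (x * x')⁻¹ * y * (x * x') * y⁻¹ = x'⁻¹ * (C * (y * x')) * y⁻¹ by rw [hC]; group,
      hQc C (hC ▸ hcm' x hx y hy) _ (mul_mem hy hx'),
      show x'⁻¹ * (y * x' * C) * y⁻¹ = x'⁻¹ * y * x' * (C * y⁻¹) by group,
      hQc C (hC ▸ hcm' x hx y hy) _ (inv_mem hy),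
      show x'⁻¹ * y * x' * (y⁻¹ * C) = x'⁻¹ * y * x' * y⁻¹ * C by group,
      hzl_mul _ (hcm' x' hx' y hy) _ (hC ▸ hcm' x hx y hy), hC, add_comm]
  have hq : ∀ α β δ : L, f (α + β + δ) + f (α + β) + f (α + δ) + f (β + δ) + f α + f β + f δ = 0 := by
    intro α β δ
    obtain ⟨x, hx, rfl⟩ := M.A_surj α
    obtain ⟨y, hy, rfl⟩ := M.A_surj β
    obtain ⟨z, hz, rfl⟩ := M.A_surj δ
    rw [← M.A_mul x hx y hy, hfmul _ (mul_mem hx hy) z hz, M.A_mul x hx y hy, hfmul x hx z hz, hfmul y hy z hz,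
      hγl x hx y hy z hz]
    linear_combination h2 (f (M.A x + M.A y)) + h2 (γ x z) + h2 (γ y z) + h2 (f (M.A x)) + h2 (f (M.A y)) +
      h2 (f (M.A z)) + h2 (f (M.A z))
  have hf_real : ∀ α, J (f α) = f α := fun α => by
    obtain ⟨x, hx, rfl⟩ := M.A_surj α
    rw [hfA x hx]; exact hzl_real _ (hsq x hx)
  have hf_ne : ∀ α, α ≠ 0 → f α ≠ 0 := by
    intro α hα e
    obtain ⟨x, hx, rfl⟩ := M.A_surj α
    rw [hfA x hx] at e
    obtain ⟨r, hr⟩ := U.C.z_surj _ (hsq x hx)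
    rw [← hr, hzl, map_eq_zero] at e
    rw [e, U.C.z_zero] at hr
    exact hα ((M.A_ker x hx).2 (h.invol_of_sq (h.twoSub_self U.isP) hx hr.symm))
  have hfθ : ∀ α, f (M.θ * α) = j ρ * f α := by
    intro α
    obtain ⟨x, hx, rfl⟩ := M.A_surj α
    obtain ⟨r, hr⟩ := U.C.z_surj _ (hsq x hx)
    rw [← M.A_g₀ x hx, hfA _ (h.setup.conj_mem _ M.g₀_mem.1 x hx), hfA x hx,
      show M.g₀ * x * M.g₀⁻¹ * (M.g₀ * x * M.g₀⁻¹) = M.g₀ * (x * x) * M.g₀⁻¹ by group, ← hr, hgz, hzl, hzl,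
      map_mul]
  obtain ⟨θc, hθc⟩ := Cfsg.Lib.U3Even.exists_tr hn hL (show (1 : L) ^ (2 ^ U.n) = 1 from one_pow _)
  obtain ⟨p, σ, c, hform, hpσ⟩ := exists_normal_form j J hJJ hcomm hfix hJj θc
    (by rw [hJ]; linear_combination hθc) f hf_real hq hf_ne M.N_odd (hθpow _ M.g₀_pow) hfθ (hJj ρ)
    (fun x hx hx0 => by
      have hx' : x ^ (2 ^ U.n - 1) = 1 := by
        refine mul_left_cancel₀ hx0 ?_
        rw [mul_one, ← pow_succ', show 2 ^ U.n - 1 + 1 = 2 ^ U.n by have := Nat.one_le_two_pow (n := U.n); omega,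
          ← hJ, hx]
      obtain ⟨i, -, -, -, hi⟩ := M.real_pow x hx'
      exact ⟨i, hi.symm⟩)
    ⟨i₀, by rw [← map_pow, hρw, map_one], by
      have e : (M.θ ^ i₀) ^ ℓ = 1 := by
        rw [← pow_mul]; refine hθpow _ ?_
        rw [pow_mul, hi₀, hwℓ]
      obtain ⟨d, hd⟩ := hℓq
      rw [hJ, ← pow_succ', hd, pow_mul, e, one_pow],
      fun e => hw1 (hi₀ ▸ M.θ_faith _ e)⟩
  -- the new first coordinate
  obtain ⟨A, hA⟩ : ∃ A : G → L, A = fun x => p (M.A x) := ⟨_, rfl⟩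
  have hAm : ∀ x ∈ Q, ∀ y ∈ Q, A (x * y) = A x + A y := fun x hx y hy => by
    rw [hA]; simp only; rw [M.A_mul x hx y hy, map_add]
  have hcoc : ∀ α β δ : L, coc J σ c (α + β) δ = coc J σ c α δ + coc J σ c β δ ∧
      coc J σ c α (β + δ) = coc J σ c α β + coc J σ c α δ := fun α β δ => by
    constructor <;> simp only [coc, trJ, map_add, map_mul] <;> ring
  have hcoc_real : ∀ α β, J (coc J σ c α β) = coc J σ c α β := fun α β => by
    rw [coc, trJ, map_add, hJJ, add_comm]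
  have hfpol : ∀ x ∈ Q, ∀ y ∈ Q, γ x y = coc J σ c (A x) (A y) + coc J σ c (A y) (A x) := by
    intro x hx y hy
    have e := hfmul x hx y hy
    rw [hform, hform (M.A x), hform (M.A y)] at e
    simp only [coc, trJ, hA, map_add, map_mul] at e ⊢
    linear_combination -e
  have hfsq : ∀ x ∈ Q, zl (x * x) = coc J σ c (A x) (A x) := fun x hx => by
    rw [← hfA x hx, hform, hA]
    rfl
  -- a section
  obtain ⟨Z₁, hZ₁z, hZ₁⟩ : ∃ Z : G → L, (∀ r, Z (U.C.z r) = j r) ∧ ((∀ x ∈ Q, J (Z x) = Z x) ∧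
      ∀ x ∈ Q, ∀ y ∈ Q, Z (x * y) = Z x + Z y + coc J σ c (A x) (A y)) := by
    let P : Subgroup G → Prop := fun R => Zz G a ≤ R ∧ R ≤ Q ∧ ∃ Z : G → L, (∀ r, Z (U.C.z r) = j r) ∧
      ((∀ x ∈ R, J (Z x) = Z x) ∧ ∀ x ∈ R, ∀ y ∈ R, Z (x * y) = Z x + Z y + coc J σ c (A x) (A y))
    have hA0 : ∀ x ∈ Zz G a, A x = 0 := fun x hx => by
      rw [hA]; simp only; rw [(M.A_ker x (h.Zz_le hx)).2 hx, map_zero]
    have hP0 : P (Zz G a) := ⟨le_rfl, h.Zz_le, zl, hzl, hzl_real, fun x hx y hy => by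
      rw [hzl_mul x hx y hy, hA0 x hx, hA0 y hy]
      simp [coc, trJ]⟩
    obtain ⟨R, ⟨hZR, hRQ, Z, hZz, hZreal, hZm⟩, hmax⟩ :=
      Set.Finite.exists_maximal (Set.toFinite {R : Subgroup G | P R}) ⟨_, hP0⟩
    by_cases hRall : Q ≤ R
    · exact ⟨Z, hZz, fun x hx => hZreal x (hRall hx), fun x hx y hy => hZm x (hRall hx) y (hRall hy)⟩
    exfalso
    obtain ⟨x, hx, hxR⟩ := Set.not_subset.1 hRall
    have hxx : x * x ∈ R := hZR (hsq x hx)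
    have hconj : ∀ r ∈ R, x * r * x⁻¹ = r * (r⁻¹ * x * r * x⁻¹) ∧ r⁻¹ * x * r * x⁻¹ ∈ Zz G a := fun r hr =>
      ⟨by group, hcm' r (hRQ hr) x hx⟩
    let R' : Subgroup G :=
      { carrier := {g | g ∈ R ∨ g * x⁻¹ ∈ R}
        one_mem' := .inl (one_mem R)
        mul_mem' := by
          rintro g g' (hg | hg) (hg' | hg')
          · exact .inl (mul_mem hg hg')
          · exact .inr (by rw [mul_assoc]; exact mul_mem hg hg')
          · refine .inr ?_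
            have e : g * g' * x⁻¹ = (g * x⁻¹) * (x * g' * x⁻¹) := by group
            rw [e, (hconj g' hg').1]
            exact mul_mem hg (mul_mem hg' (hZR (hconj g' hg').2))
          · refine .inl ?_
            have e : g * g' = (g * x⁻¹) * (x * (g' * x⁻¹) * x⁻¹) * (x * x) := by group
            rw [e, (hconj _ hg').1]
            exact mul_mem (mul_mem hg (mul_mem hg' (hZR (hconj _ hg').2))) hxx
        inv_mem' := by
          rintro g (hg | hg)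
          · exact .inl (inv_mem hg)
          · refine .inr ?_
            have e : g⁻¹ * x⁻¹ = (x * x)⁻¹ * (x * (g * x⁻¹)⁻¹ * x⁻¹) := by group
            rw [e, (hconj _ (inv_mem hg)).1]
            exact mul_mem (inv_mem hxx) (mul_mem (inv_mem hg) (hZR (hconj _ (inv_mem hg)).2)) }
    have hR' : ∀ g, g ∈ R' ↔ g ∈ R ∨ g * x⁻¹ ∈ R := fun g => Iff.rfl
    have hRR' : R ≤ R' := fun g hg => .inl hg
    have hR'Q : R' ≤ Q := by
      rintro g (hg | hg)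
      · exact hRQ hg
      · simpa using mul_mem (hRQ hg) hx
    obtain ⟨Z', hZ'⟩ : ∃ Z' : G → L, Z' = fun g =>
        if g ∈ R then Z g else Z (g * x⁻¹) + coc J σ c (A (g * x⁻¹)) (A x) := ⟨_, rfl⟩
    have hin : ∀ r ∈ R, Z' r = Z r := fun r hr => by rw [hZ']; exact if_pos hr
    have hout : ∀ r ∈ R, Z' (r * x) = Z r + coc J σ c (A r) (A x) := fun r hr => by
      have hne : r * x ∉ R := fun e => hxR (by simpa using mul_mem (inv_mem hr) e)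
      rw [hZ']; simp only; rw [if_neg hne, mul_inv_cancel_right]
    have hform' : ∀ g ∈ R', g ∈ R ∨ ∃ r ∈ R, g = r * x := by
      rintro g (hg | hg)
      · exact .inl hg
      · exact .inr ⟨_, hg, by rw [inv_mul_cancel_right]⟩
    -- moving `x` to the right
    have hswap : ∀ r' ∈ R, ∃ r'' ∈ R, x * r' = r'' * x ∧ A r'' = A r' ∧
        Z r'' = Z r' + (coc J σ c (A r') (A x) + coc J σ c (A x) (A r')) := by
      intro r' hr'
      obtain ⟨e, hC⟩ := hconj r' hr'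
      obtain ⟨r'', hr''⟩ : ∃ r'', r'' = r' * (r'⁻¹ * x * r' * x⁻¹) := ⟨_, rfl⟩
      refine ⟨r'', hr'' ▸ mul_mem hr' (hZR hC), by rw [hr'', ← e, inv_mul_cancel_right], ?_, ?_⟩
      · rw [hr'', hAm r' (hRQ hr') _ (h.Zz_le hC), hA0 _ hC, add_zero]
      · rw [hr'', hZm r' hr' _ (hZR hC), hA0 _ hC, ← hfpol r' (hRQ hr') x hx, hγ]
        obtain ⟨s, hs⟩ := U.C.z_surj _ hC
        simp only
        rw [← hs, hzl, hZz]
        simp [coc, trJ]
    have hxxA : A (x * x) = 0 := hA0 _ (hsq x hx)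
    have hxxZ : Z (x * x) = coc J σ c (A x) (A x) := by
      obtain ⟨s, hs⟩ := U.C.z_surj _ (hsq x hx)
      rw [← hfsq x hx, ← hs, hzl, hZz]
    have hlt : R < R' := lt_of_le_of_ne hRR' fun e => hxR (e ▸ (.inr (by rw [mul_inv_cancel]; exact one_mem R) : x ∈ R'))
    refine hlt.2 (hmax ⟨hZR.trans hRR', hR'Q, Z', fun r => by rw [hin _ (hZR (U.C.z_mem r)), hZz],
      fun g hg => ?_, fun g hg g' hg' => ?_⟩ hRR')
    · rcases hform' g hg with hg | ⟨r, hr, rfl⟩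
      · rw [hin g hg, hZreal g hg]
      · rw [hout r hr, map_add, hZreal r hr, hcoc_real]
    · rcases hform' g hg with hg | ⟨r, hr, rfl⟩ <;> rcases hform' g' hg' with hg' | ⟨r', hr', rfl⟩
      · rw [hin g hg, hin g' hg', hin _ (mul_mem hg hg'), hZm g hg g' hg']
      · rw [← mul_assoc, hout _ (mul_mem hg hr'), hin g hg, hout r' hr', hZm g hg r' hr',
          hAm g (hRQ hg) r' (hRQ hr'), hAm r' (hRQ hr') x hx, (hcoc (A g) (A r') (A x)).1,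
          (hcoc (A g) (A r') (A x)).2]
        ring
      · obtain ⟨r'', hr'', e, eA, eZ⟩ := hswap g' hg'
        rw [mul_assoc, e, ← mul_assoc, hout _ (mul_mem hr hr''), hout r hr, hin g' hg', hZm r hr r'' hr'',
          hAm r (hRQ hr) r'' (hRQ hr''), hAm r (hRQ hr) x hx, eA, eZ, (hcoc (A r) (A g') (A x)).1,
          (hcoc (A r) (A x) (A g')).1]
        linear_combination h2 (coc J σ c (A g') (A x))
      · obtain ⟨r'', hr'', e, eA, eZ⟩ := hswap r' hr'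
        rw [show r * x * (r' * x) = r * r'' * (x * x) by rw [← mul_assoc, mul_assoc r, e]; group,
          hin _ (mul_mem (mul_mem hr hr'') hxx), hZm _ (mul_mem hr hr'') _ hxx, hxxA, hxxZ, hout r hr,
          hout r' hr', hZm r hr r'' hr'', eA, eZ, hAm r (hRQ hr) x hx, hAm r' (hRQ hr') x hx,
          (hcoc (A r) (A x) (A r' + A x)).1, (hcoc (A r) (A r') (A x)).2, (hcoc (A x) (A r') (A x)).2]
        simp only [coc, trJ, map_zero, mul_zero, add_zero]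
        linear_combination -h2 (c * A r * σ (A x) + J (c * A r * σ (A x)))
  -- averaging
  obtain ⟨hZ₁real, hZ₁m⟩ := hZ₁
  obtain ⟨m, hm⟩ : ∃ m, m = j ρ := ⟨_, rfl⟩
  have hm0 : m ≠ 0 := by
    intro e
    have := congrArg j hρN
    rw [map_pow, ← hm, e, zero_pow (fun e0 => by have := M.N_odd; rw [e0] at this; simp at this), map_one] at this
    exact zero_ne_one this
  have hmN : m ^ M.N = 1 := by rw [hm, ← map_pow, hρN, map_one]
  have hN1 : (M.N : L) = 1 := by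
    obtain ⟨k, hk⟩ := M.N_odd
    rw [hk]; push_cast
    rw [CharTwo.two_eq_zero, zero_mul, zero_add]
  obtain ⟨θ', hθ'⟩ : ∃ θ', θ' = p M.θ := ⟨_, rfl⟩
  have hAi : ∀ i : ℕ, ∀ x ∈ Q, A (M.g₀ ^ i * x * (M.g₀ ^ i)⁻¹) = θ' ^ i * A x := fun i x hx => by
    rw [hA]; simp only; rw [(hiter i x hx).2, map_mul, map_pow, hθ']
  have hθσ : ∀ i : ℕ, θ' ^ i * σ (θ' ^ i) = m ^ i := fun i => by
    rw [map_pow, ← mul_pow, hθ', hpσ, hm]
  have hcoc_i : ∀ (i : ℕ) α β, coc J σ c (θ' ^ i * α) (θ' ^ i * β) = m ^ i * coc J σ c α β := by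
    intro i α β
    have hmi : J (m ^ i) = m ^ i := by rw [map_pow, hm, hJj]
    rw [coc, trJ, coc, trJ, map_mul σ,
      show c * (θ' ^ i * α) * (σ (θ' ^ i) * σ β) = (θ' ^ i * σ (θ' ^ i)) * (c * α * σ β) by ring, hθσ,
      map_mul J (m ^ i), hmi]
    ring
  obtain ⟨Z, hZ⟩ : ∃ Z : G → L, Z = fun x =>
      ∑ i ∈ Finset.range M.N, (m ^ i)⁻¹ * Z₁ (M.g₀ ^ i * x * (M.g₀ ^ i)⁻¹) := ⟨_, rfl⟩
  have hZreal : ∀ x ∈ Q, J (Z x) = Z x := fun x hx => by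
    rw [hZ]; simp only
    rw [map_sum]
    refine Finset.sum_congr rfl fun i _ => ?_
    rw [map_mul, map_inv₀, map_pow, hm, hJj, hZ₁real _ (hiter i x hx).1]
  have hZm : ∀ x ∈ Q, ∀ y ∈ Q, Z (x * y) = Z x + Z y + coc J σ c (A x) (A y) := by
    intro x hx y hy
    rw [hZ]; simp only
    have e : ∀ i ∈ Finset.range M.N, (m ^ i)⁻¹ * Z₁ (M.g₀ ^ i * (x * y) * (M.g₀ ^ i)⁻¹) =
        (m ^ i)⁻¹ * Z₁ (M.g₀ ^ i * x * (M.g₀ ^ i)⁻¹) + (m ^ i)⁻¹ * Z₁ (M.g₀ ^ i * y * (M.g₀ ^ i)⁻¹) +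
          coc J σ c (A x) (A y) := by
      intro i _
      rw [show M.g₀ ^ i * (x * y) * (M.g₀ ^ i)⁻¹ =
          (M.g₀ ^ i * x * (M.g₀ ^ i)⁻¹) * (M.g₀ ^ i * y * (M.g₀ ^ i)⁻¹) by group,
        hZ₁m _ (hiter i x hx).1 _ (hiter i y hy).1, hAi i x hx, hAi i y hy, hcoc_i, mul_add, mul_add,
        ← mul_assoc _ (m ^ i), inv_mul_cancel₀ (pow_ne_zero _ hm0), one_mul]
    rw [Finset.sum_congr rfl e, Finset.sum_add_distrib, Finset.sum_add_distrib, Finset.sum_const,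
      Finset.card_range, nsmul_eq_mul, hN1, one_mul]
  have hZz : ∀ r, Z (U.C.z r) = j r := fun r => by
    rw [hZ]; simp only
    rw [Finset.sum_congr rfl (fun i _ => show (m ^ i)⁻¹ * Z₁ (M.g₀ ^ i * U.C.z r * (M.g₀ ^ i)⁻¹) = j r by
      rw [hgzi, hZ₁z, map_mul, map_pow, ← hm, ← mul_assoc, inv_mul_cancel₀ (pow_ne_zero _ hm0), one_mul]),
      Finset.sum_const, Finset.card_range, nsmul_eq_mul, hN1, one_mul]
  have hZg : ∀ x, Z (M.g₀ * x * M.g₀⁻¹) = m * Z x := by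
    intro x
    obtain ⟨g, hg⟩ : ∃ g : ℕ → L, g = fun i => (m ^ i)⁻¹ * Z₁ (M.g₀ ^ i * x * (M.g₀ ^ i)⁻¹) := ⟨_, rfl⟩
    have hwrap : g M.N = g 0 := by rw [hg]; simp [hmN, M.g₀_pow]
    have hshift : ∑ i ∈ Finset.range M.N, g (i + 1) = ∑ i ∈ Finset.range M.N, g i := by
      have e1 := Finset.sum_range_succ g M.N
      rw [Finset.sum_range_succ' g M.N, hwrap] at e1
      exact add_right_cancel e1
    rw [hZ]; simp only
    rw [show ∑ i ∈ Finset.range M.N, (m ^ i)⁻¹ * Z₁ (M.g₀ ^ i * x * (M.g₀ ^ i)⁻¹) =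
      ∑ i ∈ Finset.range M.N, g (i + 1) by rw [hshift, hg], Finset.mul_sum]
    refine Finset.sum_congr rfl fun i _ => ?_
    rw [hg]; simp only
    rw [show M.g₀ ^ i * (M.g₀ * x * M.g₀⁻¹) * (M.g₀ ^ i)⁻¹ = M.g₀ ^ (i + 1) * x * (M.g₀ ^ (i + 1))⁻¹ by
      rw [pow_succ]; group, ← mul_assoc, show m * (m ^ (i + 1))⁻¹ = (m ^ i)⁻¹ by
        rw [pow_succ', mul_inv, ← mul_assoc, mul_inv_cancel₀ hm0, one_mul]]
  have hZi : ∀ (i : ℕ) x, Z (M.g₀ ^ i * x * (M.g₀ ^ i)⁻¹) = m ^ i * Z x := by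
    intro i
    induction i with
    | zero => simp
    | succ i ih =>
      intro x
      rw [show M.g₀ ^ (i + 1) * x * (M.g₀ ^ (i + 1))⁻¹ = M.g₀ * (M.g₀ ^ i * x * (M.g₀ ^ i)⁻¹) * M.g₀⁻¹ by
        rw [pow_succ']; group, hZg, ih, pow_succ', mul_assoc]
  refine ⟨
    { A := A, Z := Z, σ := σ, c := c, ω := θ' ^ i₀
      A_mul := hAm, Z_mul := hZm, Z_real := hZreal
      A_ker := fun x hx => by rw [hA]; simp only; rw [map_eq_zero_iff p p.injective]; exact M.A_ker x hx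
      A_z := fun r => by
        rw [hA]; simp only
        rw [(M.A_ker _ (U.C.z_mem_Q h r)).2 (U.C.z_mem r), map_zero]
      Z_z := hZz
      exists_pt := fun α ζ hζ => ?_
      conj_real := fun lam hlam hlam0 => ?_
      conj_w := fun x hx => ⟨by rw [← hi₀, hAi i₀ x hx], by
        rw [← hi₀, hZi, hm, ← map_pow, hρw, map_one, one_mul]⟩
      ω_pow := by
        rw [← pow_mul, hθ', ← map_pow, hθpow _ (by rw [pow_mul, hi₀, hwℓ]), map_one]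
      ω_ne := fun e => hw1 (hi₀ ▸ M.θ_faith _ (p.injective (by rw [map_pow, ← hθ', e, map_one])))
      ω_J := ?_
      ω_σ := by rw [hθσ, hm, ← map_pow, hρw, map_one]
      f_ne := fun α hα => ?_ }⟩
  · obtain ⟨x, hx, hxA⟩ := M.A_surj (p.symm α)
    obtain ⟨r, hr⟩ := hfix (ζ + Z x) (by rw [map_add, hζ, hZreal x hx])
    refine ⟨x * U.C.z r, mul_mem hx (U.C.z_mem_Q h r), ?_, ?_⟩
    · rw [hAm x hx _ (U.C.z_mem_Q h r), hA]; simp only
      rw [hxA, RingEquiv.apply_symm_apply, (M.A_ker _ (U.C.z_mem_Q h r)).2 (U.C.z_mem r), map_zero, add_zero]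
    · rw [hZm x hx _ (U.C.z_mem_Q h r), hZz, hr, hA]; simp only
      rw [(M.A_ker _ (U.C.z_mem_Q h r)).2 (U.C.z_mem r), map_zero]
      simp only [coc, trJ, map_zero, mul_zero, add_zero]
      linear_combination h2 (Z x)
  · have hl : (p.symm lam) ^ (2 ^ U.n - 1) = 1 := by
      refine mul_left_cancel₀ ((map_ne_zero p.symm).2 hlam0) ?_
      rw [mul_one, ← pow_succ', show 2 ^ U.n - 1 + 1 = 2 ^ U.n by have := Nat.one_le_two_pow (n := U.n); omega,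
        ← map_pow, ← hJ, hlam]
    obtain ⟨i, r, hr, hir, hil⟩ := M.real_pow _ hl
    have hlam' : θ' ^ i = lam := by rw [hθ', ← map_pow, hil, RingEquiv.apply_symm_apply]
    have hmi : m ^ i = j (r * r) := by rw [hm, ← map_pow, hρk i r hr hir]
    refine ⟨r, hr, by rw [← hlam', hθσ, hmi], fun x hx => ⟨?_, ?_⟩⟩
    · rw [← hir, hAi i x hx, hlam']
    · rw [← hir, hZi, hmi]
  · have e : (θ' ^ i₀) ^ ℓ = 1 := by
      rw [← pow_mul, hθ', ← map_pow, hθpow _ (by rw [pow_mul, hi₀, hwℓ]), map_one]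
    obtain ⟨d, hd⟩ := hℓq
    rw [hJ, ← pow_succ', hd, pow_mul, e, one_pow]
  · rw [quadF, trJ, show c * α * σ α = c * p (p.symm α) * σ (p (p.symm α)) by rw [RingEquiv.apply_symm_apply],
      ← hform]
    exact hf_ne _ ((map_ne_zero p.symm).2 hα)

end Cfsg.Lib.RankOneSuzuki
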