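import Cfsg.Agent.Lib.RankOneSuzuki.UnitaryLines
import Cfsg.Agent.Lib.RankOneSuzuki.UnitaryPlane
import Cfsg.Agent.Lib.RankOneSuzuki.UnitaryQ
import Cfsg.Agent.Lib.RankOneSuzuki.UnitaryId
import Cfsg.Agent.Lib.RankOneSuzuki.UnitaryModel
import Cfsg.Agent.Lib.RankOneSuzuki.Concl

/-!
# Suzuki's rank-one theorem, `Ww ≠ ⊥`: the unitary case

The orbit of a torus off the line is a line, so the coordinates of the points satisfy the hypotheses of
the identification, and `⟨Q, t⟩` is `PSU(3, q)` on its unital.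
-/

set_option autoImplicit false
set_option linter.unusedSectionVars false
set_option linter.style.haveILetI false

namespace Cfsg.Lib.RankOneSuzuki

open Cfsg Cfsg.Lib.Linear.RankOne Matrix

universe u v

variable {G : Type u} {Ω : Type v} [Group G] [MulAction G Ω] [Finite G] [FaithfulSMul G Ω] {a : Ω} {t : G}
  {Q : Subgroup G} {F : Type} [Field F] [Fintype F] [CharP F 2]

/-- Coordinates of the points in the unitary case. -/
structure Frame (U : UData a t Q F) (L : Type) [Field L] [Fintype L] where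
  /-- the base point -/
  o : Ω
  /-- the element of `Ww` -/
  w : G
  /-- its torus element -/
  τ : SL2 F
  ℓ : ℕ
  /-- the line -/
  g : G
  plane : Plane τ L
  co : QCoord U w ℓ plane.j plane.J
  w_mem : w ∈ Ww a t
  w_ne : w ≠ 1
  w_pow : w ^ ℓ = 1
  prime : ℓ.Prime
  odd : Odd ℓ
  dvd : ℓ ∣ 2 ^ U.n + 1
  o_not : o ∉ U.C.Bs
  w_o : w • o = U.Φ τ • o
  line : U.ln g = {p | ∃ M, M * τ = τ * M ∧ U.Φ M • o = p}
  τ_pow : τ ^ ℓ = 1

theorem UData.exists_frame (U : UData a t Q F) :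
    ∃ (L : Type) (_ : Field L) (_ : Fintype L), Nonempty (Frame U L) := by
  obtain ⟨o, w, τ, ℓ, g, hw, hw1, hwℓ, hℓ, hodd, hℓq, ho, hwo, hln⟩ := U.exists_good
  have hτ : τ ≠ 1 := fun e => ho ((U.W_fix hw hw1 o).1 (by rw [hwo, e, map_one, one_smul]))
  have hpow : ∀ i : ℕ, w ^ i • o = U.Φ (τ ^ i) • o := by
    intro i
    induction i with
    | zero => simp
    | succ i ih => rw [pow_succ', mul_smul, ih, smul_smul, (U.comm_W hw _).eq, mul_smul, hwo, pow_succ, map_mul,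
        mul_smul]
  have hτℓ : τ ^ ℓ = 1 := U.semiregular ho (by rw [← hpow, hwℓ, one_smul])
  obtain ⟨L, _, _, ⟨P⟩⟩ := exists_plane (le_trans (by norm_num) U.two_le) U.card hτ hτℓ hodd hℓq
  obtain ⟨Co⟩ := U.exists_qcoord hw hw1 hwℓ hℓ hodd hℓq P.j P.J (by rw [P.card, U.card])
    (fun x => by rw [P.J_eq, U.card]) P.fixed P.J_j
  exact ⟨L, inferInstance, inferInstance,
    ⟨⟨o, w, τ, ℓ, g, P, Co, hw, hw1, hwℓ, hℓ, hodd, hℓq, ho, hwo, hln, hτℓ⟩⟩⟩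

namespace Frame

variable {U : UData a t Q F} {L : Type} [Field L] [Fintype L] (S : Frame U L)

open scoped Classical in
/-- The matrix of a point off the line. -/
noncomputable def mat (p : Ω) : SL2 F :=
  if h : p ∈ U.C.Bs then 1 else (U.regular S.o_not h).exists.choose

/-- The upper coordinate. -/
noncomputable def uc (p : Ω) : L := S.plane.ι ((S.mat p).1 0)

/-- The lower coordinate. -/
noncomputable def pc (p : Ω) : L := S.plane.ι ((S.mat p).1 1)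

theorem mat_spec {p : Ω} (hp : p ∉ U.C.Bs) : U.Φ (S.mat p) • S.o = p := by
  rw [mat, dif_neg hp]; exact (U.regular S.o_not hp).exists.choose_spec

theorem mat_eq {p : Ω} {M : SL2 F} (h : U.Φ M • S.o = p) : p ∉ U.C.Bs ∧ S.mat p = M := by
  have hp : p ∉ U.C.Bs := h ▸ fun e => S.o_not ((U.map_mem_Bs_iff M S.o).1 e)
  exact ⟨hp, (U.regular S.o_not hp).unique (S.mat_spec hp) h⟩

theorem JJ (x : L) : S.plane.J (S.plane.J x) = x := S.plane.JJ x

theorem det_coord {p : Ω} : S.uc p * S.plane.J (S.pc p) + S.plane.J (S.uc p) * S.pc p = 1 := by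
  rw [uc, pc, ← S.plane.form, SL2.det_eq, map_one]

theorem pc_ne {p : Ω} : S.pc p ≠ 0 := fun e => by
  have := S.det_coord (p := p)
  rw [e, map_zero, mul_zero, mul_zero, add_zero] at this
  exact zero_ne_one this

theorem ext_pt {p p' : Ω} (hp : p ∉ U.C.Bs) (hp' : p' ∉ U.C.Bs) (hu : S.uc p = S.uc p')
    (hv : S.pc p = S.pc p') : p = p' := by
  have e : S.mat p = S.mat p' := by
    refine Subtype.ext (funext fun i => ?_)
    fin_cases i
    · exact S.plane.ι_bij.1 hu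
    · exact S.plane.ι_bij.1 hv
  rw [← S.mat_spec hp, e, S.mat_spec hp']

theorem act (N : SL2 F) {p : Ω} (hp : p ∉ U.C.Bs) : U.Φ N • p ∉ U.C.Bs ∧
    S.uc (U.Φ N • p) = S.plane.j (N.1 0 0) * S.uc p + S.plane.j (N.1 0 1) * S.pc p ∧
    S.pc (U.Φ N • p) = S.plane.j (N.1 1 0) * S.uc p + S.plane.j (N.1 1 1) * S.pc p := by
  obtain ⟨h1, h2⟩ := S.mat_eq (p := U.Φ N • p) (M := N * S.mat p)
    (by rw [map_mul, mul_smul, S.mat_spec hp])
  have hrow : ∀ i, (N * S.mat p).1 i = N.1 i 0 • (S.mat p).1 0 + N.1 i 1 • (S.mat p).1 1 := fun i => by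
    rw [SL2.val_mul]
    funext k
    simp [Matrix.mul_apply, Fin.sum_univ_two]
  refine ⟨h1, ?_, ?_⟩ <;>
    simp only [uc, pc, h2, hrow, S.plane.ι_add, S.plane.ι_smul]

theorem mat_right {p : Ω} (hp : p ∉ U.C.Bs) {N : SL2 F} {ε : L}
    (hN : ∀ r, S.plane.ι (r ᵥ* N.1) = ε * S.plane.ι r) :
    U.Φ (S.mat p * N) • S.o ∉ U.C.Bs ∧ S.uc (U.Φ (S.mat p * N) • S.o) = ε * S.uc p ∧
      S.pc (U.Φ (S.mat p * N) • S.o) = ε * S.pc p := by
  obtain ⟨h1, h2⟩ := S.mat_eq (p := U.Φ (S.mat p * N) • S.o) rfl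
  have hrow : ∀ i, (S.mat p * N).1 i = (S.mat p).1 i ᵥ* N.1 := fun i => rfl
  refine ⟨h1, ?_, ?_⟩ <;> simp only [uc, pc, h2, hrow, hN]

theorem act_w {p : Ω} (hp : p ∉ U.C.Bs) : S.w • p ∉ U.C.Bs ∧ S.uc (S.w • p) = S.plane.ρ * S.uc p ∧
    S.pc (S.w • p) = S.plane.ρ * S.pc p := by
  have e : S.w • p = U.Φ (S.mat p * S.τ) • S.o := by
    conv_lhs => rw [← S.mat_spec hp]
    rw [smul_smul, (U.comm_W S.w_mem _).eq, mul_smul, S.w_o, map_mul, mul_smul]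
  rw [e]
  exact S.mat_right hp S.plane.ι_τ

theorem co_uniq {x y : G} (hx : x ∈ Q) (hy : y ∈ Q) (hA : S.co.A x = S.co.A y)
    (hZ : S.co.Z x = S.co.Z y) : x = y := by
  have h1 : S.co.A (x⁻¹ * y) = 0 := by
    have e := S.co.A_mul x hx _ (mul_mem (inv_mem hx) hy)
    rw [mul_inv_cancel_left, ← hA] at e
    exact left_eq_add.1 e
  obtain ⟨r, hr⟩ := U.C.z_surj _ ((S.co.A_ker _ (mul_mem (inv_mem hx) hy)).1 h1)
  have e := S.co.Z_mul x hx _ (U.C.z_mem_Q U.hyp r)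
  rw [S.co.A_z, S.co.Z_z, show x * U.C.z r = y by rw [hr, mul_inv_cancel_left], ← hZ] at e
  simp only [coc, trJ, map_zero, mul_zero, add_zero] at e
  have hr0 : r = 0 := S.plane.j.injective (by rw [map_zero]; exact left_eq_add.1 e)
  rw [hr0, U.C.z_zero] at hr
  exact inv_mul_eq_one.1 hr.symm

theorem pt_not_mem {x : G} (hx : x ∈ Q) : x • t • a ∈ U.C.Bs ↔ S.co.A x = 0 := by
  constructor
  · rintro (e | ⟨r, e⟩)
    · exact absurd e (smul_ne_of_ne U.hyp.setup hx (smul_ne U.hyp.setup))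
    · rw [eq_of_smul U.hyp.setup hx (U.C.z_mem_Q U.hyp r) (smul_ne U.hyp.setup) e, S.co.A_z]
  · intro e
    obtain ⟨r, hr⟩ := U.C.z_surj x ((S.co.A_ker x hx).1 e)
    exact .inr ⟨r, by rw [hr]⟩

/-- The representative with vanishing second coordinate. -/
noncomputable def rep (α : L) : G := (S.co.exists_pt α 0 (map_zero _)).choose

theorem rep_spec (α : L) : S.rep α ∈ Q ∧ S.co.A (S.rep α) = α ∧ S.co.Z (S.rep α) = 0 :=
  (S.co.exists_pt α 0 (map_zero _)).choose_spec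

open scoped Classical in
/-- The class map. -/
noncomputable def pf (α : L) : L := if α = 0 then 0 else S.pc (S.rep α • t • a)

open scoped Classical in
/-- The remaining coordinate. -/
noncomputable def ef (α : L) : L :=
  if α = 0 then 0 else S.uc (S.rep α • t • a) / S.pc (S.rep α • t • a)

theorem rep_not {α : L} (hα : α ≠ 0) : S.rep α • t • a ∉ U.C.Bs := fun e =>
  hα ((S.rep_spec α).2.1 ▸ (S.pt_not_mem (S.rep_spec α).1).1 e)

theorem coords_pt {x : G} (hx : x ∈ Q) (hA : S.co.A x ≠ 0) : x • t • a ∉ U.C.Bs ∧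
    S.pc (x • t • a) = S.pf (S.co.A x) ∧
    S.uc (x • t • a) = (S.co.Z x + S.ef (S.co.A x)) * S.pf (S.co.A x) := by
  obtain ⟨hrQ, hrA, hrZ⟩ := S.rep_spec (S.co.A x)
  obtain ⟨r, hr⟩ := S.plane.fixed _ (S.co.Z_real x hx)
  have e : x = U.C.z r * S.rep (S.co.A x) := by
    refine S.co_uniq hx (mul_mem (U.C.z_mem_Q U.hyp r) hrQ) ?_ ?_
    · rw [S.co.A_mul _ (U.C.z_mem_Q U.hyp r) _ hrQ, S.co.A_z, zero_add, hrA]
    · rw [S.co.Z_mul _ (U.C.z_mem_Q U.hyp r) _ hrQ, S.co.A_z, S.co.Z_z, hrZ, hr]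
      simp [coc, trJ]
  obtain ⟨h1, h2, h3⟩ := S.act (eU r) (S.rep_not hA)
  rw [U.map_U, smul_smul, ← e] at h1 h2 h3
  refine ⟨h1, ?_, ?_⟩
  · rw [h3, pf, if_neg hA]
    simp [eU]
  · rw [h2, pf, ef, if_neg hA, if_neg hA, ← hr, add_mul, div_mul_cancel₀ _ S.pc_ne]
    simp [eU]
    ring

theorem point_of {v : L} (hv : v ≠ 0) : ∃ α, α ≠ 0 ∧ S.pf α = v := by
  have hcard : Fintype.card L = (2 ^ U.n) ^ 2 := by rw [S.plane.card, U.card]
  obtain ⟨θc, hθc⟩ := Cfsg.Lib.U3Even.exists_tr (le_trans (by norm_num) U.two_le) hcard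
    (show (1 : L) ^ (2 ^ U.n) = 1 from one_pow _)
  obtain ⟨r0, hr0⟩ := S.plane.ι_bij.2 (θc / S.plane.J v)
  obtain ⟨r1, hr1⟩ := S.plane.ι_bij.2 v
  have hJv : S.plane.J v ≠ 0 := (map_ne_zero S.plane.J).2 hv
  have hdet : (!![r0 0, r0 1; r1 0, r1 1] : Matrix (Fin 2) (Fin 2) F).det = 1 := by
    rw [Matrix.det_fin_two_of]
    refine S.plane.j.injective ?_
    rw [map_one, show r0 0 * r1 1 - r0 1 * r1 0 = r0 0 * r1 1 + r0 1 * r1 0 by
      linear_combination -add_self₂ (r0 1 * r1 0), S.plane.form, hr0, hr1, map_div₀, S.JJ,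
      div_mul_cancel₀ _ hv, div_mul_cancel₀ _ hJv, S.plane.J_eq, U.card, add_comm]
    exact hθc
  obtain ⟨M, hM⟩ : ∃ M : SL2 F, M.1 = !![r0 0, r0 1; r1 0, r1 1] := ⟨⟨_, hdet⟩, rfl⟩
  obtain ⟨hp, hMp⟩ := S.mat_eq (p := U.Φ M • S.o) rfl
  obtain ⟨x, hx, hxe⟩ := exists_orbit U.hyp.setup (b := U.Φ M • S.o) fun e => hp (.inl e)
  have hA : S.co.A x ≠ 0 := fun e => hp (hxe ▸ (S.pt_not_mem hx).2 e)
  refine ⟨_, hA, ?_⟩
  rw [← (S.coords_pt hx hA).2.1, hxe, pc, hMp, hM, ← hr1]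
  congr 1
  funext i; fin_cases i <;> simp

theorem pf_inj {α β : L} (hα : α ≠ 0) (hβ : β ≠ 0) (e : S.pf α = S.pf β) : α = β := by
  have e' : S.pc (S.rep α • t • a) = S.pc (S.rep β • t • a) := by simpa [pf, hα, hβ] using e
  obtain ⟨u1, hu1⟩ : ∃ u, u = S.uc (S.rep α • t • a) := ⟨_, rfl⟩
  obtain ⟨u2, hu2⟩ : ∃ u, u = S.uc (S.rep β • t • a) := ⟨_, rfl⟩
  obtain ⟨v, hv⟩ : ∃ v, v = S.pc (S.rep α • t • a) := ⟨_, rfl⟩
  have hv0 : v ≠ 0 := hv ▸ S.pc_ne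
  have hJv : S.plane.J v ≠ 0 := (map_ne_zero S.plane.J).2 hv0
  have d1 := S.det_coord (p := S.rep α • t • a)
  have d2 := S.det_coord (p := S.rep β • t • a)
  rw [← hu1, ← hv] at d1
  rw [← hu2, ← e', ← hv] at d2
  obtain ⟨r, hr⟩ := S.plane.fixed ((u2 - u1) / v) (by
    rw [map_div₀, map_sub, div_eq_div_iff hJv hv0]
    linear_combination d2 - d1 - (u2 - u1) * S.plane.J v * S.plane.two)
  obtain ⟨h1, h2, h3⟩ := S.act (eU r) (S.rep_not hα)
  rw [U.map_U, smul_smul] at h1 h2 h3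
  have hu : S.uc ((U.C.z r * S.rep α) • t • a) = S.uc (S.rep β • t • a) := by
    rw [h2, ← hu1, ← hu2, ← hv]
    simp [eU, hr]
    field_simp
    ring
  have hvv : S.pc ((U.C.z r * S.rep α) • t • a) = S.pc (S.rep β • t • a) := by
    rw [h3, ← e']; simp [eU]
  have hp := S.ext_pt h1 (S.rep_not hβ) hu hvv
  have := eq_of_smul U.hyp.setup (mul_mem (U.C.z_mem_Q U.hyp r) (S.rep_spec α).1) (S.rep_spec β).1
    (smul_ne U.hyp.setup) hp
  rw [← (S.rep_spec β).2.1, ← this, S.co.A_mul _ (U.C.z_mem_Q U.hyp r) _ (S.rep_spec α).1, S.co.A_z,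
    zero_add, (S.rep_spec α).2.1]

theorem pc_t {p : Ω} (hp : p ∉ U.C.Bs) :
    t • p ∉ U.C.Bs ∧ S.uc (t • p) = S.pc p ∧ S.pc (t • p) = S.uc p := by
  obtain ⟨h1, h2, h3⟩ := S.act eT hp
  rw [U.map_T] at h1 h2 h3
  exact ⟨h1, by rw [h2]; simp [eT], by rw [h3]; simp [eT]⟩

/-- The points of a line through `t • a` other than `Bs` have one upper coordinate. -/
theorem uc_const {h : G} (hb : t • a ∈ U.ln h) {q q' : Ω} (hq : q ∈ U.ln h) (hq' : q' ∈ U.ln h)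
    (hqB : q ∉ U.C.Bs) (hq'B : q' ∉ U.C.Bs) : S.uc q = S.uc q' := by
  have hst := U.hyp.setup
  obtain ⟨y, hy, hye⟩ := U.ln_through_a (g := t * h)
    (by rw [← U.ln_mul]; exact ⟨t • a, hb, smul_smul_self hst⟩)
  have key : ∀ p, p ∈ U.ln h → p ∉ U.C.Bs → S.uc p = S.pf (S.co.A y) := by
    intro p hp hpB
    obtain ⟨hB, -, h3⟩ := S.pc_t hpB
    have hm : t • p ∈ U.ln y := by rw [← hye, ← U.ln_mul]; exact ⟨p, hp, rfl⟩
    obtain ⟨c, hc, hce⟩ := hm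
    rcases hc with rfl | ⟨r, rfl⟩
    · exact absurd (.inl ((hce.symm.trans (hst.le hy)))) hB
    · have hce' : (y * U.C.z r) • t • a = t • p := by rw [mul_smul]; exact hce
      have hyQ := mul_mem hy (U.C.z_mem_Q U.hyp r)
      have hA : S.co.A (y * U.C.z r) = S.co.A y := by
        rw [S.co.A_mul y hy _ (U.C.z_mem_Q U.hyp r), S.co.A_z, add_zero]
      have hA0 : S.co.A (y * U.C.z r) ≠ 0 := fun e => hB (hce' ▸ (S.pt_not_mem hyQ).2 e)
      rw [← h3, ← hce', (S.coords_pt hyQ hA0).2.1, hA]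
  rw [key q hq hqB, key q' hq' hq'B]

theorem line_property (α z α' z' α'' z'' ε ε' : L) (hα : α ≠ 0) (hα' : α' ≠ 0) (hα'' : α'' ≠ 0)
    (hz : S.plane.J z = z) (hz' : S.plane.J z' = z') (hz'' : S.plane.J z'' = z'')
    (hε : ε * S.plane.J ε = 1) (hε' : ε' * S.plane.J ε' = 1) (hε1 : ε ≠ 1) (hε'1 : ε' ≠ 1)
    (hP : S.pf α' = ε * S.pf α) (hP' : S.pf α'' = ε' * S.pf α) (hE : z' + S.ef α' = z + S.ef α)
    (hE' : z'' + S.ef α'' = z + S.ef α) :
    upper S.plane.J S.co.σ S.co.c S.pf S.ef α z α' z' =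
      upper S.plane.J S.co.σ S.co.c S.pf S.ef α z α'' z'' := by
  have hst := U.hyp.setup
  obtain ⟨x, hx, hxA, hxZ⟩ := S.co.exists_pt α z hz
  obtain ⟨hpB, hpp, hpu⟩ := S.coords_pt hx (hxA ▸ hα)
  rw [hxA] at hpp hpu
  rw [hxZ] at hpu
  obtain ⟨p, hp⟩ : ∃ p, p = x • t • a := ⟨_, rfl⟩
  rw [← hp] at hpB hpp hpu
  obtain ⟨M, hM⟩ : ∃ M, M = S.mat p := ⟨_, rfl⟩
  obtain ⟨l, hl⟩ : ∃ l, l = U.Φ M * S.g := ⟨_, rfl⟩
  have hmem : ∀ N, N * S.τ = S.τ * N → U.Φ (M * N) • S.o ∈ U.ln l := by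
    intro N hN
    rw [hl, ← U.ln_mul, map_mul, mul_smul]
    exact ⟨_, by rw [S.line]; exact ⟨N, hN, rfl⟩, rfl⟩
  have hoff : ∀ q ∈ U.ln l, q ∉ U.C.Bs := by
    intro q hq
    rw [hl, ← U.ln_mul] at hq
    obtain ⟨q₀, hq₀, rfl⟩ := hq
    rw [S.line] at hq₀
    obtain ⟨N, -, rfl⟩ := hq₀
    show U.Φ M • U.Φ N • S.o ∉ U.C.Bs
    rw [smul_smul, ← map_mul]
    exact (S.mat_eq rfl).1
  have hb : t • a ∈ U.ln (x⁻¹ * l) := by
    rw [← U.ln_mul]
    refine ⟨p, ?_, show x⁻¹ • p = t • a by rw [hp, inv_smul_smul]⟩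
    have := hmem 1 (by rw [one_mul, mul_one])
    rwa [mul_one, hM, S.mat_spec hpB] at this
  have step : ∀ β ζ δ, β ≠ 0 → S.plane.J ζ = ζ → δ * S.plane.J δ = 1 → δ ≠ 1 → S.pf β = δ * S.pf α →
      ζ + S.ef β = z + S.ef α → ∃ q, q ∈ U.ln (x⁻¹ * l) ∧ q ∉ U.C.Bs ∧
        S.uc q = upper S.plane.J S.co.σ S.co.c S.pf S.ef α z β ζ := by
    intro β ζ δ hβ hζ hδ hδ1 hPβ hEβ
    obtain ⟨x', hx', hx'A, hx'Z⟩ := S.co.exists_pt β ζ hζ
    obtain ⟨hp'B, hp'p, hp'u⟩ := S.coords_pt hx' (hx'A ▸ hβ)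
    rw [hx'A] at hp'p hp'u
    rw [hx'Z] at hp'u
    obtain ⟨N, hN, hNι⟩ := S.plane.exists_torus hδ
    obtain ⟨h1, h2, h3⟩ := S.mat_right hpB hNι
    have hp' : U.Φ (M * N) • S.o = x' • t • a := by
      rw [hM]
      refine S.ext_pt h1 hp'B ?_ ?_
      · rw [h2, hp'u, hpu, hPβ, hEβ]; ring
      · rw [h3, hp'p, hpp, hPβ]
    obtain ⟨y, hy⟩ : ∃ y, y = x⁻¹ * x' := ⟨_, rfl⟩
    have hyQ : y ∈ Q := hy ▸ mul_mem (inv_mem hx) hx'
    have hqmem : y • t • a ∈ U.ln (x⁻¹ * l) := by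
      rw [← U.ln_mul]
      exact ⟨x' • t • a, hp' ▸ hmem N hN, by rw [hy, mul_smul]⟩
    have hne : y • t • a ≠ t • a := by
      intro e
      rw [hy, mul_smul, inv_smul_eq_iff, ← hp, ← hp'] at e
      have h4 := h3
      rw [← hM, e] at h4
      exact hδ1 (mul_right_cancel₀ (S.pc_ne (p := p)) (by rw [one_mul]; exact h4.symm))
    have hqB : y • t • a ∉ U.C.Bs := by
      intro e
      have hline := U.ln_unique (g := x⁻¹ * l) (g' := 1) hne hqmem hb (by rw [U.ln_one]; exact e)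
        (by rw [U.ln_one]; exact U.t_a_mem)
      rw [U.ln_one] at hline
      have ha : a ∈ U.ln (x⁻¹ * l) := by rw [hline]; exact .inl rfl
      rw [← U.ln_mul] at ha
      obtain ⟨c, hc, hce⟩ := ha
      have hca : c = a := by
        rw [← inv_smul_smul x⁻¹ c, show x⁻¹ • c = a from hce, inv_inv]; exact hst.le hx
      exact hoff c hc (.inl hca)
    have hyA : S.co.A y = α + β := by
      have e1 := S.co.A_mul x hx y hyQ
      rw [show x * y = x' by rw [hy, mul_inv_cancel_left], hx'A, hxA] at e1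
      linear_combination -e1 - α * S.plane.two
    have hyZ : S.co.Z y = z + quadF S.plane.J S.co.σ S.co.c α + ζ + coc S.plane.J S.co.σ S.co.c α β := by
      have e1 := S.co.Z_mul x hx y hyQ
      rw [show x * y = x' by rw [hy, mul_inv_cancel_left], hx'Z, hxZ, hxA, hyA] at e1
      simp only [quadF, coc, trJ, map_add, map_mul] at e1 ⊢
      linear_combination -e1 - (z + S.co.c * α * S.co.σ α + S.plane.J S.co.c * S.plane.J α * S.plane.J (S.co.σ α) +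
        S.co.c * α * S.co.σ β + S.plane.J S.co.c * S.plane.J α * S.plane.J (S.co.σ β)) * S.plane.two
    refine ⟨y • t • a, hqmem, hqB, ?_⟩
    have hA0 : S.co.A y ≠ 0 := fun e => hqB ((S.pt_not_mem hyQ).2 e)
    rw [(S.coords_pt hyQ hA0).2.2, hyA, hyZ, upper]
  obtain ⟨q', hq', hq'B, hq'u⟩ := step α' z' ε hα' hz' hε hε1 hP hE
  obtain ⟨q'', hq'', hq''B, hq''u⟩ := step α'' z'' ε' hα'' hz'' hε' hε'1 hP' hE'
  rw [← hq'u, ← hq''u]
  exact S.uc_const hb hq' hq'' hq'B hq''B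

theorem idHyp :
    IdHyp S.plane.J S.co.σ S.co.c S.co.ω S.plane.ρ S.ℓ S.pf S.ef where
  two := S.plane.two
  JJ := S.JJ
  Jσ x := by rw [S.plane.J_eq, S.plane.J_eq, map_pow]
  prime := S.prime
  odd := S.odd
  ω_pow := S.co.ω_pow
  ω_ne := S.co.ω_ne
  χ_pow := by
    have h : ∀ i : ℕ, ∀ r, S.plane.ι (r ᵥ* (S.τ ^ i).1) = S.plane.ρ ^ i * S.plane.ι r := by
      intro i
      induction i with
      | zero => intro r; simp
      | succ i ih =>
        intro r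
        rw [pow_succ, SL2.val_mul, ← Matrix.vecMul_vecMul, S.plane.ι_τ, ih, pow_succ]; ring
    obtain ⟨r, hr⟩ := S.plane.ι_bij.2 1
    have := h S.ℓ r
    rw [S.τ_pow, Matrix.SpecialLinearGroup.coe_one, Matrix.vecMul_one, hr, mul_one] at this
    exact this.symm
  χ_ne := S.plane.ρ_ne
  ω_J := S.co.ω_J
  χ_J := S.plane.ρ_J
  ω_σ := S.co.ω_σ
  f_ne := S.co.f_ne
  P_ne α hα := by rw [pf, if_neg hα]; exact S.pc_ne
  P_surj y hy := S.point_of hy
  P_inj α β hα hβ e := S.pf_inj hα hβ e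
  tr α hα := by
    rw [pf, ef, if_neg hα, if_neg hα, trJ, map_div₀]
    have hp := S.pc_ne (p := S.rep α • t • a)
    have hJp : S.plane.J (S.pc (S.rep α • t • a)) ≠ 0 := (map_ne_zero S.plane.J).2 hp
    field_simp
    linear_combination S.det_coord (p := S.rep α • t • a)
  P_smul lam α hlam hlam0 hα := by
    obtain ⟨r, hr, hrr, hconj⟩ := S.co.conj_real lam hlam hlam0
    obtain ⟨hxQ, hxA, hxZ⟩ := S.rep_spec α
    obtain ⟨hA, hZ⟩ := hconj _ hxQ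
    obtain ⟨x', hx'⟩ : ∃ x', x' = U.C.k r * S.rep α * (U.C.k r)⁻¹ := ⟨_, rfl⟩
    have hx'Q : x' ∈ Q := hx' ▸ U.hyp.setup.conj_mem _ (U.C.k_fix U.hyp hr).1 _ hxQ
    rw [← hx', hxA] at hA
    have e : x' • t • a = U.Φ (eD r hr) • S.rep α • t • a := by
      rw [U.map_D, hx', mul_smul, mul_smul, inv_smul_eq_iff.2 (U.C.k_fix U.hyp hr).2.symm]
    obtain ⟨-, -, h3⟩ := S.act (eD r hr) (S.rep_not hα)
    rw [← e, (S.coords_pt hx'Q (by rw [hA]; exact mul_ne_zero hlam0 hα)).2.1, hA] at h3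
    have hjr : S.plane.j r ≠ 0 := (map_ne_zero _).2 hr
    rw [h3, pf, if_neg hα, hrr]
    simp [eD, map_inv₀, map_mul]
    field_simp
  E_smul lam α hlam hα := by
    by_cases hlam0 : lam = 0
    · simp [hlam0, ef]
    obtain ⟨r, hr, hrr, hconj⟩ := S.co.conj_real lam hlam hlam0
    obtain ⟨hxQ, hxA, hxZ⟩ := S.rep_spec α
    obtain ⟨hA, hZ⟩ := hconj _ hxQ
    obtain ⟨x', hx'⟩ : ∃ x', x' = U.C.k r * S.rep α * (U.C.k r)⁻¹ := ⟨_, rfl⟩
    have hx'Q : x' ∈ Q := hx' ▸ U.hyp.setup.conj_mem _ (U.C.k_fix U.hyp hr).1 _ hxQ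
    rw [← hx', hxA] at hA
    rw [← hx', hxZ, mul_zero] at hZ
    have e : x' • t • a = U.Φ (eD r hr) • S.rep α • t • a := by
      rw [U.map_D, hx', mul_smul, mul_smul, inv_smul_eq_iff.2 (U.C.k_fix U.hyp hr).2.symm]
    obtain ⟨-, h2, h3⟩ := S.act (eD r hr) (S.rep_not hα)
    have hne : S.co.A x' ≠ 0 := by rw [hA]; exact mul_ne_zero hlam0 hα
    rw [← e, (S.coords_pt hx'Q hne).2.2, hA, hZ, zero_add] at h2
    rw [← e, (S.coords_pt hx'Q hne).2.1, hA] at h3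
    rw [h3] at h2
    have hpc := S.pc_ne (p := S.rep α • t • a)
    have hjr : S.plane.j r ≠ 0 := (map_ne_zero _).2 hr
    rw [hrr, map_mul, show S.ef α = S.uc (S.rep α • t • a) / S.pc (S.rep α • t • a) from if_neg hα]
    simp [eD, map_inv₀] at h2
    field_simp at h2 ⊢
    linear_combination h2
  P_ω α hα := by
    obtain ⟨hxQ, hxA, hxZ⟩ := S.rep_spec α
    obtain ⟨hA, -⟩ := S.co.conj_w _ hxQ
    obtain ⟨x', hx'⟩ : ∃ x', x' = S.w * S.rep α * S.w⁻¹ := ⟨_, rfl⟩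
    have hx'Q : x' ∈ Q := hx' ▸ U.hyp.setup.conj_mem _ S.w_mem.1.1.1 _ hxQ
    rw [← hx', hxA] at hA
    have e : x' • t • a = S.w • S.rep α • t • a := by
      rw [hx', mul_smul, mul_smul, inv_smul_eq_iff.2 (show t • a = S.w • t • a from S.w_mem.1.1.2.symm)]
    obtain ⟨-, -, h3⟩ := S.act_w (S.rep_not hα)
    rw [← e, (S.coords_pt hx'Q (by rw [hA]; exact mul_ne_zero (left_ne_zero_of_mul_eq_one S.co.ω_J) hα)).2.1,
      hA] at h3
    rw [h3, pf, if_neg hα]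
  E_ω α hα := by
    obtain ⟨hxQ, hxA, hxZ⟩ := S.rep_spec α
    obtain ⟨hA, hZ⟩ := S.co.conj_w _ hxQ
    obtain ⟨x', hx'⟩ : ∃ x', x' = S.w * S.rep α * S.w⁻¹ := ⟨_, rfl⟩
    have hx'Q : x' ∈ Q := hx' ▸ U.hyp.setup.conj_mem _ S.w_mem.1.1.1 _ hxQ
    rw [← hx', hxA] at hA
    rw [← hx', hxZ] at hZ
    have e : x' • t • a = S.w • S.rep α • t • a := by
      rw [hx', mul_smul, mul_smul, inv_smul_eq_iff.2 (show t • a = S.w • t • a from S.w_mem.1.1.2.symm)]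
    obtain ⟨-, h2, h3⟩ := S.act_w (S.rep_not hα)
    have hne : S.co.A x' ≠ 0 := by rw [hA]; exact mul_ne_zero (left_ne_zero_of_mul_eq_one S.co.ω_J) hα
    rw [← e, (S.coords_pt hx'Q hne).2.2, hA, hZ, zero_add] at h2
    rw [← e, (S.coords_pt hx'Q hne).2.1, hA] at h3
    rw [h3] at h2
    rw [show S.ef α = S.uc (S.rep α • t • a) / S.pc (S.rep α • t • a) from if_neg hα, eq_div_iff S.pc_ne]
    refine mul_left_cancel₀ (left_ne_zero_of_mul_eq_one S.plane.ρ_J) ?_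
    linear_combination h2
  line := S.line_property

/-- The same frame in the conjugate plane. -/
def flip : Frame U L :=
  { S with plane := S.plane.flip, co := S.co }

end Frame

end Cfsg.Lib.RankOneSuzuki
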