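import Cfsg.Agent.Lib.RankOneSuzuki.UnitaryRegular

/-!
# Suzuki's rank-one theorem, `Ww ≠ ⊥`: lines

The translates of the line `Bs` form a linear space on the points.  An element of `Ww` of prime order fixes a
second line, so some orbit of a centraliser in `SL(2, q)` off `Bs` is a line.
-/

set_option autoImplicit false
set_option linter.unusedSectionVars false
set_option linter.style.haveILetI false

namespace Cfsg.Lib.RankOneSuzuki

open Cfsg Cfsg.Lib.Linear.RankOne Matrix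

universe u v

variable {G : Type u} {Ω : Type v} [Group G] [MulAction G Ω] [Finite G] [FaithfulSMul G Ω] {a : Ω} {t : G}
  {Q : Subgroup G} {F : Type} [Field F] [Fintype F] [CharP F 2]

/-- A semilinear map of prime order with determinant-one square factor has a fixed vector. -/
theorem exists_fixed_semilinear {ℓ : ℕ} (hℓ : ℓ.Prime) (σ : F ≃+* F) (hσ : σ ≠ 1)
    (φ : (Fin 2 → F) → Fin 2 → F) (hadd : ∀ v w, φ (v + w) = φ v + φ w)
    (hsmul : ∀ (c : F) v, φ (c • v) = σ c • φ v)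
    (hdet : ∀ v w : Fin 2 → F, φ v 0 * φ w 1 + φ v 1 * φ w 0 = σ (v 0 * w 1 + v 1 * w 0))
    (hpow : ∀ v : Fin 2 → F, v ≠ 0 → ∃ c : F, φ^[ℓ] v = c • v) :
    ∃ v : Fin 2 → F, v ≠ 0 ∧ φ v = v := by
  classical
  have hsmul' : ∀ (i : ℕ) (c : F) v, φ^[i] (c • v) = (σ ^ i) c • φ^[i] v := by
    intro i
    induction i with
    | zero => intro c v; simp
    | succ i ih =>
      intro c v
      rw [Function.iterate_succ', Function.comp_apply, ih, hsmul, pow_succ']
      rfl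
  have hadd' : ∀ (i : ℕ) v w, φ^[i] (v + w) = φ^[i] v + φ^[i] w := by
    intro i
    induction i with
    | zero => simp
    | succ i ih => intro v w; simp only [Function.iterate_succ', Function.comp_apply, ih, hadd]
  have hdet' : ∀ (i : ℕ) v w, φ^[i] v 0 * φ^[i] w 1 + φ^[i] v 1 * φ^[i] w 0 =
      (σ ^ i) (v 0 * w 1 + v 1 * w 0) := by
    intro i
    induction i with
    | zero => simp
    | succ i ih =>
      intro v w
      rw [Function.iterate_succ', Function.comp_apply, Function.comp_apply, hdet, ih, pow_succ']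
      rfl
  obtain ⟨c₀, h0⟩ := hpow ![1, 0] (fun e => one_ne_zero (congrFun e 0))
  obtain ⟨c₁, h1⟩ := hpow ![0, 1] (fun e => one_ne_zero (congrFun e 1))
  have hmix : ∀ x : F, (σ ^ ℓ) x * c₀ = c₁ * x := by
    intro x
    obtain ⟨c, hc⟩ := hpow ![x, 1] (fun e => one_ne_zero (congrFun e 1))
    have e : (![x, 1] : Fin 2 → F) = x • ![1, 0] + ![0, 1] := by funext i; fin_cases i <;> simp
    rw [e, hadd', hsmul', h0, h1] at hc
    have e0 : (σ ^ ℓ) x * c₀ = c * x := by simpa using congrFun hc 0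
    have e1 : c₁ = c := by simpa using congrFun hc 1
    rw [e0, e1]
  have hc : c₁ = c₀ := by simpa using (hmix 1).symm
  have hcc : c₀ * c₀ = 1 := by
    have := hdet' ℓ ![1, 0] ![0, 1]
    rw [h0, h1, hc] at this
    simpa using this
  have hc1 : c₀ = 1 := by
    have : (c₀ - 1) * (c₀ - 1) = 0 := by linear_combination hcc - add_self₂ c₀ + add_self₂ (1 : F)
    exact sub_eq_zero.1 (mul_self_eq_zero.1 this)
  have hord : σ ^ ℓ = 1 := RingEquiv.ext fun x => by
    have := hmix x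
    rwa [hc, hc1, mul_one, one_mul] at this
  have hid : φ^[ℓ] ![1, 0] = ![1, 0] := by rw [h0, hc1, one_smul]
  haveI : Fact ℓ.Prime := ⟨hℓ⟩
  have ho : orderOf σ = ℓ := orderOf_eq_prime hord hσ
  let χ : Fin ℓ → F →* F := fun i => (σ ^ (i : ℕ)).toRingHom.toMonoidHom
  have hχ : Function.Injective χ := by
    intro i j e
    have e' : σ ^ (i : ℕ) = σ ^ (j : ℕ) := RingEquiv.ext fun x => DFunLike.congr_fun e x
    exact Fin.ext (pow_injOn_Iio_orderOf (by rw [ho]; exact i.2) (by rw [ho]; exact j.2) e')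
  have hind := (linearIndependent_monoidHom F F).comp χ hχ
  obtain ⟨x, hx⟩ : ∃ x : F, ∑ i ∈ Finset.range ℓ, φ^[i] (x • ![1, 0]) ≠ 0 := by
    by_contra hall
    push Not at hall
    have hz : ∑ i : Fin ℓ, (φ^[(i : ℕ)] ![1, 0] 0) • (fun x : F => χ i x) = 0 := by
      funext x
      have h2 := congrFun (hall x) 0
      rw [Finset.sum_apply, Pi.zero_apply] at h2
      simp only [Finset.sum_apply, Pi.smul_apply, smul_eq_mul, Pi.zero_apply]
      rw [← Fin.sum_univ_eq_sum_range (fun i => φ^[i] (x • ![1, 0]) 0)] at h2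
      refine Eq.trans ?_ h2
      refine Finset.sum_congr rfl fun i _ => ?_
      rw [hsmul', Pi.smul_apply, smul_eq_mul, mul_comm]
      rfl
    have := Fintype.linearIndependent_iff.1 hind _ hz ⟨0, hℓ.pos⟩
    simp at this
  refine ⟨_, hx, ?_⟩
  obtain ⟨f, hf⟩ : ∃ f : ℕ → Fin 2 → F, f = fun i => φ^[i] (x • ![1, 0]) := ⟨_, rfl⟩
  have hφ0 : φ 0 = 0 := by simpa using hadd 0 0
  have hsum : ∀ s : Finset ℕ, φ (∑ i ∈ s, f i) = ∑ i ∈ s, f (i + 1) := by
    intro s
    induction s using Finset.induction_on with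
    | empty => simpa using hφ0
    | insert i s hi ih =>
      rw [Finset.sum_insert hi, Finset.sum_insert hi, hadd, ih, hf]
      simp only [Function.iterate_succ', Function.comp_apply]
  have hwrap : f ℓ = f 0 := by
    rw [hf]; simp only [hsmul', hord, hid, Function.iterate_zero, id_eq]; rfl
  have hgoal : φ (∑ i ∈ Finset.range ℓ, f i) = ∑ i ∈ Finset.range ℓ, f i := by
    rw [hsum]
    have e1 := Finset.sum_range_succ f ℓ
    rw [Finset.sum_range_succ' f ℓ, hwrap] at e1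
    exact add_right_cancel e1
  rw [hf] at hgoal
  exact hgoal

namespace UData

variable (U : UData a t Q F)
include U

/-- The translate of the line by `g`. -/
def ln (g : G) : Set Ω := (g • ·) '' U.C.Bs

theorem pt_smul {c : F} (hc : c ≠ 0) (v : Fin 2 → F) : U.C.pt (c • v) = U.C.pt v := by
  by_cases h : v 1 = 0
  · rw [U.C.pt_a h, U.C.pt_a (by simp [h])]
  · rw [U.C.pt_z h, U.C.pt_z (by simp [h, hc])]
    simp [mul_div_mul_left, hc]

theorem D_pt {d : G} (hd : d ∈ Dd a t) : ∃ (w : F) (σ : F ≃+* F), w ≠ 0 ∧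
    (∀ v : Fin 2 → F, v ≠ 0 → d • U.C.pt v = U.C.pt ![w * σ (v 0), w⁻¹ * σ (v 1)]) ∧
    (σ = 1 → ∃ k' ∈ Kk a t, ∃ x ∈ Ww a t, d = k' * x) := by
  obtain ⟨w, σ, hw, hconj, hσ⟩ := U.C.semilinear d hd
  refine ⟨w, σ, hw, fun v hv => ?_, hσ⟩
  have hda : d • a = a := hd.1
  have hdb : d • t • a = t • a := hd.2
  by_cases h : v 1 = 0
  · rw [U.C.pt_a h, U.C.pt_a (by simp [h]), hda]
  · rw [U.C.pt_z h, U.C.pt_z (v := ![w * σ (v 0), w⁻¹ * σ (v 1)]) (by simp [h, hw]), smul_smul,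
      show d * U.C.z (v 0 / v 1) = U.C.z (w * w * σ (v 0 / v 1)) * d by rw [← hconj]; group, mul_smul, hdb]
    congr 2
    simp [map_div₀]
    field_simp

theorem D_Bs {d : G} (hd : d ∈ Dd a t) {p : Ω} (hp : p ∈ U.C.Bs) : d • p ∈ U.C.Bs := by
  obtain ⟨w, σ, -, h, -⟩ := U.D_pt hd
  obtain ⟨v, hv, rfl⟩ := U.C.exists_pt hp
  rw [h v hv]; exact U.C.pt_mem _

theorem two_pts {p p' : Ω} (hp : p ∈ U.C.Bs) (hp' : p' ∈ U.C.Bs) (hne : p ≠ p') :
    ∃ M, U.Φ M • a = p ∧ U.Φ M • t • a = p' := by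
  obtain ⟨v, hv, rfl⟩ := U.C.exists_pt hp
  obtain ⟨v', hv', rfl⟩ := U.C.exists_pt hp'
  obtain ⟨δ, hδ⟩ : ∃ δ, δ = v 0 * v' 1 + v 1 * v' 0 := ⟨_, rfl⟩
  have hδ0 : δ ≠ 0 := by
    intro e
    rw [hδ] at e
    apply hne
    by_cases h1 : v 1 = 0
    · have h0 : v 0 ≠ 0 := fun e0 => hv (funext fun i => by fin_cases i <;> assumption)
      rw [h1, zero_mul, add_zero] at e
      rw [U.C.pt_a h1, U.C.pt_a ((mul_eq_zero.1 e).resolve_left h0)]
    · have h1' : v' 1 ≠ 0 := fun e1 => hv' (funext fun i => by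
        fin_cases i
        · rw [e1, mul_zero, zero_add] at e; exact (mul_eq_zero.1 e).resolve_left h1
        · exact e1)
      rw [U.C.pt_z h1, U.C.pt_z h1']
      congr 2
      rw [div_eq_div_iff h1 h1']
      linear_combination e - add_self₂ (v 1 * v' 0)
  have hdet : (!![v 0, v' 0 / δ; v 1, v' 1 / δ] : Matrix (Fin 2) (Fin 2) F).det = 1 := by
    rw [Matrix.det_fin_two_of]
    field_simp
    linear_combination -hδ + add_self₂ (v 1 * v' 0) - add_self₂ (v 1 * v' 0) + (0 : F) -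
      add_self₂ (v 1 * v' 0)
  obtain ⟨N, hN⟩ : ∃ N : SL2 F, N.1 = !![v 0, v' 0 / δ; v 1, v' 1 / δ] := ⟨⟨_, hdet⟩, rfl⟩
  refine ⟨N, ?_, ?_⟩
  · have hh := U.rep N ![1, 0] (fun e => one_ne_zero (congrFun e 0))
    rw [U.C.pt_a (v := ![1, 0]) (by simp)] at hh
    rw [hh]
    congr 1
    rw [hN]
    funext i; fin_cases i <;> simp [Matrix.mulVec, dotProduct, Fin.sum_univ_two]
  · have e : t • a = U.C.pt ![0, 1] := by rw [U.C.pt_z (v := ![0, 1]) (by simp)]; simp [U.C.z_zero]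
    rw [e, U.rep _ _ (fun e => one_ne_zero (congrFun e 1)),
      show (N.1 *ᵥ ![0, 1]) = δ⁻¹ • v' by
        rw [hN]
        funext i; fin_cases i <;> simp [Matrix.mulVec, dotProduct, Fin.sum_univ_two] <;> field_simp,
      U.pt_smul (inv_ne_zero hδ0)]

theorem ln_mul (g g' : G) : (g • ·) '' U.ln g' = U.ln (g * g') := by
  simp only [ln, Set.image_image, mul_smul]

theorem ln_one : U.ln 1 = U.C.Bs := by simp [ln]

theorem mem_ln {g : G} {p : Ω} : p ∈ U.ln g ↔ g⁻¹ • p ∈ U.C.Bs := by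
  constructor
  · rintro ⟨q, hq, rfl⟩; rwa [inv_smul_smul]
  · exact fun h => ⟨_, h, smul_inv_smul g p⟩

theorem ln_eq_of_mapsTo {g : G} (h : ∀ p ∈ U.C.Bs, g • p ∈ U.C.Bs) : U.ln g = U.C.Bs := by
  haveI := finite_pts U.hyp.setup
  refine Set.eq_of_subset_of_ncard_le (by rintro _ ⟨p, hp, rfl⟩; exact h p hp) ?_ (Set.toFinite _)
  rw [ln, Set.ncard_image_of_injective _ (MulAction.injective g)]

theorem ln_map (M : SL2 F) : U.ln (U.Φ M) = U.C.Bs := U.ln_eq_of_mapsTo fun _ hp => U.map_mem_Bs M hp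

theorem ln_D {d : G} (hd : d ∈ Dd a t) : U.ln d = U.C.Bs := U.ln_eq_of_mapsTo fun _ hp => U.D_Bs hd hp

/-- The only line through `a` and `t • a`. -/
theorem ln_eq_Bs {g : G} (ha : a ∈ U.ln g) (hb : t • a ∈ U.ln g) : U.ln g = U.C.Bs := by
  rw [U.mem_ln] at ha hb
  obtain ⟨M, hM1, hM2⟩ := U.two_pts ha hb fun e => smul_ne U.hyp.setup (MulAction.injective g⁻¹ e).symm
  have hd : g * U.Φ M ∈ Dd a t := ⟨show _ • a = a by rw [mul_smul, hM1, smul_inv_smul],
    show _ • t • a = t • a by rw [mul_smul, hM2, smul_inv_smul]⟩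
  conv_rhs => rw [← U.ln_D hd]
  rw [← U.ln_mul, U.ln_map]
  rfl

theorem ln_unique {g g' : G} {p p' : Ω} (hne : p ≠ p') (h1 : p ∈ U.ln g) (h2 : p' ∈ U.ln g)
    (h3 : p ∈ U.ln g') (h4 : p' ∈ U.ln g') : U.ln g = U.ln g' := by
  obtain ⟨h, ha, hb⟩ := exists_pair U.hyp.setup hne (smul_ne U.hyp.setup).symm
  have key : ∀ g, p ∈ U.ln g → p' ∈ U.ln g → (h • ·) '' U.ln g = U.C.Bs := by
    intro g h1 h2
    rw [U.ln_mul]
    refine U.ln_eq_Bs ?_ ?_
    · rw [← U.ln_mul]; exact ⟨p, h1, ha⟩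
    · rw [← U.ln_mul]; exact ⟨p', h2, hb⟩
  exact (MulAction.injective h).image_injective ((key g h1 h2).trans (key g' h3 h4).symm)

theorem exists_ln {p p' : Ω} (hne : p ≠ p') : ∃ g, p ∈ U.ln g ∧ p' ∈ U.ln g := by
  obtain ⟨g, ha, hb⟩ := exists_pair U.hyp.setup (smul_ne U.hyp.setup).symm hne
  exact ⟨g, ⟨a, .inl rfl, ha⟩, ⟨t • a, U.t_a_mem, hb⟩⟩

/-- A line through `a` is the translate of `Bs` by an element of `Q`. -/
theorem ln_through_a {g : G} (ha : a ∈ U.ln g) : ∃ x ∈ Q, U.ln g = U.ln x := by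
  rw [U.mem_ln] at ha
  have hex : ∃ p' ∈ U.C.Bs, g⁻¹ • a ≠ p' := by
    by_cases h : g⁻¹ • a = a
    · exact ⟨t • a, U.t_a_mem, by rw [h]; exact (smul_ne U.hyp.setup).symm⟩
    · exact ⟨a, .inl rfl, h⟩
  obtain ⟨p', hp', hne⟩ := hex
  obtain ⟨M, hM1, -⟩ := U.two_pts ha hp' hne
  obtain ⟨x, hx, d, hd, e⟩ := decomp U.hyp.setup
    (show g * U.Φ M ∈ MulAction.stabilizer G a from show _ • a = a by rw [mul_smul, hM1, smul_inv_smul])
  refine ⟨x, hx, ?_⟩
  calc U.ln g = U.ln (g * U.Φ M) := by rw [← U.ln_mul, U.ln_map]; rfl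
    _ = U.ln x := by rw [e, ← U.ln_mul, U.ln_D hd]; rfl

/-- A line through a point of `Bs` invariant under a non-trivial element of `Ww` is `Bs`. -/
theorem ln_inv_eq_Bs {w : G} (hw : w ∈ Ww a t) (hw1 : w ≠ 1) {g : G} (hg : U.ln (w * g) = U.ln g) {p : Ω}
    (hp : p ∈ U.ln g) (hpB : p ∈ U.C.Bs) : U.ln g = U.C.Bs := by
  have h := U.hyp
  have hex : ∃ p' ∈ U.C.Bs, p ≠ p' := by
    by_cases e : p = a
    · exact ⟨t • a, U.t_a_mem, by rw [e]; exact (smul_ne h.setup).symm⟩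
    · exact ⟨a, .inl rfl, e⟩
  obtain ⟨p', hp', hne⟩ := hex
  obtain ⟨M, hM, -⟩ := U.two_pts hpB hp' hne
  have hgM : U.ln ((U.Φ M)⁻¹ * g) = U.C.Bs := by
    obtain ⟨x, hx, hxe⟩ := U.ln_through_a (g := (U.Φ M)⁻¹ * g)
      (by rw [← U.ln_mul]; exact ⟨p, hp, show (U.Φ M)⁻¹ • p = a by rw [← hM, inv_smul_smul]⟩)
    have hwx : U.ln (w * x) = U.ln x := by
      rw [← U.ln_mul, ← hxe, U.ln_mul, ← mul_assoc, (U.comm_W hw M).inv_right.eq, mul_assoc, ← U.ln_mul,
        hg, U.ln_mul]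
    have hmem : (w * x * w⁻¹) • t • a ∈ U.ln x := by
      rw [← hwx]
      exact ⟨t • a, U.t_a_mem, by
        show (w * x) • t • a = _
        rw [mul_smul (w * x), show w⁻¹ • t • a = t • a from ((Dd a t).inv_mem hw.1.1).2]⟩
    obtain ⟨q, hq, hqe⟩ := hmem
    have hqe' : x • q = (w * x * w⁻¹) • t • a := hqe
    have hxw : w * x * w⁻¹ ∈ Q := h.setup.conj_mem w hw.1.1.1 x hx
    rcases hq with rfl | ⟨y, rfl⟩
    · exact absurd hqe'.symm (by
        rw [show x • q = q from h.setup.le hx]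
        exact smul_ne_of_ne h.setup hxw (smul_ne h.setup))
    · rw [smul_smul] at hqe'
      have e := eq_of_smul h.setup (mul_mem hx (U.C.z_mem_Q h y)) hxw (smul_ne h.setup) hqe'
      have hxc : w * x = x * w := h.commute_of_coset (h.twoSub_self U.isP) hw hx (by
        rw [← e, inv_mul_cancel_left]; exact U.C.z_mem y)
      obtain ⟨y', hy'⟩ := U.C.z_surj x (h.mem_Zz_of_commute U.isP hw hw1 hx hxc)
      rw [hxe, ← hy', ← U.map_U, U.ln_map]
  calc U.ln g = U.ln (U.Φ M * ((U.Φ M)⁻¹ * g)) := by rw [mul_inv_cancel_left]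
    _ = U.C.Bs := by rw [← U.ln_mul, hgM]; exact U.ln_map M

theorem card_ln (g : G) : Nat.card (U.ln g) = 2 ^ U.n + 1 := by
  rw [ln, Nat.card_image_of_injective (MulAction.injective g), U.card_Bs, U.card]

/-- The number of lines times `q (q + 1)` is the number of ordered pairs of distinct points. -/
theorem count_lines : Nat.card (Set.range U.ln) * ((2 ^ U.n + 1) * 2 ^ U.n) =
    ((2 ^ U.n) ^ 3 + 1) * (2 ^ U.n) ^ 3 := by
  classical
  haveI := finite_pts U.hyp.setup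
  haveI := Fintype.ofFinite Ω
  haveI := Fintype.ofFinite (Set.range U.ln)
  have hoff : ∀ s : Finset Ω, s.offDiag.card = s.card * (s.card - 1) := fun s => by
    rw [Finset.offDiag_card, Nat.mul_sub, mul_one]
  have hcard : ∀ l : Set.range U.ln, (l : Set Ω).toFinset.card = 2 ^ U.n + 1 := by
    rintro ⟨_, g, rfl⟩
    rw [Set.toFinset_card, ← Nat.card_eq_fintype_card]; exact U.card_ln g
  have e : ((Finset.univ : Finset (Set.range U.ln)).biUnion fun l => (l : Set Ω).toFinset.offDiag) =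
      (Finset.univ : Finset Ω).offDiag := by
    ext ⟨p, p'⟩
    simp only [Finset.mem_biUnion, Finset.mem_univ, true_and, Finset.mem_offDiag, Set.mem_toFinset]
    refine ⟨fun ⟨l, _, _, hne⟩ => hne, fun hne => ?_⟩
    obtain ⟨g, h1, h2⟩ := U.exists_ln hne
    exact ⟨⟨_, g, rfl⟩, h1, h2, hne⟩
  have hdis : ((Finset.univ : Finset (Set.range U.ln)) : Set (Set.range U.ln)).PairwiseDisjoint
      fun l => (l : Set Ω).toFinset.offDiag := by
    rintro ⟨_, g, rfl⟩ - ⟨_, g', rfl⟩ - hne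
    refine Finset.disjoint_left.2 fun x hx hx' => hne (Subtype.ext ?_)
    simp only [Finset.mem_offDiag, Set.mem_toFinset] at hx hx'
    exact U.ln_unique hx.2.2 hx.1 hx.2.1 hx'.1 hx'.2.1
  have h := congrArg Finset.card e
  rw [Finset.card_biUnion hdis, hoff, Finset.card_univ, ← Nat.card_eq_fintype_card, U.card_pts,
    Nat.add_sub_cancel] at h
  simp only [hoff, hcard, Nat.add_sub_cancel, Finset.sum_const, Finset.card_univ, smul_eq_mul] at h
  rw [Nat.card_eq_fintype_card]; exact h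

/-- An element of `Ww` of prime order for which an orbit of its centraliser in `SL(2, q)` is a line. -/
theorem exists_good : ∃ (o : Ω) (w : G) (τ : SL2 F) (ℓ : ℕ) (g : G), w ∈ Ww a t ∧ w ≠ 1 ∧ w ^ ℓ = 1 ∧
    ℓ.Prime ∧ Odd ℓ ∧ ℓ ∣ 2 ^ U.n + 1 ∧ o ∉ U.C.Bs ∧ w • o = U.Φ τ • o ∧
    U.ln g = {p | ∃ M, M * τ = τ * M ∧ U.Φ M • o = p} := by
  classical
  have h := U.hyp
  haveI := finite_pts h.setup
  obtain ⟨-, hWq⟩ := h.card_Q_cube U.isP U.ne_bot
  rw [U.card_Zz] at hWq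
  obtain ⟨ℓ, hℓ, hℓd⟩ := Nat.exists_prime_and_dvd (n := Nat.card (Ww a t)) (fun e => U.ne_bot
    (Subgroup.eq_bot_of_card_eq _ e))
  haveI : Fact ℓ.Prime := ⟨hℓ⟩
  obtain ⟨⟨w₀, hw₀⟩, ho⟩ := exists_prime_orderOf_dvd_card' (G := Ww a t) ℓ hℓd
  rw [← Subgroup.orderOf_coe] at ho
  have ho' : orderOf w₀ = ℓ := ho
  have hw₀1 : w₀ ≠ 1 := fun e => hℓ.ne_one (by rw [← ho', e, orderOf_one])
  have hodd : Odd ℓ := Odd.of_dvd_nat h.setup.odd_card (ho' ▸ Subgroup.orderOf_dvd_natCard _ hw₀.1.1)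
  have hℓq : ℓ ∣ 2 ^ U.n + 1 := hℓd.trans hWq
  -- a second invariant line
  have hex : ∃ g, U.ln (w₀ * g) = U.ln g ∧ U.ln g ≠ U.C.Bs := by
    letI : MulAction (Subgroup.zpowers w₀) (Set.range U.ln) :=
      { smul := fun x l => ⟨((x : G) • ·) '' (l : Set Ω), by
          obtain ⟨g, hg⟩ := l.2
          exact ⟨x * g, by rw [← hg, U.ln_mul]⟩⟩
        one_smul := fun l => Subtype.ext (show _ '' _ = _ by simp)
        mul_smul := fun x y l => Subtype.ext (show _ '' _ = _ '' (_ '' _) by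
          simp [Set.image_image, mul_smul]) }
    have hP : IsPGroup ℓ (Subgroup.zpowers w₀) :=
      IsPGroup.of_card (n := 1) (by rw [Nat.card_zpowers, ho', pow_one])
    have hmod := hP.card_modEq_card_fixedPoints (Set.range U.ln)
    by_contra hall
    push Not at hall
    have hsub : ∀ l : MulAction.fixedPoints (Subgroup.zpowers w₀) (Set.range U.ln),
        ((l : Set.range U.ln) : Set Ω) = U.C.Bs := by
      rintro ⟨⟨_, g, rfl⟩, hl⟩
      refine hall g ?_
      have := congrArg Subtype.val (hl ⟨w₀, Subgroup.mem_zpowers w₀⟩)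
      rw [← U.ln_mul]
      exact this
    haveI : Subsingleton (MulAction.fixedPoints (Subgroup.zpowers w₀) (Set.range U.ln)) :=
      ⟨fun l l' => Subtype.ext (Subtype.ext ((hsub l).trans (hsub l').symm))⟩
    have hle := Finite.card_le_one_iff_subsingleton.2
      (inferInstance : Subsingleton (MulAction.fixedPoints (Subgroup.zpowers w₀) (Set.range U.ln)))
    have h1 := (ZMod.natCast_eq_natCast_iff _ _ ℓ).2 hmod
    have h2 := congrArg (Nat.cast : ℕ → ZMod ℓ) U.count_lines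
    have hq : ((2 ^ U.n : ℕ) : ZMod ℓ) = -1 := by
      have := (ZMod.natCast_eq_zero_iff _ _ |>.2 hℓq : ((2 ^ U.n + 1 : ℕ) : ZMod ℓ) = 0)
      push_cast at this ⊢
      linear_combination this
    obtain ⟨b, hb⟩ : ∃ b, b = Nat.card (Set.range U.ln) := ⟨_, rfl⟩
    rw [← hb] at h1
    have hfac : b * 1 = (2 ^ U.n) ^ 2 * ((2 ^ U.n) ^ 2 - 2 ^ U.n + 1) := by
      have h3 := U.count_lines
      rw [← hb] at h3
      obtain ⟨q, hq'⟩ : ∃ q, q = 2 ^ U.n := ⟨_, rfl⟩
      rw [← hq'] at h3 ⊢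
      have hle : q ≤ q ^ 2 := Nat.le_self_pow two_ne_zero q
      have hq0 : 0 < (q + 1) * q := Nat.mul_pos (by omega) (hq' ▸ Nat.two_pow_pos _)
      refine Nat.eq_of_mul_eq_mul_right hq0 ?_
      rw [mul_one, h3]
      zify [hle]; ring
    have h3 : (b : ZMod ℓ) = 3 := by
      have e := congrArg (Nat.cast : ℕ → ZMod ℓ) hfac
      have hle : 2 ^ U.n ≤ (2 ^ U.n) ^ 2 := Nat.le_self_pow two_ne_zero _
      rw [Nat.mul_one] at e
      rw [e, Nat.cast_mul, Nat.cast_add, Nat.cast_sub hle, Nat.cast_pow, hq]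
      norm_num
    rw [h3] at h1
    obtain ⟨c, hc⟩ : ∃ c, c = Nat.card (MulAction.fixedPoints (Subgroup.zpowers w₀) (Set.range U.ln)) :=
      ⟨_, rfl⟩
    rw [← hc] at hle h1
    have h1' : (1 : ℕ) = 1 := rfl
    interval_cases c
    · -- no fixed line
      have : IsEmpty (MulAction.fixedPoints (Subgroup.zpowers w₀) (Set.range U.ln)) :=
        Finite.card_eq_zero_iff.1 hc.symm
      refine this.false ⟨⟨U.ln 1, 1, rfl⟩, fun x => Subtype.ext ?_⟩
      show ((x : G) • ·) '' U.ln 1 = U.ln 1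
      rw [U.ln_mul, mul_one, U.ln_one]
      obtain ⟨i, hi⟩ := x.2
      exact U.ln_D (hi ▸ (Dd a t).zpow_mem hw₀.1.1 i)
    · have h2' : ((2 : ℕ) : ZMod ℓ) = 0 := by push_cast; linear_combination h1
      have := Nat.le_of_dvd two_pos ((ZMod.natCast_eq_zero_iff _ _).1 h2')
      obtain ⟨m, hm⟩ := hodd
      have := hℓ.two_le
      omega
  obtain ⟨g, hg, hgB⟩ := hex
  have hdisj : ∀ p ∈ U.ln g, p ∉ U.C.Bs := fun p hp hpB => hgB (U.ln_inv_eq_Bs hw₀ hw₀1 hg hp hpB)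
  obtain ⟨w', hw'⟩ : ∃ w', w' = g⁻¹ * w₀ * g := ⟨_, rfl⟩
  have hw'B : ∀ p ∈ U.C.Bs, w' • p ∈ U.C.Bs := by
    intro p hp
    have : (w₀ * g) • p ∈ U.ln g := hg ▸ ⟨p, hp, rfl⟩
    rw [U.mem_ln, smul_smul, ← mul_assoc, ← hw'] at this
    exact this
  have hw'fix : ∀ p : Ω, w' • p = p ↔ g • p ∈ U.C.Bs := by
    intro p
    rw [← U.W_fix hw₀ hw₀1, hw', mul_smul, mul_smul, inv_smul_eq_iff]
  have hw'free : ∀ p ∈ U.C.Bs, w' • p ≠ p := fun p hp e =>
    hdisj (g • p) ⟨p, hp, rfl⟩ ((hw'fix p).1 e)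
  have hw'pow : w' ^ ℓ = 1 := by
    have : w' ^ ℓ = g⁻¹ * w₀ ^ ℓ * g := by
      have e : ∀ i : ℕ, w' ^ i = g⁻¹ * w₀ ^ i * g := fun i => by
        induction i with
        | zero => simp
        | succ i ih => rw [pow_succ, ih, hw', pow_succ]; group
      exact e ℓ
    rw [this, ← ho', pow_orderOf_eq_one]; group
  -- decomposition in the stabiliser of the line
  obtain ⟨M, hMa, hMb⟩ := U.two_pts (hw'B a (.inl rfl)) (hw'B _ U.t_a_mem)
    fun e => smul_ne h.setup (MulAction.injective w' e).symm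
  have hd : (U.Φ M)⁻¹ * w' ∈ Dd a t := by
    refine ⟨show _ • a = a from ?_, show _ • t • a = t • a from ?_⟩
    · rw [mul_smul, inv_smul_eq_iff]; exact hMa.symm
    · rw [mul_smul, inv_smul_eq_iff]; exact hMb.symm
  obtain ⟨r, σ, hr, hdpt, hσ⟩ := U.D_pt hd
  by_cases hσ1 : σ = 1
  swap
  · -- a fixed point on the line
    exfalso
    obtain ⟨φ, hφ⟩ : ∃ φ : (Fin 2 → F) → Fin 2 → F, φ = fun v => M.1 *ᵥ ![r * σ (v 0), r⁻¹ * σ (v 1)] :=
      ⟨_, rfl⟩
    have hφne : ∀ v, v ≠ 0 → φ v ≠ 0 := fun v hv => by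
      rw [hφ]
      refine Crd.mem_SL_ne_zero M fun e => hv (funext fun i => ?_)
      have e0 := congrFun e 0
      have e1 := congrFun e 1
      simp [hr] at e0 e1
      fin_cases i <;> assumption
    have hpt : ∀ v, v ≠ 0 → w' • U.C.pt v = U.C.pt (φ v) := by
      intro v hv
      have e : w' • U.C.pt v = U.Φ M • U.C.pt ![r * σ (v 0), r⁻¹ * σ (v 1)] := by
        rw [← hdpt v hv, smul_smul, mul_inv_cancel_left]
      rw [e, hφ]
      refine U.rep M _ fun e => hv (funext fun i => ?_)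
      have e0 := congrFun e 0
      have e1 := congrFun e 1
      simp [hr] at e0 e1
      fin_cases i <;> assumption
    have hpti : ∀ (i : ℕ) v, v ≠ 0 → φ^[i] v ≠ 0 ∧ (w' ^ i) • U.C.pt v = U.C.pt (φ^[i] v) := by
      intro i
      induction i with
      | zero => intro v hv; simp [hv]
      | succ i ih =>
        intro v hv
        obtain ⟨h1, h2⟩ := ih v hv
        rw [Function.iterate_succ', Function.comp_apply, pow_succ', mul_smul, h2, hpt _ h1]
        exact ⟨hφne _ h1, rfl⟩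
    obtain ⟨v, hv, hvf⟩ := exists_fixed_semilinear hℓ σ hσ1 φ
      (fun v w => by
        rw [hφ, ← Matrix.mulVec_add]; congr 1; funext i; fin_cases i <;> simp [mul_add])
      (fun c v => by
        rw [hφ, ← Matrix.mulVec_smul]; congr 1; funext i; fin_cases i <;> simp [mul_left_comm])
      (fun v w => by
        have hd := SL2.det_eq M
        simp only [hφ, Matrix.mulVec, dotProduct, Fin.sum_univ_two, Matrix.cons_val_zero,
          Matrix.cons_val_one, map_add, map_mul]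
        field_simp
        linear_combination (r ^ 2 * (σ (v 0) * σ (w 1) + σ (v 1) * σ (w 0))) * hd * 0 +
          (σ (v 0) * σ (w 1) + σ (v 1) * σ (w 0)) * r ^ 2 * hd +
          add_self₂ (M.1 0 0 * M.1 1 0 * r ^ 4 * σ (v 0) * σ (w 0)) +
          add_self₂ (M.1 0 1 * M.1 1 1 * σ (v 1) * σ (w 1)))
      (fun v hv => by
        obtain ⟨h1, h2⟩ := hpti ℓ v hv
        rw [hw'pow, one_smul] at h2
        by_cases hv1 : v 1 = 0
        · have hv0 : v 0 ≠ 0 := fun e => hv (funext fun i => by fin_cases i <;> assumption)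
          refine ⟨φ^[ℓ] v 0 / v 0, funext fun i => ?_⟩
          have h11 : φ^[ℓ] v 1 = 0 := by
            by_contra hne
            rw [U.C.pt_a hv1, U.C.pt_z hne] at h2
            exact U.C.z_ne_a h _ h2.symm
          fin_cases i <;> simp [h11, hv1, hv0]
        · have h11 : φ^[ℓ] v 1 ≠ 0 := fun e => by
            rw [U.C.pt_a e, U.C.pt_z hv1] at h2
            exact U.C.z_ne_a h _ h2
          rw [U.C.pt_z hv1, U.C.pt_z h11] at h2
          have e := U.C.z_inj_pt h h2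
          rw [div_eq_div_iff hv1 h11] at e
          refine ⟨φ^[ℓ] v 1 / v 1, funext fun i => ?_⟩
          fin_cases i
          · simp; field_simp; linear_combination -e
          · simp [hv1])
    exact hw'free _ (U.C.pt_mem v) (by rw [hpt v hv, hvf])
  obtain ⟨k', hk', w, hw, hde⟩ := hσ hσ1
  obtain ⟨rk, hrk, hke⟩ := U.C.k_surj k' hk'
  obtain ⟨N, hN⟩ : ∃ N, N = M * eD rk hrk := ⟨_, rfl⟩
  have hw'e : w' = U.Φ N * w := by
    rw [hN, map_mul, U.map_D, hke, mul_assoc, ← hde, mul_inv_cancel_left]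
  -- a point of the fixed line off `Bs`
  obtain ⟨o, ho⟩ : ∃ o, o = g⁻¹ • a := ⟨_, rfl⟩
  have hoB : o ∉ U.C.Bs := fun e => hw'free o e ((hw'fix o).2 (by rw [ho, smul_inv_smul]; exact .inl rfl))
  have how : w' • o = o := (hw'fix o).2 (by rw [ho, smul_inv_smul]; exact .inl rfl)
  have hw1 : w ≠ 1 := by
    intro e
    rw [hw'e, e, mul_one] at how
    refine hw₀1 ?_
    have : w' = 1 := by rw [hw'e, e, U.semiregular hoB how, map_one, mul_one]
    calc w₀ = g * w' * g⁻¹ := by rw [hw']; group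
      _ = 1 := by rw [this]; group
  have hNo : U.Φ N⁻¹ • o = w • o := by
    rw [map_inv, inv_smul_eq_iff, smul_smul, ← hw'e, how]
  have hwℓ : w ^ ℓ = 1 := by
    have e := hw'pow
    rw [hw'e, (U.comm_W hw N).symm.mul_pow, ← map_pow] at e
    have hrep : ∀ v : Fin 2 → F, v ≠ 0 → U.Φ (N ^ ℓ) • U.C.pt v = U.C.pt v := by
      intro v _
      have hfix : ∀ i : ℕ, (w ^ i) • U.C.pt v = U.C.pt v := fun i => by
        induction i with
        | zero => simp
        | succ i ih => rw [pow_succ', mul_smul, ih, (U.W_fix hw hw1 _).2 (U.C.pt_mem v)]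
      rw [eq_inv_of_mul_eq_one_left e, inv_smul_eq_iff, hfix]
    have h1 : U.Φ (N ^ ℓ) = 1 := U.C.eq_one_of_rep h (U.mem _) fun v hv => by
      rw [hrep v hv, Matrix.SpecialLinearGroup.coe_one, Matrix.one_mulVec]
    rwa [h1, one_mul] at e
  refine ⟨o, w, N⁻¹, ℓ, g⁻¹, hw, hw1, hwℓ, hℓ, hodd, hℓq, hoB, hNo.symm, ?_⟩
  ext p
  rw [U.mem_ln, inv_inv, Set.mem_setOf_eq, ← hw'fix]
  constructor
  · intro hp
    have hpB : p ∉ U.C.Bs := fun e => hw'free p e hp
    obtain ⟨M', hM', -⟩ := U.regular hoB hpB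
    refine ⟨M', ?_, hM'⟩
    have e2 : U.Φ (N * M' * N⁻¹) • o = U.Φ M' • o := by
      rw [map_mul, map_mul, mul_smul, mul_smul, hNo, smul_smul (U.Φ M'), ← (U.comm_W hw M').eq, mul_smul,
        smul_smul (U.Φ N), ← hw'e, hM', hp]
    have e3 : N * M' * N⁻¹ = M' := (U.regular hoB hpB).unique (e2.trans hM') hM'
    rw [eq_inv_mul_iff_mul_eq, ← mul_assoc, e3]
  · rintro ⟨M', hc, rfl⟩
    have e3 : N * M' * N⁻¹ = M' := by rw [mul_assoc, hc, mul_inv_cancel_left]
    calc w' • U.Φ M' • o = U.Φ N • U.Φ M' • w • o := by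
          rw [hw'e, mul_smul, smul_smul w, (U.comm_W hw M').eq, mul_smul]
      _ = U.Φ (N * M' * N⁻¹) • o := by rw [← hNo, smul_smul, smul_smul, map_mul, map_mul, mul_assoc]
      _ = _ := by rw [e3]

end UData

end Cfsg.Lib.RankOneSuzuki
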