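import Cfsg.Agent.Lib.RankOneSuzuki.UnitaryCrd
import Cfsg.Agent.Lib.Linear.GLTwo

/-!
# Suzuki's rank-one theorem, `Ww ≠ ⊥`: the subgroup `SL(2, q)` on a line and off it

The involutions of the point stabiliser and `t` generate a copy of `SL(2, q)`; it acts on the `q + 1` points of
`Bs` as on the projective line and regularly on the other points.
-/

set_option autoImplicit false
set_option linter.unusedSectionVars false
set_option linter.style.haveILetI false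

namespace Cfsg.Lib.RankOneSuzuki

open Cfsg Cfsg.Lib.Linear.RankOne Matrix

universe u v

variable {G : Type u} {Ω : Type v} [Group G] [MulAction G Ω] {a : Ω} {t : G} {Q : Subgroup G}
  {F : Type} [Field F]

/-- Special linear group of degree two. -/
abbrev SL2 (F : Type) [Field F] := Matrix.SpecialLinearGroup (Fin 2) F

namespace Crd

variable (C : Crd a t F)

open scoped Classical in
/-- The point of a vector. -/
noncomputable def pt (v : Fin 2 → F) : Ω := if v 1 = 0 then a else C.z (v 0 / v 1) • t • a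

/-- The line through `a` and `t • a`. -/
def Bs : Set Ω := {p | p = a ∨ ∃ x, p = C.z x • t • a}

/-- `g` acts on the line as the matrix `M`. -/
def Rep (g : G) (M : SL2 F) : Prop :=
  ∀ v : Fin 2 → F, v ≠ 0 → g • C.pt v = C.pt ((M : Matrix (Fin 2) (Fin 2) F) *ᵥ v)

theorem pt_a {v : Fin 2 → F} (h : v 1 = 0) : C.pt v = a := if_pos h

theorem pt_z {v : Fin 2 → F} (h : v 1 ≠ 0) : C.pt v = C.z (v 0 / v 1) • t • a := if_neg h

theorem pt_mem (v : Fin 2 → F) : C.pt v ∈ C.Bs := by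
  by_cases h : v 1 = 0
  · exact .inl (C.pt_a h)
  · exact .inr ⟨_, C.pt_z h⟩

theorem exists_pt {p : Ω} (hp : p ∈ C.Bs) : ∃ v : Fin 2 → F, v ≠ 0 ∧ C.pt v = p := by
  rcases hp with rfl | ⟨x, rfl⟩
  · exact ⟨![1, 0], fun e => one_ne_zero (congrFun e 0), C.pt_a (by simp)⟩
  · exact ⟨![x, 1], fun e => one_ne_zero (congrFun e 1), by rw [C.pt_z (by simp)]; simp⟩

theorem z_zero : C.z 0 = 1 := by
  have := C.z_add 0 0
  rw [add_zero] at this
  exact left_eq_mul.1 this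

theorem k_one : C.k 1 = 1 := by
  have := C.k_mul 1 1 one_ne_zero one_ne_zero
  rw [mul_one] at this
  exact left_eq_mul.1 this

theorem k_inv {r : F} (hr : r ≠ 0) : C.k r⁻¹ = (C.k r)⁻¹ := by
  refine eq_inv_of_mul_eq_one_left ?_
  rw [← C.k_mul _ _ (inv_ne_zero hr) hr, inv_mul_cancel₀ hr, C.k_one]

theorem mem_SL_ne_zero {v : Fin 2 → F} (M : SL2 F) (hv : v ≠ 0) :
    (M : Matrix (Fin 2) (Fin 2) F) *ᵥ v ≠ 0 := by
  intro e
  apply hv
  have := congrArg (((M⁻¹ : SL2 F) : Matrix (Fin 2) (Fin 2) F) *ᵥ ·) e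
  simp only [Matrix.mulVec_mulVec, ← Matrix.SpecialLinearGroup.coe_mul, inv_mul_cancel,
    Matrix.SpecialLinearGroup.coe_one, Matrix.one_mulVec, Matrix.mulVec_zero] at this
  exact this

theorem Rep.mul {g g' : G} {M M' : SL2 F} (hg : C.Rep g M) (hg' : C.Rep g' M') :
    C.Rep (g * g') (M * M') := fun v hv => by
  rw [mul_smul, hg' v hv, hg _ (mem_SL_ne_zero M' hv), Matrix.mulVec_mulVec]
  rfl

end Crd

section

variable [CharP F 2]

theorem add_self₂ (x : F) : x + x = 0 := CharTwo.add_self_eq_zero x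

/-- Upper unitriangular matrix. -/
def eU (x : F) : SL2 F := ⟨!![1, x; 0, 1], by simp [Matrix.det_fin_two]⟩

/-- Diagonal matrix. -/
def eD (r : F) (hr : r ≠ 0) : SL2 F := ⟨!![r, 0; 0, r⁻¹], by simp [Matrix.det_fin_two, hr]⟩

/-- The anti-diagonal matrix. -/
def eT : SL2 F := ⟨!![0, 1; 1, 0], by simp [Matrix.det_fin_two, CharTwo.neg_eq]⟩

theorem SL2.val_mul (A B : SL2 F) : (A * B).1 = A.1 * B.1 := rfl

theorem SL2.det_eq (M : SL2 F) : M.1 0 0 * M.1 1 1 + M.1 0 1 * M.1 1 0 = 1 := by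
  have := M.2
  rw [Matrix.det_fin_two] at this
  linear_combination this + add_self₂ (M.1 0 1 * M.1 1 0)

theorem SL2.diag_ne_zero (M : SL2 F) (h : M.1 1 0 = 0) : M.1 0 0 ≠ 0 ∧ M.1 1 1 = (M.1 0 0)⁻¹ := by
  have := SL2.det_eq M
  rw [h, mul_zero, add_zero] at this
  exact ⟨left_ne_zero_of_mul_eq_one this, eq_inv_of_mul_eq_one_right this⟩

variable [Finite G] [FaithfulSMul G Ω] (h : Hyp G Ω a t Q) (C : Crd a t F)
include h

theorem Crd.z_self (x : F) : C.z x * C.z x = 1 := (h.mem_Zz.1 (C.z_mem x)).2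

theorem Crd.z_inv (x : F) : (C.z x)⁻¹ = C.z x := inv_eq_of_mul_eq_one_left (C.z_self h x)

theorem Crd.z_mem_Q (x : F) : C.z x ∈ Q := h.Zz_le (C.z_mem x)

theorem Crd.z_fix_a (x : F) : C.z x • a = a := (h.mem_Zz.1 (C.z_mem x)).1

theorem Crd.k_fix {r : F} (hr : r ≠ 0) : C.k r • a = a ∧ C.k r • t • a = t • a :=
  h.Kk_le (C.k_mem r hr)

theorem Crd.k_z {r : F} (hr : r ≠ 0) (x : F) : C.k r * C.z x = C.z (r * r * x) * C.k r := by
  rw [← C.conj r x hr, inv_mul_cancel_right]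

theorem Crd.t_k {r : F} (hr : r ≠ 0) : t * C.k r = C.k r⁻¹ * t := by
  rw [← C.tk r hr, mul_assoc _ t t, h.setup.mul_self, mul_one]

theorem Crd.z_inj_pt {x y : F} (e : C.z x • t • a = C.z y • t • a) : x = y :=
  C.z_inj _ _ (eq_of_smul h.setup (C.z_mem_Q h x) (C.z_mem_Q h y) (smul_ne h.setup) e)

theorem Crd.z_ne_a (x : F) : C.z x • t • a ≠ a :=
  smul_ne_of_ne h.setup (C.z_mem_Q h x) (smul_ne h.setup)

theorem Crd.rep_z (x : F) : C.Rep (C.z x) (eU x) := fun v _ => by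
  have e1 : ((eU x : SL2 F).1 *ᵥ v) 1 = v 1 := by simp [eU, Matrix.mulVec, dotProduct]
  have e0 : ((eU x : SL2 F).1 *ᵥ v) 0 = v 0 + x * v 1 := by simp [eU, Matrix.mulVec, dotProduct]
  by_cases hv : v 1 = 0
  · rw [C.pt_a hv, C.pt_a (e1.trans hv), C.z_fix_a h]
  · rw [C.pt_z hv, C.pt_z (by rwa [e1]), e0, e1, smul_smul, ← C.z_add]
    congr 2
    field_simp
    ring

theorem Crd.rep_k {r : F} (hr : r ≠ 0) : C.Rep (C.k r) (eD r hr) := fun v _ => by
  have e1 : ((eD r hr : SL2 F).1 *ᵥ v) 1 = r⁻¹ * v 1 := by simp [eD, Matrix.mulVec, dotProduct]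
  have e0 : ((eD r hr : SL2 F).1 *ᵥ v) 0 = r * v 0 := by simp [eD, Matrix.mulVec, dotProduct]
  by_cases hv : v 1 = 0
  · rw [C.pt_a hv, C.pt_a (by rw [e1, hv, mul_zero]), (C.k_fix h hr).1]
  · rw [C.pt_z hv, C.pt_z (by rw [e1]; exact mul_ne_zero (inv_ne_zero hr) hv), e0, e1, smul_smul,
      C.k_z h hr, mul_smul, (C.k_fix h hr).2]
    congr 2
    field_simp

theorem Crd.rep_t : C.Rep t (eT : SL2 F) := fun v hv => by
  have e1 : ((eT : SL2 F).1 *ᵥ v) 1 = v 0 := by simp [eT, Matrix.mulVec, dotProduct]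
  have e0 : ((eT : SL2 F).1 *ᵥ v) 0 = v 1 := by simp [eT, Matrix.mulVec, dotProduct]
  by_cases h1 : v 1 = 0
  · have h0 : v 0 ≠ 0 := fun e => hv (funext fun i => by fin_cases i <;> assumption)
    rw [C.pt_a h1, C.pt_z (by rwa [e1]), e0, h1, zero_div, C.z_zero, one_smul]
  · rw [C.pt_z h1]
    by_cases h0 : v 0 = 0
    · rw [C.pt_a (e1.trans h0), h0, zero_div, C.z_zero, one_smul, smul_smul_self h.setup]
    · have hu : v 0 / v 1 ≠ 0 := div_ne_zero h0 h1
      rw [C.pt_z (by rwa [e1]), e0, e1, smul_smul, smul_smul, C.tzt _ hu, mul_smul, mul_smul, mul_smul,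
        C.z_fix_a h, (C.k_fix h (inv_ne_zero hu)).2, inv_div]

/-- The normal form of the subgroup generated by the involutions and `t`. -/
theorem Crd.normal_form {g : G} (hg : g ∈ Subgroup.closure (Set.range C.z ∪ {t})) :
    (∃ r x, r ≠ 0 ∧ g = C.k r * C.z x) ∨ ∃ y r x, r ≠ 0 ∧ g = C.z y * t * C.k r * C.z x := by
  have hz : ∀ (y : F) (g : G),
      ((∃ r x, r ≠ 0 ∧ g = C.k r * C.z x) ∨ ∃ y r x, r ≠ 0 ∧ g = C.z y * t * C.k r * C.z x) →
      ((∃ r x, r ≠ 0 ∧ C.z y * g = C.k r * C.z x) ∨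
        ∃ y' r x, r ≠ 0 ∧ C.z y * g = C.z y' * t * C.k r * C.z x) := by
    rintro y g (⟨r, x, hr, rfl⟩ | ⟨y', r, x, hr, rfl⟩)
    · refine .inl ⟨r, r⁻¹ * r⁻¹ * y + x, hr, ?_⟩
      rw [← mul_assoc, C.z_add, ← mul_assoc, C.k_z h hr]
      congr 3
      field_simp
    · refine .inr ⟨y + y', r, x, hr, ?_⟩
      rw [C.z_add]; group
  have ht : ∀ g : G,
      ((∃ r x, r ≠ 0 ∧ g = C.k r * C.z x) ∨ ∃ y r x, r ≠ 0 ∧ g = C.z y * t * C.k r * C.z x) →
      ((∃ r x, r ≠ 0 ∧ t * g = C.k r * C.z x) ∨ ∃ y r x, r ≠ 0 ∧ t * g = C.z y * t * C.k r * C.z x) := by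
    rintro g (⟨r, x, hr, rfl⟩ | ⟨y, r, x, hr, rfl⟩)
    · exact .inr ⟨0, r, x, hr, by rw [C.z_zero]; group⟩
    · by_cases hy : y = 0
      · exact .inl ⟨r, x, hr, by rw [hy, C.z_zero, one_mul, ← mul_assoc, ← mul_assoc, h.setup.mul_self, one_mul]⟩
      · have hy' := inv_ne_zero hy
        refine .inr ⟨y⁻¹, (y⁻¹)⁻¹ * r, r⁻¹ * r⁻¹ * y⁻¹ + x, mul_ne_zero (inv_ne_zero hy') hr, ?_⟩
        have e1 : C.z y⁻¹ * C.k r = C.k r * C.z (r⁻¹ * r⁻¹ * y⁻¹) := by
          rw [C.k_z h hr]; congr 2; field_simp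
        have e2 : C.k y⁻¹ * t = t * C.k (y⁻¹)⁻¹ := by
          rw [C.t_k h (inv_ne_zero hy'), inv_inv (y⁻¹)]
        calc t * (C.z y * t * C.k r * C.z x) = (t * C.z y * t) * C.k r * C.z x := by group
          _ = C.z y⁻¹ * (C.k y⁻¹ * t) * (C.z y⁻¹ * C.k r) * C.z x := by rw [C.tzt y hy]; group
          _ = C.z y⁻¹ * (t * C.k (y⁻¹)⁻¹) * (C.k r * C.z (r⁻¹ * r⁻¹ * y⁻¹)) * C.z x := by rw [e1, e2]
          _ = C.z y⁻¹ * t * (C.k (y⁻¹)⁻¹ * C.k r) * (C.z (r⁻¹ * r⁻¹ * y⁻¹) * C.z x) := by group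
          _ = _ := by rw [← C.k_mul _ _ (inv_ne_zero hy') hr, ← C.z_add]
  induction hg using Subgroup.closure_induction_left with
  | one => exact .inl ⟨1, 0, one_ne_zero, by rw [C.k_one, C.z_zero, one_mul]⟩
  | mul_left x hx y _ ih =>
    rcases hx with ⟨w, rfl⟩ | hx
    · exact hz w y ih
    · rw [Set.mem_singleton_iff.1 hx]; exact ht y ih
  | inv_mul_cancel x hx y _ ih =>
    rcases hx with ⟨w, rfl⟩ | hx
    · rw [C.z_inv h]; exact hz w y ih
    · rw [Set.mem_singleton_iff.1 hx, t_inv h.setup]; exact ht y ih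

/-- An element of the subgroup fixing the line pointwise is trivial. -/
theorem Crd.eq_one_of_rep {g : G} (hg : g ∈ Subgroup.closure (Set.range C.z ∪ {t})) (hr : C.Rep g 1) :
    g = 1 := by
  have hfix : ∀ p ∈ C.Bs, g • p = p := fun p hp => by
    obtain ⟨v, hv, rfl⟩ := C.exists_pt hp
    rw [hr v hv, Matrix.SpecialLinearGroup.coe_one, Matrix.one_mulVec]
  rcases C.normal_form h hg with ⟨r, x, hr0, rfl⟩ | ⟨y, r, x, hr0, rfl⟩
  · have e1 := hfix (t • a) (.inr ⟨0, by rw [C.z_zero, one_smul]⟩)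
    rw [C.k_z h hr0, mul_smul, (C.k_fix h hr0).2] at e1
    have hx : x = 0 := by
      have := C.z_inj_pt h (x := r * r * x) (y := 0) (by rw [e1, C.z_zero, one_smul])
      simpa [hr0] using this
    have e2 := hfix (C.z 1 • t • a) (.inr ⟨1, rfl⟩)
    rw [hx, C.z_zero, mul_one, smul_smul, C.k_z h hr0, mul_smul, (C.k_fix h hr0).2] at e2
    have e3 := C.z_inj_pt h e2
    have hr1 : r = 1 := by
      have : (r - 1) * (r - 1) = 0 := by linear_combination e3 - add_self₂ r + add_self₂ (1 : F)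
      exact sub_eq_zero.1 (mul_self_eq_zero.1 this)
    rw [hx, hr1, C.k_one, C.z_zero, one_mul]
  · exfalso
    have e1 := hfix a (.inl rfl)
    rw [mul_smul, C.z_fix_a h, mul_smul, (C.k_fix h hr0).1, mul_smul] at e1
    exact C.z_ne_a h y e1

theorem Crd.k_mem_closure {r : F} (hr : r ≠ 0) : C.k r ∈ Subgroup.closure (Set.range C.z ∪ {t}) := by
  have ht : t ∈ Subgroup.closure (Set.range C.z ∪ {t}) := Subgroup.subset_closure (.inr rfl)
  have hz : ∀ x, C.z x ∈ Subgroup.closure (Set.range C.z ∪ {t}) := fun x =>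
    Subgroup.subset_closure (.inl ⟨x, rfl⟩)
  have e := C.tzt r⁻¹ (inv_ne_zero hr)
  rw [inv_inv] at e
  have : C.k r = (C.z r)⁻¹ * (t * C.z r⁻¹ * t) * (C.z r)⁻¹ * t⁻¹ := by rw [e]; group
  rw [this]
  exact mul_mem (mul_mem (mul_mem (inv_mem (hz r)) (mul_mem (mul_mem ht (hz _)) ht)) (inv_mem (hz r)))
    (inv_mem ht)

/-- The copy of `SL(2, q)`. -/
theorem Crd.exists_hom : ∃ Φ : SL2 F →* G, Function.Injective Φ ∧ (∀ M, C.Rep (Φ M) M) ∧
    (∀ x, Φ (eU x) = C.z x) ∧ (∀ r hr, Φ (eD r hr) = C.k r) ∧ Φ eT = t ∧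
    ∀ M, Φ M ∈ Subgroup.closure (Set.range C.z ∪ {t}) := by
  classical
  let S := Subgroup.closure (Set.range C.z ∪ {t})
  have ht : t ∈ S := Subgroup.subset_closure (.inr rfl)
  have hz : ∀ x, C.z x ∈ S := fun x => Subgroup.subset_closure (.inl ⟨x, rfl⟩)
  have hex : ∀ M : SL2 F, ∃ g ∈ S, C.Rep g M := by
    intro M
    have hd := SL2.det_eq M
    by_cases h10 : M.1 1 0 = 0
    · obtain ⟨h00, h11⟩ := SL2.diag_ne_zero M h10
      refine ⟨C.z (M.1 0 1 * M.1 0 0) * C.k (M.1 0 0), mul_mem (hz _) (C.k_mem_closure h h00), ?_⟩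
      have e : M = eU (M.1 0 1 * M.1 0 0) * eD (M.1 0 0) h00 := by
        refine Subtype.ext ?_
        simp only [SL2.val_mul]
        ext i j
        fin_cases i <;> fin_cases j <;> simp [eU, eD, Matrix.mul_apply, Fin.sum_univ_two, h10, h11, h00]
      have h' := Crd.Rep.mul C (C.rep_z h (M.1 0 1 * M.1 0 0)) (C.rep_k h h00)
      rwa [← e] at h'
    · refine ⟨C.z (M.1 0 0 / M.1 1 0) * t * C.k (M.1 1 0) * C.z (M.1 1 1 / M.1 1 0),
        mul_mem (mul_mem (mul_mem (hz _) ht) (C.k_mem_closure h h10)) (hz _), ?_⟩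
      have e : M = eU (M.1 0 0 / M.1 1 0) * eT * eD (M.1 1 0) h10 * eU (M.1 1 1 / M.1 1 0) := by
        refine Subtype.ext ?_
        simp only [SL2.val_mul]
        ext i j
        fin_cases i <;> fin_cases j <;> simp [eU, eD, eT, Matrix.mul_apply, Fin.sum_univ_two] <;>
          field_simp
        linear_combination add_self₂ (M.1 0 1 * M.1 1 0) - hd - add_self₂ (1 : F)
      have h' := Crd.Rep.mul C (Crd.Rep.mul C (Crd.Rep.mul C (C.rep_z h (M.1 0 0 / M.1 1 0)) (C.rep_t h))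
        (C.rep_k h h10)) (C.rep_z h (M.1 1 1 / M.1 1 0))
      rwa [← e] at h'
  choose φ hφS hφ using hex
  have huniq : ∀ g M, g ∈ S → C.Rep g M → φ M = g := by
    intro g M hgS hg
    have h1 : C.Rep (φ M * g⁻¹) 1 := fun v hv => by
      have hv' := Crd.mem_SL_ne_zero M⁻¹ hv
      have e : g⁻¹ • C.pt v = C.pt ((M⁻¹ : SL2 F).1 *ᵥ v) := by
        rw [inv_smul_eq_iff, hg _ hv', Matrix.mulVec_mulVec, ← Matrix.SpecialLinearGroup.coe_mul,
          mul_inv_cancel, Matrix.SpecialLinearGroup.coe_one, Matrix.one_mulVec]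
      rw [mul_smul, e, hφ M _ hv', Matrix.mulVec_mulVec, ← Matrix.SpecialLinearGroup.coe_mul, mul_inv_cancel]
    exact mul_inv_eq_one.1 (C.eq_one_of_rep h (mul_mem (hφS M) (inv_mem hgS)) h1)
  let Φ : SL2 F →* G :=
    { toFun := φ
      map_one' := huniq 1 1 (one_mem S) fun v _ => by simp
      map_mul' := fun M M' => huniq _ _ (mul_mem (hφS M) (hφS M')) (Crd.Rep.mul C (hφ M) (hφ M')) }
  refine ⟨Φ, (injective_iff_map_eq_one Φ).2 fun M hM => ?_, hφ, fun x => huniq _ _ (hz x) (C.rep_z h x),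
    fun r hr => huniq _ _ (C.k_mem_closure h hr) (C.rep_k h hr), huniq _ _ ht (C.rep_t h), hφS⟩
  -- a matrix acting trivially is the identity
  have hr := hφ M
  rw [show φ M = 1 from hM] at hr
  have h0 := hr ![1, 0] (fun e => one_ne_zero (congrFun e 0))
  rw [one_smul, C.pt_a (v := ![1, 0]) (by simp)] at h0
  have h10 : M.1 1 0 = 0 := by
    by_contra hne
    rw [C.pt_z (by simpa [Matrix.mulVec, dotProduct, Fin.sum_univ_two] using hne)] at h0
    exact C.z_ne_a h _ h0.symm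
  obtain ⟨h00, h11⟩ := SL2.diag_ne_zero M h10
  have h1 := hr ![0, 1] (fun e => one_ne_zero (congrFun e 1))
  rw [one_smul, C.pt_z (v := ![0, 1]) (by simp),
    C.pt_z (by simp [Matrix.mulVec, dotProduct, Fin.sum_univ_two, h11, h00])] at h1
  have h01 : M.1 0 1 = 0 := by
    have := C.z_inj_pt h h1
    simpa [Matrix.mulVec, dotProduct, Fin.sum_univ_two, h11, h00, eq_comm] using this
  have h2 := hr ![1, 1] (fun e => one_ne_zero (congrFun e 1))
  rw [one_smul, C.pt_z (v := ![1, 1]) (by simp),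
    C.pt_z (by simp [Matrix.mulVec, dotProduct, Fin.sum_univ_two, h10, h11, h00])] at h2
  have h2' := C.z_inj_pt h h2
  simp [Matrix.mulVec, dotProduct, Fin.sum_univ_two, h10, h11, h01] at h2'
  have h00' : M.1 0 0 = 1 := by
    have : (M.1 0 0 - 1) * (M.1 0 0 - 1) = 0 := by
      linear_combination -h2' - add_self₂ (M.1 0 0) + add_self₂ (1 : F)
    exact sub_eq_zero.1 (mul_self_eq_zero.1 this)
  ext i j
  fin_cases i <;> fin_cases j <;> simp [h10, h01, h11, h00']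

end

end Cfsg.Lib.RankOneSuzuki
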