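import Cfsg.Agent.Lib.RankOneSuzuki.UnitaryRegular

/-!
# Suzuki's rank-one theorem, `Ww ≠ ⊥`: `Q` modulo its involutions as the field of order `q²`

An element `g₀` generating the inverted elements times a cyclic subgroup of prime order `ℓ` of `Ww` acts
irreducibly on `Q / Zz`, which becomes a line over the field with `q²` elements.
-/

set_option autoImplicit false
set_option linter.unusedSectionVars false
set_option linter.style.haveILetI false

namespace Cfsg.Lib.RankOneSuzuki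

open Cfsg Cfsg.Lib.Linear.RankOne

universe u v

variable {G : Type u} {Ω : Type v} [Group G] [MulAction G Ω] [Finite G] [FaithfulSMul G Ω] {a : Ω} {t : G}
  {Q : Subgroup G} {F : Type} [Field F] [Fintype F] [CharP F 2]

/-- `Q / Zz` as a field. -/
structure QMod (U : UData a t Q F) (w : G) (ℓ : ℕ) (L : Type) [Field L] where
  /-- the coordinate -/
  A : G → L
  /-- the generator -/
  g₀ : G
  /-- its scalar -/
  θ : L
  /-- its order -/
  N : ℕ
  g₀_mem : g₀ ∈ Dd a t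
  N_odd : Odd N
  g₀_pow : g₀ ^ N = 1
  A_mul : ∀ x ∈ Q, ∀ y ∈ Q, A (x * y) = A x + A y
  A_ker : ∀ x ∈ Q, A x = 0 ↔ x ∈ Zz G a
  A_surj : ∀ α, ∃ x ∈ Q, A x = α
  A_g₀ : ∀ x ∈ Q, A (g₀ * x * g₀⁻¹) = θ * A x
  θ_faith : ∀ i : ℕ, θ ^ i = 1 → g₀ ^ i = 1
  k_pow : ∀ r, r ≠ 0 → ∃ i : ℕ, g₀ ^ i = U.C.k r
  w_pow : ∃ i : ℕ, g₀ ^ i = w
  real_pow : ∀ lam : L, lam ^ (2 ^ U.n - 1) = 1 → ∃ (i : ℕ) (r : F), r ≠ 0 ∧ g₀ ^ i = U.C.k r ∧ θ ^ i = lam

theorem UData.exists_qmod (U : UData a t Q F) {w : G} {ℓ : ℕ} (hw : w ∈ Ww a t) (hw1 : w ≠ 1)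
    (hwℓ : w ^ ℓ = 1) (hℓ : ℓ.Prime) (hodd : Odd ℓ) (hℓq : ℓ ∣ 2 ^ U.n + 1) (L : Type) [Field L]
    [Fintype L] (hL : Fintype.card L = (2 ^ U.n) ^ 2) : Nonempty (QMod U w ℓ L) := by
  classical
  have h := U.hyp
  have hn := U.two_le
  haveI : Fact ℓ.Prime := ⟨hℓ⟩
  have hq4 : 4 ≤ 2 ^ U.n := le_trans (by norm_num) (Nat.pow_le_pow_right two_pos hn)
  have hcK : Nat.card (Kk a t) = 2 ^ U.n - 1 := by have := h.card_Kk; rw [U.card_Zz] at this; omega
  obtain ⟨k₀, -, hKz, -⟩ := h.gen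
  have hk₀ : k₀ ∈ Kk a t := by rw [hKz]; exact Subgroup.mem_zpowers _
  have hok : orderOf k₀ = 2 ^ U.n - 1 := by rw [← Nat.card_zpowers, ← hKz, hcK]
  have how : orderOf w = ℓ := orderOf_eq_prime hwℓ hw1
  have hcop : Nat.Coprime (2 ^ U.n - 1) ℓ := by
    refine ((hℓ.coprime_iff_not_dvd).2 fun hd => ?_).symm
    have h2 := Nat.dvd_sub hℓq hd
    rw [show 2 ^ U.n + 1 - (2 ^ U.n - 1) = 2 by omega] at h2
    obtain rfl := (Nat.prime_dvd_prime_iff_eq hℓ Nat.prime_two).1 h2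
    exact absurd hodd (by decide)
  have hcomm : Commute k₀ w := h.Ww_comm hw hk₀
  obtain ⟨g₀, hg₀⟩ : ∃ g, g = k₀ * w := ⟨_, rfl⟩
  have hog : orderOf g₀ = (2 ^ U.n - 1) * ℓ := by
    rw [hg₀, hcomm.orderOf_mul_eq_mul_orderOf_of_coprime (by rwa [hok, how]), hok, how]
  have hg₀D : g₀ ∈ Dd a t := hg₀ ▸ mul_mem (h.Kk_le hk₀) hw.1.1
  have hNodd : Odd ((2 ^ U.n - 1) * ℓ) :=
    (Nat.Even.sub_odd (by omega) (Even.pow_of_ne_zero even_two (by omega)) odd_one).mul hodd
  -- the powers giving `k₀` and `w`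
  obtain ⟨α, hα⟩ : ∃ α : ℕ, g₀ ^ α = k₀ := by
    obtain ⟨m, hm⟩ := Nat.exists_mul_mod_eq_one_of_coprime hcop.symm (by omega)
    refine ⟨ℓ * m, ?_⟩
    rw [hg₀, hcomm.mul_pow, pow_mul w, hwℓ, one_pow, mul_one, ← pow_mod_orderOf, hok, hm.2, pow_one]
  obtain ⟨β, hβ⟩ : ∃ β : ℕ, g₀ ^ β = w := by
    obtain ⟨m, hm⟩ := Nat.exists_mul_mod_eq_one_of_coprime hcop hℓ.one_lt
    refine ⟨(2 ^ U.n - 1) * m, ?_⟩
    rw [hg₀, hcomm.mul_pow, pow_mul k₀, ← hok, pow_orderOf_eq_one, one_pow, one_mul, ← pow_mod_orderOf w,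
      how, hok, hm.2, pow_one]
  -- the quotient
  have hab := h.not_comm_Q U.isP U.ne_bot
  obtain ⟨hsq, hcm, -, -⟩ := h.suzuki_facts (h.twoSub_self U.isP) hab
  let Z' := (Zz G a).subgroupOf Q
  haveI hZn : Z'.Normal := ⟨fun z hz x => by
    show (x : G) * (z : G) * (x : G)⁻¹ ∈ Zz G a
    have hz' : (z : G) ∈ Zz G a := hz
    rw [show (x : G) * (z : G) = (z : G) * x from (h.Zz_central hz' x.2).symm, mul_inv_cancel_right]
    exact hz'⟩
  letI : CommGroup (Q ⧸ Z') := { (inferInstance : Group (Q ⧸ Z')) with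
    mul_comm := fun x y => by
      obtain ⟨x, rfl⟩ := QuotientGroup.mk'_surjective Z' x
      obtain ⟨y, rfl⟩ := QuotientGroup.mk'_surjective Z' y
      rw [← map_mul, ← map_mul]
      refine QuotientGroup.eq.2 ?_
      show ((x : G) * y)⁻¹ * ((y : G) * x) ∈ Zz G a
      have := hcm y y.2 x x.2
      rwa [show ((x : G) * y)⁻¹ * ((y : G) * x) = (y : G)⁻¹ * (x : G)⁻¹ * y * x by group] }
  let V := Additive (Q ⧸ Z')
  let mk : Q → V := fun x => Additive.ofMul (x : Q ⧸ Z')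
  have hmk : ∀ x y : Q, mk (x * y) = mk x + mk y := fun x y => rfl
  have hmks : Function.Surjective mk := fun v => by
    obtain ⟨x, hx⟩ := QuotientGroup.mk'_surjective Z' (Additive.toMul v)
    exact ⟨x, congrArg Additive.ofMul hx⟩
  have hmk0 : ∀ x : Q, mk x = 0 ↔ (x : G) ∈ Zz G a := fun x => QuotientGroup.eq_one_iff x
  haveI : Finite V := inferInstanceAs (Finite (Q ⧸ Z'))
  have hadd : ∀ v : V, v + v = 0 := fun v => by
    obtain ⟨x, rfl⟩ := hmks v
    rw [← hmk, hmk0]; exact hsq x x.2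
  -- the conjugations
  let cQ : Dd a t →* MulAut Q :=
    { toFun := fun d =>
        { toFun := fun x => ⟨(d : G) * x * (d : G)⁻¹, h.setup.conj_mem d d.2.1 x x.2⟩
          invFun := fun x => ⟨(d : G)⁻¹ * x * (d : G)⁻¹⁻¹, h.setup.conj_mem _ (inv_mem d.2).1 x x.2⟩
          left_inv := fun x => Subtype.ext (by simp [mul_assoc])
          right_inv := fun x => Subtype.ext (by simp [mul_assoc])
          map_mul' := fun x y => Subtype.ext (by simp [mul_assoc]) }
      map_one' := MulEquiv.ext fun x => Subtype.ext (by simp)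
      map_mul' := fun d d' => MulEquiv.ext fun x => Subtype.ext (by simp [mul_assoc]) }
  have hcQ : ∀ (d : Dd a t) (x : Q), ((cQ d x : Q) : G) = (d : G) * x * (d : G)⁻¹ := fun _ _ => rfl
  have hcQZ : ∀ d : Dd a t, Z' ≤ Z'.comap (cQ d).toMonoidHom := fun d x hx => h.Zz_conj d.2.1 hx
  let c : Dd a t →* AddMonoid.End V :=
    { toFun := fun d => MonoidHom.toAdditive (QuotientGroup.map Z' Z' (cQ d).toMonoidHom (hcQZ d))
      map_one' := AddMonoidHom.ext fun v => by
        obtain ⟨x, rfl⟩ := hmks v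
        exact congrArg mk (show cQ 1 x = x by rw [map_one]; rfl)
      map_mul' := fun d d' => AddMonoidHom.ext fun v => by
        obtain ⟨x, rfl⟩ := hmks v
        exact congrArg mk (show cQ (d * d') x = cQ d (cQ d' x) by rw [map_mul]; rfl) }
  have hc : ∀ (d : Dd a t) (x : Q), c d (mk x) = mk (cQ d x) := fun _ _ => rfl
  let γ : Dd a t := ⟨g₀, hg₀D⟩
  obtain ⟨φ, hφ⟩ : ∃ φ : AddMonoid.End V, φ = c γ := ⟨_, rfl⟩
  -- the action is free
  have hfree : ∀ (i : ℕ) (v : V), v ≠ 0 → (φ ^ i) v = v → g₀ ^ i = 1 := by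
    intro i v hv hfix
    obtain ⟨x, rfl⟩ := hmks v
    rw [hφ, ← map_pow, hc] at hfix
    have hfix' := QuotientGroup.eq.1 (Additive.ofMul.injective hfix).symm
    have hfix'' : (x : G)⁻¹ * (g₀ ^ i * (x : G) * (g₀ ^ i)⁻¹) ∈ Zz G a := by
      have h' : ((x⁻¹ * cQ (γ ^ i) x : Q) : G) ∈ Zz G a := hfix'
      rwa [Subgroup.coe_mul, Subgroup.coe_inv, hcQ, SubmonoidClass.coe_pow] at h'
    rw [hg₀, hcomm.mul_pow] at hfix'' ⊢
    obtain ⟨hk, hwc⟩ := h.coset_fix (h.twoSub_self U.isP) ((Kk a t).pow_mem hk₀ i) ((Ww a t).pow_mem hw i)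
      x.2 (fun hx => hv ((hmk0 x).2 hx)) hfix''
    rw [hk, one_mul, h.eq_one_of_centralizes ((Dd a t).pow_mem hw.1.1 i) hwc]
  have hV : Nat.card V = (2 ^ U.n) ^ 2 := by
    have h1 := Subgroup.card_eq_card_quotient_mul_card_subgroup Z'
    rw [Nat.card_congr (Subgroup.subgroupOfEquivOfLe h.Zz_le).toEquiv, (h.card_Q_cube U.isP U.ne_bot).1,
      U.card_Zz, show (2 ^ U.n) ^ 3 = (2 ^ U.n) ^ 2 * 2 ^ U.n by ring] at h1
    exact (Nat.eq_of_mul_eq_mul_right (by omega) h1).symm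
  -- irreducibility
  have hirr : ∀ W : AddSubgroup V, (∀ v ∈ W, φ v ∈ W) → W ≠ ⊥ → W = ⊤ := by
    intro W hW hW0
    let H := Subgroup.zpowers γ
    have hWc : ∀ (x : H) (v : V), v ∈ W → c x v ∈ W := by
      intro x v hv
      obtain ⟨i, hi⟩ : ∃ i : ℕ, γ ^ i = (x : Dd a t) := by
        exact mem_powers_iff_mem_zpowers.2 x.2
      rw [← hi, map_pow, ← hφ]
      clear hi
      induction i with
      | zero => simpa using hv
      | succ i ih => rw [pow_succ']; exact hW _ ih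
    letI : MulAction H {v : W // v ≠ 0} :=
      { smul := fun x v => ⟨⟨c x v.1.1, hWc x _ v.1.2⟩, fun e => v.2 (Subtype.ext (by
          have e1 := congrArg (c ((x⁻¹ : H) : Dd a t))
            (show c (x : Dd a t) v.1.1 = 0 from congrArg Subtype.val e)
          rw [map_zero] at e1
          have e2 : (c ((x⁻¹ : H) : Dd a t) * c (x : Dd a t)) v.1.1 = 0 := e1
          rw [← map_mul, ← Subgroup.coe_mul, inv_mul_cancel, Subgroup.coe_one, map_one] at e2
          exact e2))⟩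
        one_smul := fun v => Subtype.ext (Subtype.ext (by show c ((1 : H) : Dd a t) _ = _; simp))
        mul_smul := fun x y v => Subtype.ext (Subtype.ext (by show c ((x * y : H) : Dd a t) _ = c _ (c _ _); simp)) }
    have hst : ∀ v : {v : W // v ≠ 0}, MulAction.stabilizer H v = ⊥ := by
      intro v
      refine (Subgroup.eq_bot_iff_forall _).2 fun x hx => ?_
      obtain ⟨i, hi⟩ : ∃ i : ℕ, γ ^ i = (x : Dd a t) := by
        exact mem_powers_iff_mem_zpowers.2 x.2
      have e : c x v.1.1 = v.1.1 := congrArg (fun u : {v : W // v ≠ 0} => u.1.1) hx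
      rw [← hi, map_pow, ← hφ] at e
      have := hfree i _ (fun e0 => v.2 (Subtype.ext e0)) e
      exact Subtype.ext (hi.symm.trans (Subtype.ext (by simpa [γ] using this)))
    have hH : Nat.card H = (2 ^ U.n - 1) * ℓ := by
      rw [Nat.card_zpowers, ← Subgroup.orderOf_coe]; exact hog
    haveI : Fintype W := Fintype.ofFinite W
    have hdvd : (2 ^ U.n - 1) * ℓ ∣ Nat.card W - 1 := by
      rw [← hH]
      have hcard : Nat.card {v : W // v ≠ 0} = Nat.card W - 1 := by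
        rw [Nat.card_eq_fintype_card, Fintype.card_subtype_compl, Fintype.card_subtype_eq,
          Nat.card_eq_fintype_card]
      haveI := Fintype.ofFinite (Quotient (MulAction.orbitRel H {v : W // v ≠ 0}))
      rw [← hcard, Nat.card_congr (MulAction.selfEquivSigmaOrbits H {v : W // v ≠ 0}), Nat.card_sigma]
      refine Finset.dvd_sum fun o _ => dvd_of_eq ?_
      have e := Nat.card_congr (MulAction.orbitProdStabilizerEquivGroup H o.out)
      rw [Nat.card_prod, hst, Subgroup.card_bot, mul_one] at e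
      exact e.symm
    obtain ⟨m, hm2, hm⟩ := (Nat.dvd_prime_pow Nat.prime_two).1 (show Nat.card W ∣ 2 ^ (U.n * 2) by
      rw [pow_mul, ← hV]; exact AddSubgroup.card_addSubgroup_dvd_card W)
    have hm0 : 0 < m := by
      refine Nat.pos_of_ne_zero fun e => hW0 ?_
      rw [e, pow_zero] at hm
      exact AddSubgroup.eq_bot_of_card_eq _ hm
    refine AddSubgroup.eq_top_of_card_eq _ ?_
    rw [hV, hm, ← pow_mul]
    congr 1
    rw [hm] at hdvd
    by_contra hne
    have h1 : 2 ^ U.n - 1 ∣ 2 ^ m - 1 := (dvd_mul_right _ _).trans hdvd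
    rcases Nat.lt_trichotomy m U.n with hlt | rfl | hgt
    · have := Nat.le_of_dvd (by have := Nat.one_lt_two_pow hm0.ne'; omega) h1
      have := Nat.pow_lt_pow_right (show 1 < 2 by norm_num) hlt
      have := Nat.one_lt_two_pow hm0.ne'
      omega
    · have h2 : ℓ ∣ 2 ^ U.n - 1 := (dvd_mul_left _ _).trans hdvd
      exact (hℓ.coprime_iff_not_dvd.1 hcop.symm) h2
    · obtain ⟨r, hr⟩ : ∃ r, m = r + U.n := ⟨m - U.n, by omega⟩
      have e : 2 ^ m - 1 = 2 ^ r * (2 ^ U.n - 1) + (2 ^ r - 1) := by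
        have h2r : 1 ≤ 2 ^ r := Nat.one_le_two_pow
        rw [hr, pow_add, Nat.mul_sub, mul_one]
        have := Nat.le_mul_of_pos_right (2 ^ r) (show 0 < 2 ^ U.n by omega)
        omega
      rw [e, Nat.dvd_add_right (dvd_mul_left _ _)] at h1
      have hr0 : r ≠ 0 := by omega
      have h3 := Nat.le_of_dvd (by have := Nat.one_lt_two_pow hr0; omega) h1
      have := Nat.pow_lt_pow_right (show 1 < 2 by norm_num) (show r < U.n by omega)
      have := Nat.one_lt_two_pow hr0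
      omega
  -- the field
  let R : Subring (AddMonoid.End V) := Subring.closure {φ}
  letI : CommRing R := Subring.closureCommRingOfComm (by
    intro x hx y hy; rw [Set.mem_singleton_iff] at hx hy; rw [hx, hy])
  have hφR : φ ∈ R := Subring.subset_closure rfl
  obtain ⟨e₀, he₀⟩ : ∃ e : V, e ≠ 0 := by
    haveI : Nontrivial V := Finite.one_lt_card_iff_nontrivial.1 (by rw [hV]; nlinarith)
    exact exists_ne 0
  have hinjR : ∀ r : R, r ≠ 0 → ∀ v : V, (r : AddMonoid.End V) v = 0 → v = 0 := by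
    intro r hr v hv
    by_contra hv0
    have hker : (r : AddMonoid.End V).ker = ⊤ := by
      refine hirr _ (fun u hu => ?_) fun e => hv0 ((AddSubgroup.eq_bot_iff_forall _).1 e v hv)
      show (r : AddMonoid.End V) (φ u) = 0
      have e : (r : AddMonoid.End V) * φ = φ * r := congrArg Subtype.val (mul_comm r ⟨φ, hφR⟩)
      have e2 := DFunLike.congr_fun e u
      simp only [AddMonoid.End.coe_mul, Function.comp_apply] at e2
      rw [e2, show (r : AddMonoid.End V) u = 0 from hu, map_zero]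
    exact hr (Subtype.ext (AddMonoidHom.ext fun u =>
      show (r : AddMonoid.End V) u = 0 from (hker ▸ AddSubgroup.mem_top u : u ∈ (r : AddMonoid.End V).ker)))
  let ev : R →+ V :=
    { toFun := fun r => (r : AddMonoid.End V) e₀, map_zero' := rfl, map_add' := fun _ _ => rfl }
  have hev : Function.Bijective ev := by
    refine ⟨fun r s e => ?_, ?_⟩
    · by_contra hne
      refine he₀ (hinjR (r - s) (sub_ne_zero.2 hne) e₀ ?_)
      show (r : AddMonoid.End V) e₀ - (s : AddMonoid.End V) e₀ = 0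
      exact sub_eq_zero.2 e
    · rw [← AddMonoidHom.range_eq_top]
      refine hirr _ ?_ fun e => he₀ ((AddSubgroup.eq_bot_iff_forall _).1 e _ ⟨1, rfl⟩)
      rintro _ ⟨r, rfl⟩
      exact ⟨⟨φ, hφR⟩ * r, rfl⟩
  haveI : Finite R := Finite.of_injective _ hev.1
  haveI : IsDomain R := by
    haveI : Nontrivial R := ⟨0, 1, fun e => he₀ (congrArg ev e).symm⟩
    haveI : NoZeroDivisors R := ⟨fun {r s} hrs => by
      by_contra hne
      rw [not_or] at hne
      have h1 : (r : AddMonoid.End V) ((s : AddMonoid.End V) e₀) = 0 := congrArg ev hrs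
      exact he₀ (hinjR s hne.2 e₀ (hinjR r hne.1 _ h1))⟩
    exact NoZeroDivisors.to_isDomain R
  letI : Fintype R := Fintype.ofFinite R
  letI : Field R := Fintype.fieldOfDomain R
  obtain ⟨Ψ⟩ : Nonempty (R ≃+* L) := ⟨FiniteField.ringEquivOfCardEq (by
    rw [hL, ← Nat.card_eq_fintype_card (α := R), Nat.card_eq_of_bijective _ hev, hV])⟩
  let A0 : V → L := fun v => Ψ ((AddEquiv.ofBijective ev hev).symm v)
  have hA0 : ∀ r : R, A0 ((r : AddMonoid.End V) e₀) = Ψ r := fun r => by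
    show Ψ ((AddEquiv.ofBijective ev hev).symm (ev r)) = Ψ r
    congr 1
    exact (AddEquiv.ofBijective ev hev).symm_apply_apply r
  have hA0s : ∀ v, ∃ r : R, (r : AddMonoid.End V) e₀ = v := fun v => hev.2 v
  let θ : L := Ψ ⟨φ, hφR⟩
  have hAφ : ∀ v, A0 (φ v) = θ * A0 v := fun v => by
    obtain ⟨r, rfl⟩ := hA0s v
    rw [hA0, show φ ((r : AddMonoid.End V) e₀) = ((⟨φ, hφR⟩ * r : R) : AddMonoid.End V) e₀ from rfl, hA0,
      map_mul]
  let A : G → L := fun x => if hx : x ∈ Q then A0 (mk ⟨x, hx⟩) else 0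
  have hA : ∀ (x : G) (hx : x ∈ Q), A x = A0 (mk ⟨x, hx⟩) := fun x hx => dif_pos hx
  have hθfaith : ∀ i : ℕ, θ ^ i = 1 → g₀ ^ i = 1 := by
    intro i hi
    refine hfree i e₀ he₀ ?_
    have e : (⟨φ, hφR⟩ : R) ^ i = 1 := Ψ.injective (by rw [map_pow, map_one]; exact hi)
    have e' : φ ^ i = 1 := by
      have := congrArg (fun r : R => (r : AddMonoid.End V)) e
      simpa using this
    rw [e']; rfl
  have hθpow : ∀ i : ℕ, g₀ ^ i = 1 → θ ^ i = 1 := by
    intro i hi
    have : φ ^ i = 1 := by rw [hφ, ← map_pow, show γ ^ i = 1 from Subtype.ext hi, map_one]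
    show Ψ ⟨φ, hφR⟩ ^ i = 1
    rw [← map_pow, show (⟨φ, hφR⟩ : R) ^ i = 1 from Subtype.ext (by simpa using this), map_one]
  refine ⟨
    { A := A, g₀ := g₀, θ := θ, N := (2 ^ U.n - 1) * ℓ, g₀_mem := hg₀D, N_odd := hNodd
      g₀_pow := by rw [← hog, pow_orderOf_eq_one]
      A_mul := fun x hx y hy => by
        rw [hA x hx, hA y hy, hA _ (mul_mem hx hy), show (⟨x * y, mul_mem hx hy⟩ : Q) = ⟨x, hx⟩ * ⟨y, hy⟩ from rfl,
          hmk]
        simp [A0]
      A_ker := fun x hx => by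
        rw [hA x hx, ← hmk0 ⟨x, hx⟩]
        simp [A0]
      A_surj := fun α => by
        obtain ⟨x, hx⟩ := hmks ((AddEquiv.ofBijective ev hev) (Ψ.symm α))
        refine ⟨x, x.2, ?_⟩
        rw [hA _ x.2]
        show A0 (mk x) = α
        rw [hx]
        exact (congrArg Ψ ((AddEquiv.ofBijective ev hev).symm_apply_apply _)).trans (Ψ.apply_symm_apply α)
      A_g₀ := fun x hx => by
        rw [hA _ (h.setup.conj_mem g₀ hg₀D.1 x hx), hA x hx, ← hAφ, hφ, hc]
        rfl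
      θ_faith := hθfaith
      k_pow := fun r hr => by
        have hr' := U.C.k_mem r hr
        rw [hKz, ← mem_powers_iff_mem_zpowers] at hr'
        obtain ⟨i, hi⟩ := hr'
        exact ⟨α * i, by rw [pow_mul, hα]; exact hi⟩
      w_pow := ⟨β, hβ⟩
      real_pow := fun lam hlam => ?_ }⟩
  have hprim : IsPrimitiveRoot (θ ^ α) (2 ^ U.n - 1) := by
    refine ⟨?_, fun l hl => ?_⟩
    · rw [← pow_mul]; refine hθpow _ ?_
      rw [pow_mul, hα, ← hok, pow_orderOf_eq_one]
    · rw [← pow_mul] at hl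
      have := hθfaith _ hl
      rw [pow_mul, hα] at this
      exact hok ▸ orderOf_dvd_of_pow_eq_one this
  haveI : NeZero (2 ^ U.n - 1) := ⟨by omega⟩
  obtain ⟨i, -, hi⟩ := hprim.eq_pow_of_pow_eq_one hlam
  obtain ⟨r, hr, hrk⟩ := U.C.k_surj _ ((Kk a t).pow_mem hk₀ i)
  exact ⟨α * i, r, hr, by rw [pow_mul, hα, hrk], by rw [pow_mul, hi]⟩

end Cfsg.Lib.RankOneSuzuki
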