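import Cfsg.Agent.Lib.RankOneSuzuki.UnitaryM0

/-!
# Suzuki's rank-one theorem, `Ww ≠ ⊥`: regularity off the line
-/

set_option autoImplicit false
set_option linter.unusedSectionVars false
set_option linter.style.haveILetI false

namespace Cfsg.Lib.RankOneSuzuki

open Cfsg Cfsg.Lib.Linear.RankOne Matrix

universe u v

variable {G : Type u} {Ω : Type v} [Group G] [MulAction G Ω] [Finite G] [FaithfulSMul G Ω] {a : Ω} {t : G}
  {Q : Subgroup G} {F : Type} [Field F] [Fintype F] [CharP F 2]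

/-- The facts about the case `Ww ≠ ⊥` that are used everywhere. -/
structure UData (a : Ω) (t : G) (Q : Subgroup G) (F : Type) [Field F] [Fintype F] [CharP F 2] where
  hyp : Hyp G Ω a t Q
  isP : IsPGroup 2 Q
  ne_bot : Ww a t ≠ ⊥
  C : Crd a t F
  /-- the copy of `SL(2, q)` -/
  Φ : SL2 F →* G
  inj : Function.Injective Φ
  rep : ∀ M, C.Rep (Φ M) M
  map_U : ∀ x, Φ (eU x) = C.z x
  map_D : ∀ r hr, Φ (eD r hr) = C.k r
  map_T : Φ eT = t
  mem : ∀ M, Φ M ∈ Subgroup.closure (Set.range C.z ∪ {t})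
  n : ℕ
  two_le : 2 ≤ n
  card : Fintype.card F = 2 ^ n
  card_Zz : Nat.card (Zz G a) = 2 ^ n

theorem Hyp.exists_udata (h : Hyp G Ω a t Q) (hQ : IsPGroup 2 Q) (hW : Ww a t ≠ ⊥) :
    ∃ (F : Type) (_ : Field F) (_ : Fintype F) (_ : CharP F 2), Nonempty (UData a t Q F) := by
  obtain ⟨n, F, _, _, hn, hF, hchar, hZ, ⟨C⟩⟩ := h.exists_crd hQ hW
  haveI := hchar
  obtain ⟨Φ, h1, h2, h3, h4, h5, h6⟩ := C.exists_hom h
  exact ⟨F, inferInstance, inferInstance, hchar, ⟨⟨h, hQ, hW, C, Φ, h1, h2, h3, h4, h5, h6, n, hn, hF, hZ⟩⟩⟩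

namespace UData

variable (U : UData a t Q F)
include U

theorem comm_W {w : G} (hw : w ∈ Ww a t) (M : SL2 F) : Commute w (U.Φ M) := by
  have hle : Subgroup.closure (Set.range U.C.z ∪ {t}) ≤ Subgroup.centralizer {w} := by
    rw [Subgroup.closure_le]
    rintro _ (⟨x, rfl⟩ | hx)
    · exact Subgroup.mem_centralizer_singleton_iff.2 ((U.hyp.mem_Ww.1 hw).2 _ (U.C.z_mem x))
    · rw [Set.mem_singleton_iff.1 hx]
      exact Subgroup.mem_centralizer_singleton_iff.2 (Subgroup.mem_centralizer_singleton_iff.1 hw.1.2).symm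
  exact (Subgroup.mem_centralizer_singleton_iff.1 (hle (U.mem M))).symm

theorem t_a_mem : t • a ∈ U.C.Bs := .inr ⟨0, by rw [U.C.z_zero, one_smul]⟩

theorem map_mem_Bs (M : SL2 F) {p : Ω} (hp : p ∈ U.C.Bs) : U.Φ M • p ∈ U.C.Bs := by
  obtain ⟨v, hv, rfl⟩ := U.C.exists_pt hp
  rw [U.rep M v hv]
  exact U.C.pt_mem _

theorem map_mem_Bs_iff (M : SL2 F) (p : Ω) : U.Φ M • p ∈ U.C.Bs ↔ p ∈ U.C.Bs := by
  refine ⟨fun hp => ?_, U.map_mem_Bs M⟩
  have := U.map_mem_Bs M⁻¹ hp
  rwa [map_inv, inv_smul_smul] at this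

theorem W_fix {w : G} (hw : w ∈ Ww a t) (hw1 : w ≠ 1) (p : Ω) : w • p = p ↔ p ∈ U.C.Bs := by
  constructor
  · intro hp
    by_cases hpa : p = a
    · exact .inl hpa
    obtain ⟨y, hy, rfl⟩ := exists_orbit U.hyp.setup hpa
    have hwy : w * y * w⁻¹ = y := by
      refine eq_of_smul U.hyp.setup (U.hyp.setup.conj_mem w hw.1.1.1 y hy) hy (smul_ne U.hyp.setup) ?_
      rw [mul_smul, mul_smul, show w⁻¹ • t • a = t • a from ((Dd a t).inv_mem hw.1.1).2, hp]
    have hyZ := U.hyp.mem_Zz_of_commute U.isP hw hw1 hy (mul_inv_eq_iff_eq_mul.1 hwy)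
    obtain ⟨x, hx⟩ := U.C.z_surj y hyZ
    exact .inr ⟨x, by rw [hx]⟩
  · rintro (rfl | ⟨x, rfl⟩)
    · exact hw.1.1.1
    · rw [smul_smul, ← (U.hyp.mem_Ww.1 hw).2 _ (U.C.z_mem x), mul_smul,
        show w • t • a = t • a from hw.1.1.2]

theorem exists_W : ∃ w ∈ Ww a t, w ≠ 1 := (Subgroup.bot_or_exists_ne_one _).resolve_left U.ne_bot

/-- The subgroup acts semiregularly off the line. -/
theorem semiregular {M : SL2 F} {c : Ω} (hc : c ∉ U.C.Bs) (hfix : U.Φ M • c = c) : M = 1 := by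
  have h := U.hyp
  by_contra hM
  by_cases h10 : M.1 1 0 = 0
  · obtain ⟨h00, h11⟩ := SL2.diag_ne_zero M h10
    have e : M = eU (M.1 0 1 * M.1 0 0) * eD (M.1 0 0) h00 := by
      refine Subtype.ext ?_
      simp only [SL2.val_mul]
      ext i j
      fin_cases i <;> fin_cases j <;> simp [eU, eD, Matrix.mul_apply, h10, h11, h00]
    generalize M.1 0 0 = r at h00 e
    generalize M.1 0 1 * r = y at e
    subst e
    rw [map_mul, U.map_U, U.map_D] at hfix
    by_cases hr : r = 1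
    · subst hr
      rw [U.C.k_one, mul_one] at hfix
      refine hc (.inl (fix_eq h.setup (U.C.z_mem_Q h y) (fun e => hM (U.inj ?_)) hfix))
      rw [map_mul, U.map_U, U.map_D, U.C.k_one, mul_one, e, map_one]
    · have hr2 : r * r + 1 ≠ 0 := fun e => hr (by
        have : (r - 1) * (r - 1) = 0 := by linear_combination e - add_self₂ r
        exact sub_eq_zero.1 (mul_self_eq_zero.1 this))
      obtain ⟨y', hy'⟩ : ∃ y', y' = y / (r * r + 1) := ⟨_, rfl⟩
      have e : U.C.z y * U.C.k r = U.C.z y' * U.C.k r * U.C.z y' := by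
        rw [mul_assoc, U.C.k_z h h00, ← mul_assoc, ← U.C.z_add]
        congr 2
        have hyy : y' * (r * r + 1) = y := by rw [hy', div_mul_cancel₀ _ hr2]
        linear_combination -hyy
      rw [e, mul_smul, mul_smul] at hfix
      have hk : U.C.k r • U.C.z y' • c = U.C.z y' • c := by
        have h2 := congrArg (U.C.z y' • ·) hfix
        rwa [smul_smul (U.C.z y') (U.C.z y'), U.C.z_self h, one_smul] at h2
      have hk1 : U.C.k r ≠ 1 := fun e1 => hr (by
        have h1 : U.Φ (eD r h00) = 1 := by rw [U.map_D, e1]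
        have := congrArg (fun N : SL2 F => N.1 0 0) ((injective_iff_map_eq_one U.Φ).1 U.inj _ h1)
        simpa [eD] using this)
      have hmem : U.C.k r ∈ Cfsg.invertedBy (Dd a t) t := by rw [← h.coe_Kk]; exact U.C.k_mem r h00
      rcases inverted_fix h.setup hmem hk1 hk with e1 | e1
      · refine hc (.inl ?_)
        exact MulAction.injective _ (e1.trans (U.C.z_fix_a h y').symm)
      · refine hc (.inr ⟨y', ?_⟩)
        rw [← e1, smul_smul, U.C.z_self h, one_smul]
  · have e : M = eU (M.1 0 0 / M.1 1 0) * eT * eD (M.1 1 0) h10 * eU (M.1 1 1 / M.1 1 0) := by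
      refine Subtype.ext ?_
      simp only [SL2.val_mul]
      have hd := SL2.det_eq M
      ext i j
      fin_cases i <;> fin_cases j <;> simp [eU, eD, eT, Matrix.mul_apply, Fin.sum_univ_two] <;>
        field_simp
      linear_combination add_self₂ (M.1 0 1 * M.1 1 0) - hd - add_self₂ (1 : F)
    generalize M.1 0 0 / M.1 1 0 = A at e
    generalize M.1 1 1 / M.1 1 0 = B at e
    generalize M.1 1 0 = r at h10 e
    subst e
    simp only [map_mul, U.map_U, U.map_D, U.map_T] at hfix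
    obtain ⟨c', hc'⟩ : ∃ c', c' = U.C.z B • c := ⟨_, rfl⟩
    have hc'B : c' ∉ U.C.Bs := by rw [hc', ← U.map_U, U.map_mem_Bs_iff]; exact hc
    obtain ⟨u, hu⟩ : ∃ u, u = U.C.z (B + A) := ⟨_, rfl⟩
    obtain ⟨v, hv⟩ : ∃ v, v = t * U.C.k r := ⟨_, rfl⟩
    have hx : (u * v) • c' = c' := by
      rw [hu, hv, hc', U.C.z_add, smul_smul,
        show U.C.z B * U.C.z A * (t * U.C.k r) * U.C.z B = U.C.z B * (U.C.z A * t * U.C.k r * U.C.z B) by group,
        mul_smul, hfix]
    have hv2 : v * v = 1 := by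
      rw [hv, ← mul_assoc]
      calc t * U.C.k r * t * U.C.k r = U.C.k r⁻¹ * U.C.k r := by rw [U.C.tk r h10]
        _ = 1 := by rw [← U.C.k_mul _ _ (inv_ne_zero h10) h10, inv_mul_cancel₀ h10, U.C.k_one]
    have hv1 : v ≠ 1 := fun e1 => smul_ne h.setup (by
      rw [hv] at e1
      have : t = (U.C.k r)⁻¹ := eq_inv_of_mul_eq_one_left e1
      rw [this]
      exact (inv_mem (h.Kk_le (U.C.k_mem r h10))).1)
    by_cases hy : B + A = 0
    · -- an involution fixing a point of the line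
      rw [hu, hy, U.C.z_zero, one_mul] at hx
      obtain ⟨x, hx'⟩ : ∃ x, x = r⁻¹ := ⟨_, rfl⟩
      have hx0 : x ≠ 0 := hx' ▸ inv_ne_zero h10
      have hfx : v • U.C.z x • t • a = U.C.z x • t • a := by
        rw [hv, mul_smul, smul_smul (U.C.k r), U.C.k_z h h10, mul_smul, (U.C.k_fix h h10).2,
          show r * r * x = r by rw [hx']; field_simp, smul_smul, smul_smul, U.C.tzt r h10, mul_smul,
          mul_smul, mul_smul, U.C.z_fix_a h, (U.C.k_fix h (inv_ne_zero h10)).2, hx']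
      exact hc'B (.inr ⟨x, (invol_fix h.setup hv1 hv2).unique hx hfx⟩)
    · -- a product of two involutions
      have hu1 : u ≠ 1 := fun e1 => hy (U.C.z_inj _ _ (by rw [← hu, e1, U.C.z_zero]))
      have hu2 : u * u = 1 := hu ▸ U.C.z_self h _
      have hxx : u * v * (u * v) ≠ 1 := by
        intro e1
        have he : U.Φ ((eU (B + A) * (eT * eD r h10)) * (eU (B + A) * (eT * eD r h10))) = 1 := by
          simp only [map_mul, U.map_U, U.map_D, U.map_T]
          rw [← hu, ← hv]; exact e1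
        have h2 := congrArg (fun N : SL2 F => N.1 1 0) ((injective_iff_map_eq_one U.Φ).1 U.inj _ he)
        simp only [SL2.val_mul] at h2
        simp [eU, eD, eT, Matrix.mul_apply, Fin.sum_univ_two, h10, hy] at h2
      obtain ⟨w, hw, hw1⟩ := U.exists_W
      have hodd : Odd (orderOf w) := Odd.of_dvd_nat h.setup.odd_card (Subgroup.orderOf_dvd_natCard _ hw.1.1)
      have hww1 : w * w ≠ 1 := fun e => hw1 (eq_one_of_sq_of_odd h.setup.odd_card hw.1.1 e)
      have hfixW : ∀ w' ∈ Ww a t, (u * v) • w' • c' = w' • c' := by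
        intro w' hw'
        have hcm : Commute w' (u * v) := by
          have := U.comm_W hw' (eU (B + A) * (eT * eD r h10))
          rwa [map_mul, map_mul, U.map_U, U.map_D, U.map_T, ← hu, ← hv] at this
        rw [smul_smul, ← hcm.eq, mul_smul, hx]
      have hne : ∀ w' ∈ Ww a t, w' ≠ 1 → w' • c' ≠ c' := fun w' hw' h1 e => hc'B ((U.W_fix hw' h1 c').1 e)
      obtain ⟨g, hg1, hg2⟩ := exists_pair h.setup (hne w hw hw1).symm (smul_ne h.setup).symm
      obtain ⟨p, hp⟩ : ∃ p, p = g • (w * w) • c' := ⟨_, rfl⟩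
      have hxD : g * (u * v) * g⁻¹ ∈ Dd a t := by
        refine ⟨?_, ?_⟩ <;> show (g * (u * v) * g⁻¹) • _ = _
        · conv_lhs => rw [← hg1]
          rw [mul_smul, inv_smul_smul, mul_smul, hx, hg1]
        · conv_lhs => rw [← hg2]
          rw [mul_smul, inv_smul_smul, mul_smul, hfixW w hw, hg2]
      obtain ⟨d, hd, hdV⟩ := conj_into_V h.setup hxD (b := p)
        (fun e => hne (w * w) (mul_mem hw hw) hww1 (MulAction.injective g (show g • (w * w) • c' = g • c' by rw [← hp, e, hg1])))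
        (fun e => hne w hw hw1 (by
          have := MulAction.injective g (show g • (w * w) • c' = g • w • c' by rw [← hp, e, hg2])
          rw [mul_smul] at this
          exact MulAction.injective w this))
        (by rw [hp, mul_smul, inv_smul_smul, mul_smul, hfixW _ (mul_mem hw hw)])
      obtain ⟨t', ht'⟩ : ∃ t', t' = (d * g)⁻¹ * t * (d * g) := ⟨_, rfl⟩
      have ht'1 : t' ≠ 1 := fun e => h.setup.ne_one (by
        calc t = (d * g) * t' * (d * g)⁻¹ := by rw [ht']; group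
          _ = 1 := by rw [e]; group)
      have ht'2 : t' * t' = 1 := by
        calc t' * t' = (d * g)⁻¹ * (t * t) * (d * g) := by rw [ht']; group
          _ = 1 := by rw [h.setup.mul_self]; group
      have hcomm : t' * (u * v) = (u * v) * t' := by
        have e1 := Subgroup.mem_centralizer_singleton_iff.1 hdV.2
        calc t' * (u * v) = (d * g)⁻¹ * (t * (d * (g * (u * v) * g⁻¹) * d⁻¹)) * (d * g) := by rw [ht']; group
          _ = (d * g)⁻¹ * ((d * (g * (u * v) * g⁻¹) * d⁻¹) * t) * (d * g) := by rw [e1]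
          _ = (u * v) * t' := by rw [ht']; group
      have hoddC := (strongly_real h.setup h.two hu1 hu2 hv1 hv2 hxx).2
      have hdvd : orderOf t' ∣ Nat.card (Subgroup.centralizer {u * v}) :=
        Subgroup.orderOf_dvd_natCard _ (Subgroup.mem_centralizer_singleton_iff.2 hcomm)
      rw [Cfsg.Lib.Invol.orderOf_eq_two_of ht'1 ht'2, ← even_iff_two_dvd] at hdvd
      exact (Nat.not_even_iff_odd.2 hoddC) hdvd

theorem card_Bs : Nat.card U.C.Bs = Fintype.card F + 1 := by
  classical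
  rw [← Fintype.card_option, ← Nat.card_eq_fintype_card]
  refine (Nat.card_eq_of_bijective (fun o : Option F =>
    (match o with
      | none => ⟨a, .inl rfl⟩
      | some x => ⟨U.C.z x • t • a, .inr ⟨x, rfl⟩⟩ : U.C.Bs)) ⟨?_, ?_⟩).symm
  · rintro (_ | x) (_ | y) e <;> have e' := congrArg Subtype.val e <;> simp at e'
    · rfl
    · exact absurd e'.symm (U.C.z_ne_a U.hyp y)
    · exact absurd e' (U.C.z_ne_a U.hyp x)
    · exact congrArg some (U.C.z_inj_pt U.hyp e')
  · rintro ⟨p, rfl | ⟨x, rfl⟩⟩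
    · exact ⟨none, rfl⟩
    · exact ⟨some x, rfl⟩

theorem card_pts : Nat.card Ω = (2 ^ U.n) ^ 3 + 1 := by
  rw [Cfsg.Lib.Linear.RankOne.card_pts U.hyp.setup, (U.hyp.card_Q_cube U.isP U.ne_bot).1, U.card_Zz]

/-- The subgroup is regular off the line. -/
theorem regular {o p : Ω} (ho : o ∉ U.C.Bs) (hp : p ∉ U.C.Bs) : ∃! M, U.Φ M • o = p := by
  classical
  haveI := finite_pts U.hyp.setup
  let f : SL2 F → {q : Ω // q ∉ U.C.Bs} := fun M => ⟨U.Φ M • o, fun e => ho ((U.map_mem_Bs_iff M o).1 e)⟩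
  have hf : Function.Injective f := by
    intro M N e
    have e' : U.Φ M • o = U.Φ N • o := congrArg Subtype.val e
    have h1 : N⁻¹ * M = 1 := U.semiregular ho (by rw [map_mul, map_inv, mul_smul, e', inv_smul_smul])
    exact (inv_mul_eq_one.1 h1).symm
  have hcard : Nat.card {q : Ω // q ∉ U.C.Bs} ≤ Nat.card (SL2 F) := by
    have h1 : Nat.card Ω = Nat.card U.C.Bs + Nat.card {q : Ω // q ∉ U.C.Bs} := by
      rw [← Nat.card_sum]; exact (Nat.card_congr (Equiv.sumCompl (· ∈ U.C.Bs))).symm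
    rw [U.card_pts, U.card_Bs, U.card] at h1
    have hsl : Nat.card (SL2 F) = (2 ^ U.n) ^ 3 - 2 ^ U.n := by
      rw [Cfsg.Lib.Linear.Two.card_SL_two, U.card, Nat.mul_sub, mul_one]; ring_nf
    rw [hsl]; omega
  have hb := hf.bijective_of_nat_card_le hcard
  obtain ⟨M, hM⟩ := hb.2 ⟨p, hp⟩
  exact ⟨M, congrArg Subtype.val hM, fun N hN => hf (Subtype.ext (hN.trans (congrArg Subtype.val hM).symm))⟩

end UData

end Cfsg.Lib.RankOneSuzuki
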